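import Mathlib
import Cfsg.Prelude.Def_Blocks
import Cfsg.Prelude.Def_Characters
import Cfsg.Agent.Lib.helper20.D1EDefs

/-!
# Shared definitions for the S4503 project (Brauer: `p ∥ |G|`, faithful character of degree
`< (p-1)/2` forces a normal Sylow `p`-subgroup)

* `mu p x f b` : the "multiplicity" `p⁻¹ Σ_{i<p} f(x^i) ζ^{-b i}` of the eigenvalue `ζ^b` of `x`
  (for a character `f` and `x^p = 1` this is a natural number);
* `gper p H a` : the Gaussian period `Σ_{h ∈ H} ζ^{a h}` for `a : ZMod p` (`a = 0` allowed);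
* `Good p G ψ` : there is a normal subgroup containing an element of order `p` all of whose
  `p`-regular elements lie in the kernel of `ψ`;
* `PBData` : the conclusion of S4441 (structure of the principal block for `|P| = p`) as a structure.
-/

set_option autoImplicit false

namespace Cfsg.Agent.Lib.helper2.BF

open Cfsg Cfsg.Agent.Lib.helper20.D1E

/-- `mu p x f b = p⁻¹ Σ_{i<p} f(x^i) ζ^{-b i}`. -/
noncomputable def mu (p : ℕ) {G : Type*} [Group G] (x : G) (f : G → ℂ) (b : ZMod p) : ℂ :=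
  (p : ℂ)⁻¹ * ∑ i ∈ Finset.range p, f (x ^ i) * (zeta p ^ (b.val * i))⁻¹

/-- The Gaussian period `Σ_{h ∈ H} ζ^{a h}`, `a : ZMod p`. -/
noncomputable def gper (p : ℕ) (H : Subgroup (ZMod p)ˣ) (a : ZMod p) : ℂ :=
  ∑ᶠ h ∈ (H : Set (ZMod p)ˣ), zeta p ^ (a * (h : ZMod p)).val

/-- `mu` is `m` on the coset `a₀ H` and `0` elsewhere. -/
def OrbitMu (p : ℕ) {G : Type*} [Group G] (x : G) (H : Subgroup (ZMod p)ˣ) (f : G → ℂ)
    (a₀ : (ZMod p)ˣ) (m : ℕ) : Prop :=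
  ∀ b : ZMod p, mu p x f b =
    Set.indicator {b : ZMod p | ∃ h ∈ H, b = (a₀ : ZMod p) * ((h : (ZMod p)ˣ) : ZMod p)}
      (fun _ => (m : ℂ)) b

/-- The conclusion of the irreducible form of the theorem. -/
def Good (p : ℕ) (G : Type*) [Group G] (ψ : G → ℂ) : Prop :=
  ∃ N : Subgroup G, N.Normal ∧ (∃ x ∈ N, orderOf x = p) ∧
    ∀ y ∈ N, ¬ p ∣ orderOf y → ψ y = ψ 1

/-- The conclusion of S4441 as a structure. -/
structure PBData {G : Type*} [Group G] (p : ℕ) (M : Ideal AlgInt) (P : Sylow p G) (e : ℕ)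
    (X Y : Set (IrrCharacter G)) (εX : IrrCharacter G → ℤ) (ε : ℤ) : Prop where
  union : principalBlock M G = X ∪ Y
  disj : Disjoint X Y
  cardX : Nat.card X = e
  cardY : Nat.card Y = (p - 1) / e
  signX : ∀ χ ∈ X, εX χ = 1 ∨ εX χ = -1
  degX : ∀ χ ∈ X, (charDegree (χ : G → ℂ) : ℤ) ≡ εX χ [ZMOD p]
  valX : ∀ χ ∈ X, ∀ x : G, x ∈ (P : Subgroup G) → x ≠ 1 → ∀ y : G,
    y ∈ Subgroup.centralizer ((P : Subgroup G) : Set G) → ¬ p ∣ orderOf y →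
    (χ : G → ℂ) (x * y) = (εX χ : ℂ)
  signY : ε = 1 ∨ ε = -1
  degY : ∀ θ ∈ Y, (charDegree (θ : G → ℂ) : ℤ) ≡ ε * (e : ℤ) [ZMOD p]
  regY : ∀ θ ∈ Y, ∀ θ' ∈ Y, ∀ g : G, ¬ p ∣ orderOf g → (θ : G → ℂ) g = (θ' : G → ℂ) g
  relY : ∀ θ ∈ Y, ∀ g : G, ¬ p ∣ orderOf g →
    (ε : ℂ) * (θ : G → ℂ) g = ∑ᶠ χ ∈ X, (εX χ : ℂ) * (χ : G → ℂ) g

end Cfsg.Agent.Lib.helper2.BF
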