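import Mathlib
import Cfsg.Agent.Lib.helper2.BFDefs

/-!
# Shared definitions for the S4504 project (Brauer: `p ∥ |G|`, no normal subgroup of order `p`,
faithful character of degree `(p-1)/2` forces `G / Z(G) ≅ PSL(2, p)`)

* `SameCentral χ ψ` : `χ` and `ψ` have the same central character;
* `MainConcl p x P H ψ` : the conclusion of the main (character-theoretic) stage.
-/

set_option autoImplicit false

namespace Cfsg.Agent.Lib.helper2.BG

open Cfsg

/-- `χ` and `ψ` have the same central character: `χ(z)/χ(1) = ψ(z)/ψ(1)` for central `z`. -/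
def SameCentral {G : Type*} [Group G] (χ ψ : G → ℂ) : Prop :=
  ∀ z ∈ Subgroup.center G, χ z * ψ 1 = ψ z * χ 1

/-- The conclusion of the main stage: `e = (p-1)/2`, the Galois-conjugate class of `x` is
different, the `p`-regular elements of `C(P)` are central, and there are at most `p + 1`
Sylow `p`-subgroups. -/
def MainConcl (p : ℕ) {G : Type*} [Group G] (x : G) (P : Sylow p G) (H : Subgroup (ZMod p)ˣ)
    (ψ : G → ℂ) : Prop :=
  2 * Nat.card H + 1 = p ∧
  (∀ c : (ZMod p)ˣ, c ∉ H → ψ (x ^ ((c : ZMod p).val)) ≠ ψ x) ∧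
  (∀ k ∈ Subgroup.centralizer ((P : Subgroup G) : Set G), ¬ p ∣ orderOf k →
    k ∈ Subgroup.center G) ∧
  Nat.card (Sylow p G) ≤ p + 1

end Cfsg.Agent.Lib.helper2.BG
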