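import Mathlib
import Cfsg.Agent.Lib.helper2.BFDefs
import Cfsg.Agent.Lib.helper20.D1EFinal
import Cfsg.Agent.Lib.helper4.CharDecomp
import Cfsg.Agent.Lib.helper81.Kernel
import Cfsg.Agent.Lib.helper82.BFA1

set_option autoImplicit false

open Cfsg Cfsg.Agent.Lib.helper20.D1E
open scoped ComplexConjugate

namespace Cfsg.Agent.Lib.helper2.BF

variable {G : Type*} [Group G] [Fintype G]

/-- `Σ_{i<p} ζ^{b i}` is `p` for `b = 0` and `0` otherwise. -/
theorem helper2_sum_zeta_range (p : ℕ) [Fact p.Prime] (b : ZMod p) :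
    ∑ i ∈ Finset.range p, zeta p ^ (b.val * i) = if b = 0 then (p : ℂ) else 0 := by
  have hp : p.Prime := Fact.out
  haveI : NeZero p := ⟨hp.ne_zero⟩
  split_ifs with hb
  · subst hb; simp
  · have hbv : b.val ≠ 0 := fun h => hb ((ZMod.val_eq_zero b).mp h)
    have hcop : (b.val).Coprime p := by
      rw [Nat.coprime_comm]
      exact (Nat.Prime.coprime_iff_not_dvd hp).mpr
        (fun hdvd => hbv (Nat.eq_zero_of_dvd_of_lt hdvd (ZMod.val_lt b)))
    have hprim := (Cfsg.Agent.Lib.helper83.D1E.zeta_prim p).pow_of_coprime b.val hcop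
    have h1 := hprim.geom_sum_eq_zero hp.one_lt
    rw [← h1]
    refine Finset.sum_congr rfl fun i _ => ?_
    rw [pow_mul]

/-- B2. -/
theorem X_minus_ker (p : ℕ) [Fact p.Prime] (P : Sylow p G) (hP : Nat.card P = p)
    (x : G) (hx : x ∈ (P : Subgroup G)) (hx1 : x ≠ 1) (H : Subgroup (ZMod p)ˣ)
    (M : Ideal AlgInt) (X Y : Set (IrrCharacter G))
    (εX : IrrCharacter G → ℤ) (ε : ℤ) (hD : PBData p M P (Nat.card H) X Y εX ε)
    (ξ : IrrCharacter G) (hξ : ξ ∈ X) (hε : εX ξ = -1) (h0 : mu p x (ξ : G → ℂ) 0 = 0) :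
    (ξ : G → ℂ) x ≠ (ξ : G → ℂ) 1 ∧
      ∀ y ∈ Subgroup.centralizer ((P : Subgroup G) : Set G), ¬ p ∣ orderOf y →
        (ξ : G → ℂ) y = (ξ : G → ℂ) 1 := by
  classical
  have hp : p.Prime := Fact.out
  haveI : NeZero p := ⟨hp.ne_zero⟩
  have hpne : (p : ℂ) ≠ 0 := by exact_mod_cast hp.ne_zero
  obtain ⟨hxp, hxu⟩ := basic_x p P hP x hx hx1
  have hχc : IsCharacter G (ξ : G → ℂ) := Cfsg.Agent.Lib.helper81.irr_isCharacter ξ
  have hval : ∀ i : ℕ, ¬ p ∣ i → ∀ y ∈ Subgroup.centralizer ((P : Subgroup G) : Set G),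
      ¬ p ∣ orderOf y → (ξ : G → ℂ) (x ^ i * y) = -1 := by
    intro i hi y hy hyo
    have h1 := hD.valX ξ hξ (x ^ i) (Subgroup.pow_mem _ hx i) (hxu i hi) y hy hyo
    rw [h1, hε]; norm_num
  have hone_mem : (1 : G) ∈ Subgroup.centralizer ((P : Subgroup G) : Set G) := Subgroup.one_mem _
  have hone_reg : ¬ p ∣ orderOf (1 : G) := by
    rw [orderOf_one]; exact hp.one_lt.ne' ∘ Nat.dvd_one.mp
  have hsum : ∀ y ∈ Subgroup.centralizer ((P : Subgroup G) : Set G), ¬ p ∣ orderOf y →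
      ∑ i ∈ Finset.range p, (ξ : G → ℂ) (x ^ i * y) = (ξ : G → ℂ) y - ((p : ℂ) - 1) := by
    intro y hy hyo
    rw [Finset.range_eq_Ico, Finset.sum_eq_sum_Ico_succ_bot hp.pos]
    simp only [pow_zero, one_mul]
    have h2 : ∀ i ∈ Finset.Ico (0 + 1) p, (ξ : G → ℂ) (x ^ i * y) = -1 := by
      intro i hi
      have h3 := Finset.mem_Ico.mp hi
      exact hval i (fun hdvd => absurd (Nat.le_of_dvd (by omega) hdvd) (by omega)) y hy hyo
    rw [Finset.sum_congr rfl h2, Finset.sum_const, Nat.card_Ico, nsmul_eq_mul]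
    have h4 : ((p - (0 + 1) : ℕ) : ℂ) = (p : ℂ) - 1 := by
      rw [Nat.cast_sub hp.pos]; simp
    rw [h4]; ring
  have h1 : (ξ : G → ℂ) 1 = (p : ℂ) - 1 := by
    have hs := hsum 1 hone_mem hone_reg
    simp only [mul_one] at hs
    unfold mu at h0
    simp only [ZMod.val_zero, zero_mul, pow_zero, inv_one, mul_one] at h0
    rw [hs] at h0
    have h5 := (mul_eq_zero.mp h0).resolve_left (inv_ne_zero hpne)
    linear_combination h5
  refine ⟨?_, ?_⟩
  · have h2 := hval 1 (fun h => hp.one_lt.ne' (Nat.dvd_one.mp h)) 1 hone_mem hone_reg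
    rw [pow_one, mul_one] at h2
    rw [h2, h1]
    intro h
    have h3 : (p : ℂ) = 0 := by linear_combination -h
    exact hpne h3
  · intro y hy hyo
    have hcomm : Commute x y := Subgroup.mem_centralizer_iff.mp hy x hx
    obtain ⟨τ, hτ0, hτ⟩ := mu_twist p x hxp (ξ : G → ℂ) hχc y hcomm
    have hs := hsum y hy hyo
    have hs2 : ∑ i ∈ Finset.range p, (ξ : G → ℂ) (x ^ i * y) = 0 := by
      simp_rw [hτ]
      rw [Finset.sum_comm]
      simp_rw [← Finset.mul_sum, helper2_sum_zeta_range]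
      simp [hτ0 0 h0]
    rw [hs2] at hs
    rw [h1]; linear_combination -hs

end Cfsg.Agent.Lib.helper2.BF
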