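import Mathlib
import Cfsg.Agent.Lib.helper2.BFDefs
import Cfsg.Agent.Lib.helper2.BFB2
import Cfsg.Agent.Lib.helper82.BFA1

set_option autoImplicit false

open Cfsg Cfsg.Agent.Lib.helper20.D1E
open scoped ComplexConjugate

namespace Cfsg.Agent.Lib.helper2.BF

variable {G : Type*} [Group G] [Fintype G]

/-- B5a. -/
theorem supp_orth (p : ℕ) [Fact p.Prime] (x : G) (hxp : x ^ p = 1) (H : Subgroup (ZMod p)ˣ)
    (ψ : G → ℂ) (hψ : IsCharacter G ψ) (a₀ : (ZMod p)ˣ) (m : ℕ)
    (hmu : OrbitMu p x H ψ a₀ m) (c : (ZMod p)ˣ) (hc : c ∉ H) (mp : ℕ)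
    (hmc : (mp : ZMod p) = (c : ZMod p)) (k : G) (hk : Commute x k) (hkm : k ^ mp = k) :
    ∑ i ∈ Finset.range p, ψ (x ^ i * k) * conj (ψ ((x ^ i * k) ^ mp)) = 0 := by
  classical
  have hp : p.Prime := Fact.out
  haveI : NeZero p := ⟨hp.ne_zero⟩
  obtain ⟨τ, hτ0, hτ⟩ := mu_twist p x hxp ψ hψ k hk
  -- τ is supported on the coset a₀ H
  have hsupp : ∀ b : ZMod p, τ b ≠ 0 →
      ∃ h ∈ H, b = (a₀ : ZMod p) * ((h : (ZMod p)ˣ) : ZMod p) := by
    intro b hb
    by_contra hcon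
    apply hb
    apply hτ0
    rw [hmu b, Set.indicator_of_notMem (by exact hcon)]
  have hpow : ∀ i : ℕ, (x ^ i * k) ^ mp = x ^ (i * mp) * k := by
    intro i
    rw [(hk.pow_left i).mul_pow mp, ← pow_mul, hkm]
  -- the exponential sums
  have hexp : ∀ (b b' : ZMod p) (i : ℕ),
      zeta p ^ (b.val * i) * conj (zeta p ^ (b'.val * (i * mp))) =
        zeta p ^ ((b - b' * (c : ZMod p)).val * i) := by
    intro b b' i
    rw [← Cfsg.Agent.Lib.helper83.D1E.eZ_natCast p (b.val * i),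
      ← Cfsg.Agent.Lib.helper83.D1E.eZ_natCast p (b'.val * (i * mp)),
      ← Cfsg.Agent.Lib.helper83.D1E.eZ_natCast p ((b - b' * (c : ZMod p)).val * i),
      Cfsg.Agent.Lib.helper83.D1E.eZ_conj, ← Cfsg.Agent.Lib.helper83.D1E.eZ_neg,
      ← Cfsg.Agent.Lib.helper83.D1E.eZ_add]
    congr 1
    push_cast
    rw [ZMod.natCast_zmod_val, ZMod.natCast_zmod_val, ZMod.natCast_zmod_val, hmc]
    ring
  have key : ∀ b b' : ZMod p, τ b * conj (τ b') *
      (∑ i ∈ Finset.range p, zeta p ^ ((b - b' * (c : ZMod p)).val * i)) = 0 := by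
    intro b b'
    by_cases hb : τ b = 0
    · rw [hb]; simp
    by_cases hb' : τ b' = 0
    · rw [hb']; simp
    obtain ⟨h, hh, rfl⟩ := hsupp b hb
    obtain ⟨h', hh', rfl⟩ := hsupp b' hb'
    rw [helper2_sum_zeta_range, if_neg, mul_zero]
    intro heq
    apply hc
    have h1 : (a₀ : ZMod p) * (h : ZMod p) = (a₀ : ZMod p) * ((h' : ZMod p) * (c : ZMod p)) := by
      linear_combination heq
    have h2 : (h : ZMod p) = (h' : ZMod p) * (c : ZMod p) := mul_left_cancel₀ a₀.ne_zero h1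
    have h3 : h = h' * c := Units.ext (by rw [Units.val_mul]; exact h2)
    have h4 : c = h'⁻¹ * h := by rw [h3, inv_mul_cancel_left]
    rw [h4]
    exact H.mul_mem (H.inv_mem hh') hh
  calc ∑ i ∈ Finset.range p, ψ (x ^ i * k) * conj (ψ ((x ^ i * k) ^ mp))
      = ∑ i ∈ Finset.range p, ∑ b : ZMod p, ∑ b' : ZMod p, τ b * conj (τ b') *
          zeta p ^ ((b - b' * (c : ZMod p)).val * i) := by
        refine Finset.sum_congr rfl fun i _ => ?_
        rw [hpow i, hτ i, hτ (i * mp), map_sum, Finset.sum_mul_sum]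
        refine Finset.sum_congr rfl fun b _ => Finset.sum_congr rfl fun b' _ => ?_
        rw [map_mul, ← hexp b b' i]
        ring
    _ = ∑ b : ZMod p, ∑ b' : ZMod p, τ b * conj (τ b') *
          (∑ i ∈ Finset.range p, zeta p ^ ((b - b' * (c : ZMod p)).val * i)) := by
        rw [Finset.sum_comm]
        refine Finset.sum_congr rfl fun b _ => ?_
        rw [Finset.sum_comm]
        refine Finset.sum_congr rfl fun b' _ => ?_
        rw [Finset.mul_sum]
    _ = 0 := by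
        refine Finset.sum_eq_zero fun b _ => Finset.sum_eq_zero fun b' _ => key b b'

end Cfsg.Agent.Lib.helper2.BF
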