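import Mathlib
import Cfsg.Agent.Lib.helper2.BFDefs
import Cfsg.Agent.Lib.helper20.D1EFinal
import Cfsg.Agent.Lib.helper4.CharDecomp
import Cfsg.Agent.Lib.helper81.Kernel
import Cfsg.Agent.Lib.helper18.BFA2b
import Cfsg.Agent.Lib.helper18.BFA3
import Cfsg.Agent.Lib.helper18.BFB4a
import Cfsg.Agent.Lib.helper72.BFB4b
import Cfsg.Agent.Lib.helper72.BFB4c
import Cfsg.Agent.Lib.helper72.BFB4d
import Cfsg.Agent.Lib.helper72.BFC1
import Cfsg.Agent.Lib.helper75.BFC2
import Cfsg.Agent.Lib.helper79.BFB1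
import Cfsg.Agent.Lib.helper79.BFB6
import Cfsg.Agent.Lib.helper79.BFC4
import Cfsg.Agent.Lib.helper80.BFB3
import Cfsg.Agent.Lib.helper80.BFB5
import Cfsg.Agent.Lib.helper82.BFA1
import Cfsg.Agent.Lib.helper82.BFA2c
import Cfsg.Agent.Lib.helper92.BFB7
import Cfsg.Agent.Lib.helper92.BFC5
import Cfsg.Agent.Lib.helper97.BFA2a
import Cfsg.Agent.Lib.helper97.BFB6a
import Cfsg.Agent.Lib.helper97.BFC3
import Cfsg.Agent.Lib.helper2.BFB2
import Cfsg.Agent.Lib.helper2.BFB5a

set_option autoImplicit false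

open Cfsg Cfsg.Agent.Lib.helper20.D1E
open scoped ComplexConjugate

namespace Cfsg.Agent.Lib.helper2.BF

variable {G : Type*} [Group G] [Fintype G]

/-- Sum over `range p` as a sum over `ZMod p`. -/
theorem helper2_sum_range_zmod (p : ℕ) [Fact p.Prime] (g : ℕ → ℂ) :
    ∑ i ∈ Finset.range p, g i = ∑ k : ZMod p, g k.val := by
  have hp : p.Prime := Fact.out
  haveI : NeZero p := ⟨hp.ne_zero⟩
  refine Finset.sum_nbij' (fun i => (i : ZMod p)) (fun k => k.val) ?_ ?_ ?_ ?_ ?_
  · intro i _; exact Finset.mem_univ _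
  · intro k _; exact Finset.mem_range.mpr (ZMod.val_lt k)
  · intro i hi; exact ZMod.val_cast_of_lt (Finset.mem_range.mp hi)
  · intro k _; exact ZMod.natCast_zmod_val k
  · intro i hi
    rw [ZMod.val_cast_of_lt (Finset.mem_range.mp hi)]

/-- `mu` as a sum over `ZMod p`. -/
theorem helper2_mu_eq (p : ℕ) [Fact p.Prime] (x : G) (f : G → ℂ) (b : ZMod p) :
    mu p x f b = (p : ℂ)⁻¹ * ∑ k : ZMod p, f (x ^ k.val) *
      (Cfsg.Agent.Lib.helper83.D1E.eZ p (b * k))⁻¹ := by
  unfold mu
  rw [helper2_sum_range_zmod p (fun i => f (x ^ i) * (zeta p ^ (b.val * i))⁻¹)]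
  congr 1
  refine Finset.sum_congr rfl fun k _ => ?_
  rw [Cfsg.Agent.Lib.helper83.D1E.eZ_mul, Cfsg.Agent.Lib.helper83.D1E.eZ, pow_mul]

/-- `mu` is invariant under the image `H` of the normalizer. -/
theorem helper2_mu_inv (p : ℕ) [Fact p.Prime] (x : G) (hxp : x ^ p = 1)
    (H : Subgroup (ZMod p)ˣ)
    (hH : ∀ r : (ZMod p)ˣ, r ∈ H ↔ ∃ n : G, n * x * n⁻¹ = x ^ ((r : ZMod p).val))
    (f : G → ℂ) (hf : IsClassFunction G f) (h : (ZMod p)ˣ) (hh : h ∈ H) (b : ZMod p) :
    mu p x f (b * (h : ZMod p)) = mu p x f b := by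
  have hp : p.Prime := Fact.out
  haveI : NeZero p := ⟨hp.ne_zero⟩
  obtain ⟨n, hn⟩ := (hH h).mp hh
  rw [helper2_mu_eq, helper2_mu_eq]
  congr 1
  -- reindex k ↦ k * h on the right-hand side
  rw [← Equiv.sum_comp (Units.mulRight h : ZMod p ≃ ZMod p)
    (fun k => f (x ^ k.val) * (Cfsg.Agent.Lib.helper83.D1E.eZ p (b * k))⁻¹)]
  refine Finset.sum_congr rfl fun k _ => ?_
  have h1 : (Units.mulRight h : ZMod p ≃ ZMod p) k = k * (h : ZMod p) := rfl
  rw [h1]
  have h2 : f (x ^ (k * (h : ZMod p)).val) = f (x ^ k.val) := by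
    have h3 : x ^ (k * (h : ZMod p)).val = n * x ^ k.val * n⁻¹ := by
      have h4 : x ^ (k * (h : ZMod p)).val = x ^ ((h : ZMod p).val * k.val) := by
        have h5 : (k * (h : ZMod p)).val ≡ (h : ZMod p).val * k.val [MOD p] := by
          rw [← ZMod.natCast_eq_natCast_iff]
          push_cast
          rw [ZMod.natCast_zmod_val, ZMod.natCast_zmod_val, ZMod.natCast_zmod_val]
          ring
        have h6 : orderOf x ∣ p := orderOf_dvd_of_pow_eq_one hxp
        exact pow_eq_pow_iff_modEq.mpr (h5.of_dvd h6)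
      rw [h4, pow_mul, ← hn, conj_pow]
    rw [h3]
    exact hf _ _
  rw [h2]
  congr 2
  ring_nf


/-- A subgroup of `(ZMod p)ˣ` of order `e` consists of all the `e`-th roots of unity. -/
theorem helper2_mem_of_pow (p : ℕ) [Fact p.Prime] (H : Subgroup (ZMod p)ˣ) (u : (ZMod p)ˣ)
    (hu : u ^ Nat.card H = 1) : u ∈ H := by
  classical
  have hpos : 0 < Nat.card H := Nat.card_pos
  have hle : (Finset.univ.filter fun a : (ZMod p)ˣ => a ^ Nat.card H = 1).card ≤ Nat.card H :=
    IsCyclic.card_pow_eq_one_le hpos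
  have hsub : (Finset.univ.filter fun a : (ZMod p)ˣ => a ∈ H) ⊆
      (Finset.univ.filter fun a : (ZMod p)ˣ => a ^ Nat.card H = 1) := by
    intro a ha
    rw [Finset.mem_filter] at ha ⊢
    refine ⟨Finset.mem_univ _, ?_⟩
    have h1 : (⟨a, ha.2⟩ : H) ^ Nat.card H = 1 := pow_card_eq_one'
    have h2 : (((⟨a, ha.2⟩ : H) ^ Nat.card H : H) : (ZMod p)ˣ) = ((1 : H) : (ZMod p)ˣ) :=
      congrArg Subtype.val h1
    rw [Subgroup.coe_pow, Subgroup.coe_one] at h2
    exact h2
  have hcardH : (Finset.univ.filter fun a : (ZMod p)ˣ => a ∈ H).card = Nat.card H := by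
    rw [Nat.card_eq_fintype_card, Fintype.card_subtype]
  have heq := Finset.eq_of_subset_of_card_le hsub (by rw [hcardH]; exact hle)
  have hmem : u ∈ (Finset.univ.filter fun a : (ZMod p)ˣ => a ^ Nat.card H = 1) := by
    rw [Finset.mem_filter]; exact ⟨Finset.mem_univ _, hu⟩
  rw [← heq, Finset.mem_filter] at hmem
  exact hmem.2

/-- A4 (Lemma A). -/
theorem single_orbit (p : ℕ) [Fact p.Prime] (P : Sylow p G) (hP : Nat.card P = p)
    (x : G) (hx : x ∈ (P : Subgroup G)) (hx1 : x ≠ 1) (H : Subgroup (ZMod p)ˣ)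
    (hH : ∀ r : (ZMod p)ˣ, r ∈ H ↔ ∃ n : G, n * x * n⁻¹ = x ^ ((r : ZMod p).val))
    (χ : IrrCharacter G) (hdeg : 2 * charDegree (χ : G → ℂ) + 1 < p)
    (hxk : (χ : G → ℂ) x ≠ (χ : G → ℂ) 1) :
    ∃ (a₀ : (ZMod p)ˣ) (m : ℕ), 0 < m ∧ charDegree (χ : G → ℂ) = Nat.card H * m ∧
      OrbitMu p x H (χ : G → ℂ) a₀ m := by
  classical
  have hp : p.Prime := Fact.out
  haveI : NeZero p := ⟨hp.ne_zero⟩
  obtain ⟨hxp, hxu⟩ := basic_x p P hP x hx hx1
  have hχc : IsCharacter G (χ : G → ℂ) := Cfsg.Agent.Lib.helper81.irr_isCharacter χ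
  have hχcf : IsClassFunction G (χ : G → ℂ) := Cfsg.Agent.Lib.helper81.irr_classFun χ
  choose d hd using fun b => mu_nat p x hxp (χ : G → ℂ) hχc b
  have hepos : 0 < Nat.card H := Nat.card_pos
  -- the degree is the sum of the multiplicities
  have hsum : ∑ b : ZMod p, d b = charDegree (χ : G → ℂ) := by
    have h0 := mu_expand p x hxp (χ : G → ℂ) 0
    simp only [pow_zero, Nat.mul_zero, mul_one] at h0
    rw [Cfsg.Agent.Lib.helper81.irr_one_eq_charDegree] at h0
    have h1 : ((charDegree (χ : G → ℂ) : ℕ) : ℂ) = ((∑ b : ZMod p, d b : ℕ) : ℂ) := by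
      rw [h0]; push_cast
      exact Finset.sum_congr rfl (fun b _ => hd b)
    exact_mod_cast h1.symm
  -- H-invariance
  have hinv : ∀ h ∈ H, ∀ b : ZMod p, d (b * ((h : (ZMod p)ˣ) : ZMod p)) = d b := by
    intro h hh b
    have h1 := helper2_mu_inv p x hxp H hH (χ : G → ℂ) hχcf h hh b
    rw [hd, hd] at h1
    exact_mod_cast h1
  -- the support
  set A : Finset (ZMod p) := Finset.univ.filter (fun b => d b ≠ 0) with hA
  have hAcard : A.card ≤ charDegree (χ : G → ℂ) := by
    rw [← hsum]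
    calc A.card = ∑ b ∈ A, 1 := by simp
      _ ≤ ∑ b ∈ A, d b := Finset.sum_le_sum (fun b hb => by
          have := (Finset.mem_filter.mp hb).2; omega)
      _ ≤ ∑ b : ZMod p, d b := Finset.sum_le_sum_of_subset (Finset.subset_univ _)
  have hcardA : Nat.card {b : ZMod p // mu p x (χ : G → ℂ) b ≠ 0} = A.card := by
    rw [Nat.card_eq_fintype_card, Fintype.card_subtype]
    congr 1
    ext b
    simp only [Finset.mem_filter, Finset.mem_univ, true_and, hA]
    rw [hd b]
    exact_mod_cast Iff.rfl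
  -- a nonzero element of the support
  have hex : ∃ a0 : ZMod p, a0 ≠ 0 ∧ d a0 ≠ 0 := by
    by_contra hcon
    push Not at hcon
    apply hxk
    have h1 := mu_expand p x hxp (χ : G → ℂ) 1
    rw [pow_one] at h1
    rw [h1, Finset.sum_eq_single (0 : ZMod p)]
    · rw [hd 0, ZMod.val_zero, zero_mul, pow_zero, mul_one,
        Cfsg.Agent.Lib.helper81.irr_one_eq_charDegree, ← hsum]
      rw [Finset.sum_eq_single (0 : ZMod p)]
      · intro b _ hb
        exact hcon b hb
      · intro h; exact absurd (Finset.mem_univ _) h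
    · intro b _ hb
      rw [hd b, hcon b hb]; simp
    · intro h; exact absurd (Finset.mem_univ _) h
  obtain ⟨a0, ha0, hda0⟩ := hex
  let a₀ : (ZMod p)ˣ := Units.mk0 a0 ha0
  have ha₀ : ((a₀ : (ZMod p)ˣ) : ZMod p) = a0 := rfl
  -- the coset a₀ H lies in the support
  have hcosetA : ∀ h ∈ H, d (a0 * ((h : (ZMod p)ˣ) : ZMod p)) = d a0 := fun h hh => hinv h hh a0
  -- every element of the support lies in a₀ H
  have hcoset : ∀ b : ZMod p, d b ≠ 0 →
      ∃ h ∈ H, b = (a₀ : ZMod p) * ((h : (ZMod p)ˣ) : ZMod p) := by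
    intro b hb
    by_contra hcon
    have hne : a0 ^ Nat.card H ≠ b ^ Nat.card H := by
      intro heq
      by_cases hb0 : b = 0
      · rw [hb0, zero_pow hepos.ne'] at heq
        exact ha0 (pow_eq_zero_iff hepos.ne' |>.mp heq)
      · let bu : (ZMod p)ˣ := Units.mk0 b hb0
        have hu : (a₀⁻¹ * bu) ^ Nat.card H = 1 := by
          apply Units.ext
          rw [Units.val_pow_eq_pow_val, Units.val_mul, mul_pow, Units.val_one]
          have h1 : ((a₀⁻¹ : (ZMod p)ˣ) : ZMod p) ^ Nat.card H * a0 ^ Nat.card H = 1 := by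
            rw [← mul_pow, ← ha₀, ← Units.val_mul, inv_mul_cancel, Units.val_one, one_pow]
          have h2 : ((bu : (ZMod p)ˣ) : ZMod p) = b := rfl
          rw [h2, ← heq, h1]
        have hmem := helper2_mem_of_pow p H _ hu
        apply hcon
        refine ⟨a₀⁻¹ * bu, hmem, ?_⟩
        rw [← Units.val_mul, mul_inv_cancel_left]
        rfl
    obtain ⟨w, hw, hgp⟩ := class_sum_congr p P hP x hx hx1 H hH χ (by omega) a0 b
      (by rw [hd]; exact_mod_cast hda0) (by rw [hd]; exact_mod_cast hb)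
    -- the support has at least e + 1 elements
    have hAge : Nat.card H + 1 ≤ A.card := by
      let Hf : Finset (ZMod p)ˣ := Finset.univ.filter fun a : (ZMod p)ˣ => a ∈ H
      have hcardH : Hf.card = Nat.card H := by
        rw [Nat.card_eq_fintype_card, Fintype.card_subtype]
      let I : Finset (ZMod p) := Hf.image (fun h : (ZMod p)ˣ => a0 * (h : ZMod p))
      have hIcard : I.card = Nat.card H := by
        rw [Finset.card_image_of_injective, hcardH]
        intro h1 h2 h12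
        have : (h1 : ZMod p) = (h2 : ZMod p) := mul_left_cancel₀ ha0 h12
        exact Units.ext this
      have hbI : b ∉ I := by
        intro hbI
        obtain ⟨h, hh, hbh⟩ := Finset.mem_image.mp hbI
        exact hcon ⟨h, (Finset.mem_filter.mp hh).2, hbh.symm⟩
      have hsub : insert b I ⊆ A := by
        intro c hc
        rw [Finset.mem_insert] at hc
        rw [hA, Finset.mem_filter]
        refine ⟨Finset.mem_univ _, ?_⟩
        rcases hc with rfl | hc
        · exact hb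
        · obtain ⟨h, hh, rfl⟩ := Finset.mem_image.mp hc
          rw [hcosetA h (Finset.mem_filter.mp hh).2]
          exact hda0
      have := Finset.card_le_card hsub
      rw [Finset.card_insert_of_notMem hbI, hIcard] at this
      exact this
    rw [hcardA] at hgp
    have hk := gper_val p H (by omega) a0 b hne _ w hw hgp
    omega
  -- conclusion
  have hmuform : ∀ b : ZMod p, d b = if (∃ h ∈ H, b = (a₀ : ZMod p) * ((h : (ZMod p)ˣ) : ZMod p))
      then d a0 else 0 := by
    intro b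
    by_cases hb : ∃ h ∈ H, b = (a₀ : ZMod p) * ((h : (ZMod p)ˣ) : ZMod p)
    · rw [if_pos hb]
      obtain ⟨h, hh, rfl⟩ := hb
      exact hcosetA h hh
    · rw [if_neg hb]
      by_contra hne
      exact hb (hcoset b hne)
  refine ⟨a₀, d a0, Nat.pos_of_ne_zero hda0, ?_, ?_⟩
  · rw [← hsum]
    let Hf : Finset (ZMod p)ˣ := Finset.univ.filter fun a : (ZMod p)ˣ => a ∈ H
    have hcardH : Hf.card = Nat.card H := by
      rw [Nat.card_eq_fintype_card, Fintype.card_subtype]
    let I : Finset (ZMod p) := Hf.image (fun h : (ZMod p)ˣ => a0 * (h : ZMod p))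
    have hIcard : I.card = Nat.card H := by
      rw [Finset.card_image_of_injective, hcardH]
      intro h1 h2 h12
      have : (h1 : ZMod p) = (h2 : ZMod p) := mul_left_cancel₀ ha0 h12
      exact Units.ext this
    have h1 : ∑ b : ZMod p, d b = ∑ b ∈ I, d a0 := by
      rw [← Finset.sum_subset (Finset.subset_univ I)]
      · refine Finset.sum_congr rfl fun b hb => ?_
        obtain ⟨h, hh, rfl⟩ := Finset.mem_image.mp hb
        exact hcosetA h (Finset.mem_filter.mp hh).2
      · intro b _ hb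
        rw [hmuform b, if_neg]
        rintro ⟨h, hh, rfl⟩
        exact hb (Finset.mem_image.mpr ⟨h, Finset.mem_filter.mpr ⟨Finset.mem_univ _, hh⟩, rfl⟩)
    rw [h1, Finset.sum_const, hIcard, smul_eq_mul]
  · intro b
    rw [hd b, hmuform b]
    by_cases hb : ∃ h ∈ H, b = (a₀ : ZMod p) * ((h : (ZMod p)ˣ) : ZMod p)
    · rw [if_pos hb, Set.indicator_of_mem (by exact hb)]
    · rw [if_neg hb, Set.indicator_of_notMem (by exact hb)]
      simp

end Cfsg.Agent.Lib.helper2.BF
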