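import Mathlib
import Cfsg.Agent.Lib.helper2.BFDefs
import Cfsg.Agent.Lib.helper20.D1EFinal
import Cfsg.Agent.Lib.helper4.CharDecomp
import Cfsg.Agent.Lib.helper81.Kernel
import Cfsg.Agent.Lib.helper18.BFA2b
import Cfsg.Agent.Lib.helper18.BFA3
import Cfsg.Agent.Lib.helper18.BFB4a
import Cfsg.Agent.Lib.helper72.BFB4b
import Cfsg.Agent.Lib.helper72.BFB4c
import Cfsg.Agent.Lib.helper72.BFB4d
import Cfsg.Agent.Lib.helper72.BFC1
import Cfsg.Agent.Lib.helper75.BFC2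
import Cfsg.Agent.Lib.helper79.BFB1
import Cfsg.Agent.Lib.helper79.BFB6
import Cfsg.Agent.Lib.helper79.BFC4
import Cfsg.Agent.Lib.helper80.BFB3
import Cfsg.Agent.Lib.helper80.BFB5
import Cfsg.Agent.Lib.helper82.BFA1
import Cfsg.Agent.Lib.helper82.BFA2c
import Cfsg.Agent.Lib.helper92.BFB7
import Cfsg.Agent.Lib.helper92.BFC5
import Cfsg.Agent.Lib.helper97.BFA2a
import Cfsg.Agent.Lib.helper97.BFB6a
import Cfsg.Agent.Lib.helper97.BFC3
import Cfsg.Agent.Lib.helper2.BFB2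
import Cfsg.Agent.Lib.helper2.BFB5a
import Cfsg.Agent.Lib.helper2.BFA4
import Cfsg.Agent.Lib.helper79.GaloisChar
import Cfsg.Agent.Lib.helper46.D1GS

set_option autoImplicit false

open Cfsg Cfsg.Agent.Lib.helper20.D1E
open scoped ComplexConjugate

namespace Cfsg.Agent.Lib.helper2.BF

variable {G : Type*} [Group G] [Fintype G]

/-- `mu` is invariant under multiplication by a unit `c` fixing the values of `f` on `⟨x⟩`. -/
theorem helper2_mu_inv_of (p : ℕ) [Fact p.Prime] (x : G) (f : G → ℂ) (c : (ZMod p)ˣ)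
    (hc : ∀ k : ZMod p, f (x ^ (k * (c : ZMod p)).val) = f (x ^ k.val)) (b : ZMod p) :
    mu p x f (b * (c : ZMod p)) = mu p x f b := by
  rw [helper2_mu_eq, helper2_mu_eq]
  congr 1
  rw [← Equiv.sum_comp (Units.mulRight c : ZMod p ≃ ZMod p)
    (fun k => f (x ^ k.val) * (Cfsg.Agent.Lib.helper83.D1E.eZ p (b * k))⁻¹)]
  refine Finset.sum_congr rfl fun k _ => ?_
  have h1 : (Units.mulRight c : ZMod p ≃ ZMod p) k = k * (c : ZMod p) := rfl
  rw [h1, hc k]
  congr 2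
  ring_nf

/-- B4 (Lemma B). -/
theorem lemmaB (p : ℕ) [Fact p.Prime] (P : Sylow p G) (hP : Nat.card P = p)
    (x : G) (hx : x ∈ (P : Subgroup G)) (hx1 : x ≠ 1) (H : Subgroup (ZMod p)ˣ)
    (hH : ∀ r : (ZMod p)ˣ, r ∈ H ↔ ∃ n : G, n * x * n⁻¹ = x ^ ((r : ZMod p).val))
    (M : Ideal AlgInt) (hM : IsPModular p M) (X Y : Set (IrrCharacter G))
    (εX : IrrCharacter G → ℤ) (ε : ℤ) (hD : PBData p M P (Nat.card H) X Y εX ε)
    (hgen : Subgroup.normalClosure ({x} : Set G) = ⊤)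
    (he2 : 2 ≤ Nat.card H) (het : 3 * Nat.card H ≤ p - 1)
    (φ : IrrCharacter G) (hφdeg : charDegree (φ : G → ℂ) = Nat.card H)
    (hφ0 : mu p x (φ : G → ℂ) 0 = 0) : False := by
  classical
  have hp : p.Prime := Fact.out
  haveI : NeZero p := ⟨hp.ne_zero⟩
  obtain ⟨hxp, hxu⟩ := basic_x p P hP x hx hx1
  have hφc : IsCharacter G (φ : G → ℂ) := Cfsg.Agent.Lib.helper81.irr_isCharacter φ
  -- φ x ≠ φ 1
  have hxk : (φ : G → ℂ) x ≠ (φ : G → ℂ) 1 := by
    intro hxk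
    have hker : x ∈ Cfsg.Agent.Lib.helper81.charKer (φ : G → ℂ) hφc := hxk
    have hall : ∀ i : ℕ, (φ : G → ℂ) (x ^ i) = (φ : G → ℂ) 1 := fun i =>
      (Cfsg.Agent.Lib.helper81.mem_charKer _ hφc _).mp (Subgroup.pow_mem _ hker i)
    have h0 : mu p x (φ : G → ℂ) 0 = (φ : G → ℂ) 1 := by
      unfold mu
      simp only [ZMod.val_zero, zero_mul, pow_zero, inv_one, mul_one, hall, Finset.sum_const,
        Finset.card_range, nsmul_eq_mul]
      have hpne : (p : ℂ) ≠ 0 := by exact_mod_cast hp.ne_zero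
      field_simp
    rw [hφ0, Cfsg.Agent.Lib.helper81.irr_one_eq_charDegree] at h0
    have hpos := Cfsg.Agent.Lib.helper81.irr_charDegree_pos φ
    have h1 : (charDegree (φ : G → ℂ) : ℂ) ≠ 0 := by exact_mod_cast hpos.ne'
    exact h1 h0.symm
  have hdeg : 2 * charDegree (φ : G → ℂ) + 1 < p := by rw [hφdeg]; omega
  obtain ⟨a₀, m, hm, hem, hmu⟩ := single_orbit p P hP x hx hx1 H hH φ hdeg hxk
  have hm1 : m = 1 := by
    rw [hφdeg] at hem
    have h1 : Nat.card H * 1 = Nat.card H * m := by rw [mul_one]; exact hem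
    exact (Nat.eq_of_mul_eq_mul_left (by omega) h1).symm
  subst hm1
  -- an element c ∉ H
  have hcardU : Nat.card (ZMod p)ˣ = p - 1 := by
    rw [Nat.card_eq_fintype_card, ZMod.card_units_eq_totient, Nat.totient_prime hp]
  obtain ⟨c, hc⟩ : ∃ c : (ZMod p)ˣ, c ∉ H := by
    by_contra hcon
    push Not at hcon
    have h1 : H = ⊤ := (Subgroup.eq_top_iff' H).mpr hcon
    have h2 : Nat.card H = Nat.card (ZMod p)ˣ := by rw [h1]; exact Subgroup.card_top
    omega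
  have hdiv : p ∣ Nat.card G := by
    have h1 := Subgroup.card_subgroup_dvd_card (P : Subgroup G)
    rwa [hP] at h1
  have hsq : ¬ p ^ 2 ∣ Nat.card G := Cfsg.Agent.Lib.helper46.d1gs_not_sq_dvd p P hP
  obtain ⟨mp, hmp, hmc, hmreg⟩ := exists_pconj (G := G) p hdiv hsq c
  have hφ'irr : IsIrrCharacter G (fun g => (φ : G → ℂ) (g ^ mp)) :=
    Cfsg.Agent.Lib.helper79.isIrrCharacter_pow_coprime mp hmp φ.2
  let φ' : IrrCharacter G := ⟨_, hφ'irr⟩
  have hφ'v : ∀ g, (φ' : G → ℂ) g = (φ : G → ℂ) (g ^ mp) := fun g => rfl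
  have hne : φ ≠ φ' := by
    intro heq
    have hc' : ∀ k : ZMod p,
        (φ : G → ℂ) (x ^ (k * (c : ZMod p)).val) = (φ : G → ℂ) (x ^ k.val) := by
      intro k
      have h1 : x ^ (k * (c : ZMod p)).val = (x ^ k.val) ^ mp := by
        rw [← pow_mul]
        have h5 : (k * (c : ZMod p)).val ≡ k.val * mp [MOD p] := by
          rw [← ZMod.natCast_eq_natCast_iff]
          push_cast
          rw [ZMod.natCast_zmod_val, ZMod.natCast_zmod_val, hmc]
        have h6 : orderOf x ∣ p := orderOf_dvd_of_pow_eq_one hxp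
        exact pow_eq_pow_iff_modEq.mpr (h5.of_dvd h6)
      rw [h1, ← hφ'v, ← heq]
    have h2 := helper2_mu_inv_of p x (φ : G → ℂ) c hc' (a₀ : ZMod p)
    rw [hmu, hmu] at h2
    rw [Set.indicator_of_notMem, Set.indicator_of_mem] at h2
    · simp at h2
    · exact ⟨1, H.one_mem, by simp⟩
    · rintro ⟨h, hh, heq2⟩
      have h3 : (c : ZMod p) = (h : ZMod p) := mul_left_cancel₀ a₀.ne_zero heq2
      exact hc (by rw [Units.ext h3]; exact hh)
  have hreg : ∀ g : G, ¬ p ∣ orderOf g → (φ' : G → ℂ) g = (φ : G → ℂ) g := by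
    intro g hg
    rw [hφ'v, hmreg g hg]
  have hdelta := fun ξ hξ => delta_inner p P hP x hx hx1 H M X Y εX ε hD φ φ' hne hreg ξ hξ
  -- the two product characters
  have hφ'c : IsCharacter G (φ' : G → ℂ) := Cfsg.Agent.Lib.helper81.irr_isCharacter φ'
  have hΞ1 : IsCharacter G (fun g => (φ : G → ℂ) g * conj ((φ : G → ℂ) g)) :=
    Cfsg.Agent.Lib.helper4.isCharacter_mul hφc (Cfsg.Agent.Lib.helper4.isCharacter_conj hφc)
  have hΞ2 : IsCharacter G (fun g => (φ : G → ℂ) g * conj ((φ' : G → ℂ) g)) :=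
    Cfsg.Agent.Lib.helper4.isCharacter_mul hφc (Cfsg.Agent.Lib.helper4.isCharacter_conj hφ'c)
  have hφ1 : (φ : G → ℂ) 1 = (Nat.card H : ℂ) := by
    rw [Cfsg.Agent.Lib.helper81.irr_one_eq_charDegree, hφdeg]
  have hφ'1 : (φ' : G → ℂ) 1 = (Nat.card H : ℂ) := by
    rw [hφ'v, one_pow, hφ1]
  have hdeg1 : charDegree (fun g => (φ : G → ℂ) g * conj ((φ : G → ℂ) g)) =
      Nat.card H * Nat.card H := by
    have h1 := Cfsg.Agent.Lib.helper81.isCharacter_one_eq_charDegree hΞ1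
    simp only [hφ1, Complex.conj_natCast] at h1
    exact_mod_cast h1.symm
  have hdeg2 : charDegree (fun g => (φ : G → ℂ) g * conj ((φ' : G → ℂ) g)) =
      Nat.card H * Nat.card H := by
    have h1 := Cfsg.Agent.Lib.helper81.isCharacter_one_eq_charDegree hΞ2
    simp only [hφ1, hφ'1, Complex.conj_natCast] at h1
    exact_mod_cast h1.symm
  -- finiteness of X
  haveI hXfin : Finite X := Nat.finite_of_card_ne_zero (by rw [hD.cardX]; omega)
  have hXf : X.Finite := Set.toFinite X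
  set Xf : Finset (IrrCharacter G) := hXf.toFinset with hXfdef
  have hXfcard : Xf.card = Nat.card H := by
    rw [← hD.cardX, _root_.Nat.card_coe_set_eq, Set.ncard_eq_toFinset_card X hXf]
  have hmemXf : ∀ ξ, ξ ∈ Xf ↔ ξ ∈ X := fun ξ => Set.Finite.mem_toFinset hXf
  set Xp : Finset (IrrCharacter G) := Xf.filter (fun ξ => εX ξ = 1) with hXp
  set Xm : Finset (IrrCharacter G) := Xf.filter (fun ξ => εX ξ = -1) with hXm
  have hcardsum : Xp.card + Xm.card = Nat.card H := by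
    rw [← hXfcard, ← Finset.card_filter_add_card_filter_not (s := Xf) (fun ξ => εX ξ = 1)]
    congr 1
    rw [hXm]
    congr 1
    refine Finset.filter_congr fun ξ hξ => ?_
    rcases hD.signX ξ ((hmemXf ξ).mp hξ) with h | h
    · rw [h]; constructor
      · intro h'; norm_num at h'
      · intro h'; exact absurd rfl h'
    · rw [h]; constructor
      · intro _; norm_num
      · intro _; rfl
  -- multiplicities
  have hXp_ne : ∀ ξ ∈ Xp,
      classInner (fun g => (φ : G → ℂ) g * conj ((φ : G → ℂ) g)) (ξ : G → ℂ) ≠ 0 := by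
    intro ξ hξ
    rw [hXp, Finset.mem_filter] at hξ
    have h1 := hdelta ξ ((hmemXf ξ).mp hξ.1)
    obtain ⟨n2, hn2⟩ := Cfsg.Agent.Lib.helper4.exists_nat_classInner_irr hΞ2 ξ.2
    intro h0
    rw [h0, hn2, hξ.2] at h1
    have h2 : ((n2 + 1 : ℕ) : ℂ) = 0 := by push_cast; linear_combination -h1
    exact_mod_cast h2
  have hXm_ne : ∀ ξ ∈ Xm,
      classInner (fun g => (φ : G → ℂ) g * conj ((φ' : G → ℂ) g)) (ξ : G → ℂ) ≠ 0 := by
    intro ξ hξ
    rw [hXm, Finset.mem_filter] at hξ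
    have h1 := hdelta ξ ((hmemXf ξ).mp hξ.1)
    obtain ⟨n1, hn1⟩ := Cfsg.Agent.Lib.helper4.exists_nat_classInner_irr hΞ1 ξ.2
    intro h0
    rw [h0, hn1, hξ.2] at h1
    have h2 : ((n1 + 1 : ℕ) : ℂ) = 0 := by push_cast; linear_combination h1
    exact_mod_cast h2
  have hsum1 := sum_deg_le _ hΞ1 Xp hXp_ne
  have hsum2 := sum_deg_le _ hΞ2 Xm hXm_ne
  rw [hdeg1] at hsum1
  rw [hdeg2] at hsum2
  -- the trivial character
  obtain ⟨ξ₁, hξ₁X, hξ₁v, hξ₁ε⟩ := one_mem_X p P H M hM X Y εX ε hD he2 het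
  have hodd : p ≠ 2 := by omega
  have hξ₁p : ξ₁ ∈ Xp := by
    rw [hXp, Finset.mem_filter]; exact ⟨(hmemXf ξ₁).mpr hξ₁X, hξ₁ε⟩
  have hnt : ∀ ξ : IrrCharacter G, ξ ≠ ξ₁ → ∃ g : G, (ξ : G → ℂ) g ≠ 1 := by
    intro ξ hξ
    by_contra hcon
    push Not at hcon
    exact hξ (Subtype.ext (funext fun g => by rw [hcon g, hξ₁v g]))
  have hlb1 : ∀ ξ ∈ Xp.erase ξ₁, p + 1 ≤ charDegree (ξ : G → ℂ) := by
    intro ξ hξ
    rw [Finset.mem_erase, hXp, Finset.mem_filter] at hξ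
    exact (X_degree_lb p P hP x hx hx1 H M X Y εX ε hD hodd hgen ξ ((hmemXf ξ).mp hξ.2.1)
      (hnt ξ hξ.1)).1 hξ.2.2
  have hlb2 : ∀ ξ ∈ Xm, p - 1 ≤ charDegree (ξ : G → ℂ) := by
    intro ξ hξ
    rw [hXm, Finset.mem_filter] at hξ
    have hne1 : ξ ≠ ξ₁ := by
      rintro rfl
      rw [hξ₁ε] at hξ
      norm_num at hξ
    exact (X_degree_lb p P hP x hx hx1 H M X Y εX ε hD hodd hgen ξ ((hmemXf ξ).mp hξ.1)
      (hnt ξ hne1)).2 hξ.2
  have hb1 : (Xp.card - 1) * (p + 1) + 1 ≤ Nat.card H * Nat.card H := by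
    refine le_trans ?_ hsum1
    rw [← Finset.add_sum_erase Xp _ hξ₁p]
    have h1 := Finset.card_nsmul_le_sum (Xp.erase ξ₁) (fun ξ => charDegree (ξ : G → ℂ)) (p + 1) hlb1
    rw [Finset.card_erase_of_mem hξ₁p, smul_eq_mul] at h1
    have h2 := Cfsg.Agent.Lib.helper81.irr_charDegree_pos ξ₁
    omega
  have hb2 : Xm.card * (p - 1) ≤ Nat.card H * Nat.card H := by
    refine le_trans ?_ hsum2
    have h1 := Finset.card_nsmul_le_sum Xm (fun ξ => charDegree (ξ : G → ℂ)) (p - 1) hlb2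
    rwa [smul_eq_mul] at h1
  have hApos : 1 ≤ Xp.card := Finset.card_pos.mpr ⟨ξ₁, hξ₁p⟩
  -- arithmetic
  generalize Nat.card H = e at *
  generalize Xp.card = A at *
  generalize Xm.card = B at *
  have h3a : 3 * (A - 1) < e := by
    have h1 : (A - 1) * (3 * e) ≤ (A - 1) * (p + 1) := Nat.mul_le_mul_left _ (by omega)
    have h2 : 3 * (A - 1) * e < e * e := by nlinarith
    exact Nat.lt_of_mul_lt_mul_right h2
  have h3b : 3 * B ≤ e := by
    have h1 : B * (3 * e) ≤ B * (p - 1) := Nat.mul_le_mul_left _ het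
    have h2 : 3 * B * e ≤ e * e := by nlinarith
    exact Nat.le_of_mul_le_mul_right h2 (by omega)
  omega

end Cfsg.Agent.Lib.helper2.BF
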