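import Mathlib
import Cfsg.Agent.Lib.helper2.BFDefs
import Cfsg.Agent.Lib.helper20.D1EFinal
import Cfsg.Agent.Lib.helper4.CharDecomp
import Cfsg.Agent.Lib.helper81.Kernel
import Cfsg.Agent.Lib.helper18.BFA2b
import Cfsg.Agent.Lib.helper18.BFA3
import Cfsg.Agent.Lib.helper18.BFB4a
import Cfsg.Agent.Lib.helper72.BFB4b
import Cfsg.Agent.Lib.helper72.BFB4c
import Cfsg.Agent.Lib.helper72.BFB4d
import Cfsg.Agent.Lib.helper72.BFC1
import Cfsg.Agent.Lib.helper75.BFC2
import Cfsg.Agent.Lib.helper79.BFB1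
import Cfsg.Agent.Lib.helper79.BFB6
import Cfsg.Agent.Lib.helper79.BFC4
import Cfsg.Agent.Lib.helper80.BFB3
import Cfsg.Agent.Lib.helper80.BFB5
import Cfsg.Agent.Lib.helper82.BFA1
import Cfsg.Agent.Lib.helper82.BFA2c
import Cfsg.Agent.Lib.helper92.BFB7
import Cfsg.Agent.Lib.helper92.BFC5
import Cfsg.Agent.Lib.helper97.BFA2a
import Cfsg.Agent.Lib.helper97.BFB6a
import Cfsg.Agent.Lib.helper97.BFC3
import Cfsg.Agent.Lib.helper2.BFB2
import Cfsg.Agent.Lib.helper2.BFB5a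
import Cfsg.Agent.Lib.helper2.BFA4
import Cfsg.Agent.Lib.helper2.BFB4
import Cfsg.Agent.S4441
import Cfsg.Agent.Lib.helper76.KazCore
import Cfsg.Agent.Lib.helper79.GaloisChar

set_option autoImplicit false

open Cfsg Cfsg.Agent.Lib.helper20.D1E
open scoped ComplexConjugate

namespace Cfsg.Agent.Lib.helper2.BF

universe u

theorem helper2_sylow_card {G : Type u} [Group G] [Fintype G] (p : ℕ) [Fact p.Prime]
    (hdiv : p ∣ Nat.card G) (hsq : ¬ p ^ 2 ∣ Nat.card G) (P : Sylow p G) : Nat.card P = p := by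
  have hp : p.Prime := Fact.out
  have h1 := Sylow.card_eq_multiplicity P
  have hpos : Nat.card G ≠ 0 := Nat.card_pos.ne'
  have hk1 : 1 ≤ (Nat.card G).factorization p :=
    (hp.factorization_pos_of_dvd hpos hdiv)
  have hk2 : (Nat.card G).factorization p < 2 := by
    by_contra hcon
    push Not at hcon
    exact hsq (dvd_trans (pow_dvd_pow p hcon) (Nat.ordProj_dvd _ _))
  have hk : (Nat.card G).factorization p = 1 := by omega
  rw [h1, hk, pow_one]

theorem bf_step {G : Type u} [Group G] [Fintype G] (p : ℕ) [Fact p.Prime]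
    (hdiv : p ∣ Nat.card G) (hsq : ¬ p ^ 2 ∣ Nat.card G)
    (ψ : IrrCharacter G) (hdeg : 2 * charDegree (ψ : G → ℂ) + 1 < p)
    (IH : ∀ S : Subgroup G, S ≠ ⊤ → p ∣ Nat.card S → ∀ φ : S → ℂ, IsIrrCharacter S φ →
      charDegree φ ≤ charDegree (ψ : G → ℂ) → Good p S φ) :
    Good p G (ψ : G → ℂ) := by
  classical
  have hp : p.Prime := Fact.out
  obtain ⟨P⟩ : Nonempty (Sylow p G) := inferInstance
  have hP : Nat.card P = p := helper2_sylow_card p hdiv hsq P
  obtain ⟨x, hx, hx1⟩ := exists_x p P hP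
  obtain ⟨hxp, hxu⟩ := basic_x p P hP x hx hx1
  have hxo : orderOf x = p := Cfsg.Agent.Lib.helper82.D1E.e2_order p P hP x hx hx1
  have hψc : IsCharacter G (ψ : G → ℂ) := Cfsg.Agent.Lib.helper81.irr_isCharacter ψ
  have hdpos : 0 < charDegree (ψ : G → ℂ) := Cfsg.Agent.Lib.helper81.irr_charDegree_pos ψ
  have hψ1 : (ψ : G → ℂ) 1 = (charDegree (ψ : G → ℂ) : ℂ) :=
    Cfsg.Agent.Lib.helper81.irr_one_eq_charDegree ψ
  by_cases hxk : (ψ : G → ℂ) x = (ψ : G → ℂ) 1
  · refine ⟨Cfsg.Agent.Lib.helper81.charKer (ψ : G → ℂ) hψc, inferInstance,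
      ⟨x, (Cfsg.Agent.Lib.helper81.mem_charKer _ hψc x).mpr hxk, hxo⟩, fun y hy _ =>
        (Cfsg.Agent.Lib.helper81.mem_charKer _ hψc y).mp hy⟩
  obtain ⟨H, hH, hHcard⟩ := Cfsg.Agent.Lib.helper46.D1E.exists_H p P hP x hx hx1
  obtain ⟨a₀, m, hm, hnm, hmu⟩ := single_orbit p P hP x hx hx1 H hH ψ hdeg hxk
  have hHpos : 0 < Nat.card H := Nat.card_pos
  have hmu0 : mu p x (ψ : G → ℂ) 0 = 0 := by
    rw [hmu 0]
    apply Set.indicator_of_notMem
    rintro ⟨h, -, hh⟩
    have : ((a₀ * h : (ZMod p)ˣ) : ZMod p) = 0 := by rw [Units.val_mul]; exact hh.symm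
    exact (a₀ * h).ne_zero this
  by_cases he1 : Nat.card H = 1
  · -- `x` acts as a scalar
    apply good_of_norm p x hxo (ψ : G → ℂ) hψc
    have hex := mu_expand p x hxp (ψ : G → ℂ) 1
    rw [pow_one] at hex
    have hHbot : ∀ h ∈ H, h = 1 := by
      intro h hh
      have hsub : Subsingleton H := (Nat.card_eq_one_iff_unique.mp he1).1
      have := Subsingleton.elim (⟨h, hh⟩ : H) ⟨1, H.one_mem⟩
      exact congrArg Subtype.val this
    have hmu' : ∀ b : ZMod p, mu p x (ψ : G → ℂ) b = if b = (a₀ : ZMod p) then (m : ℂ) else 0 := by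
      intro b
      rw [hmu b]
      by_cases hb : b = (a₀ : ZMod p)
      · rw [if_pos hb]
        apply Set.indicator_of_mem
        exact ⟨1, H.one_mem, by rw [hb]; simp⟩
      · rw [if_neg hb]
        apply Set.indicator_of_notMem
        rintro ⟨h, hh, hbh⟩
        apply hb
        rw [hbh, hHbot h hh]; simp
    rw [hex, hψ1, hnm, he1]
    simp only [hmu']
    rw [Finset.sum_eq_single (a₀ : ZMod p)]
    · rw [if_pos rfl, norm_mul, norm_pow]
      have hz : ‖zeta p‖ = 1 := by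
        have := (Cfsg.Agent.Lib.helper83.D1E.zeta_prim p).norm'_eq_one hp.ne_zero
        exact this
      rw [hz, one_pow, mul_one]
      push_cast
      simp
    · intro b _ hb
      rw [if_neg hb, zero_mul]
    · intro h
      exact absurd (Finset.mem_univ _) h
  have he2 : 2 ≤ Nat.card H := by omega
  by_cases hgen : Subgroup.normalClosure ({x} : Set G) = ⊤
  swap
  · refine good_of_closure p hsq x hxo (ψ : G → ℂ) hψc (fun φ hφ hle => IH _ hgen ?_ φ hφ hle)
    have hxS : x ∈ Subgroup.normalClosure ({x} : Set G) :=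
      Subgroup.subset_normalClosure (Set.mem_singleton x)
    have h1 : orderOf (⟨x, hxS⟩ : Subgroup.normalClosure ({x} : Set G)) = p := by
      rw [← hxo]
      exact Subgroup.orderOf_mk x hxS
    rw [← h1]
    exact orderOf_dvd_natCard _
  -- the main case
  obtain ⟨M, hM⟩ := Cfsg.Agent.Lib.helper76.exists_isPModular p hp
  have hodd : p ≠ 2 := by omega
  obtain ⟨X, Y, hU, hdisj, hcX, hcY, εX, ε, hXall, hε, hdegY, hregY, hrelY⟩ :=
    Cfsg.Agent.S4441.result p M hM hodd P hP (Nat.card H) hHcard.symm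
  have hD : PBData p M P (Nat.card H) X Y εX ε :=
    ⟨hU, hdisj, hcX, hcY, fun χ hχ => (hXall χ hχ).1, fun χ hχ => (hXall χ hχ).2.1,
      fun χ hχ => (hXall χ hχ).2.2, hε, hdegY, hregY, hrelY⟩
  have hdvd : Nat.card H ∣ p - 1 := by
    have h1 := Subgroup.card_subgroup_dvd_card H
    rwa [Nat.card_eq_fintype_card (α := (ZMod p)ˣ), ZMod.card_units p] at h1
  have hle : Nat.card H ≤ charDegree (ψ : G → ℂ) := by
    rw [hnm]; exact Nat.le_mul_of_pos_right _ hm
  have het : 3 * Nat.card H ≤ p - 1 := by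
    obtain ⟨t, ht⟩ := hdvd
    have ht3 : 3 ≤ t := by
      by_contra hcon
      push Not at hcon
      have : Nat.card H * t ≤ Nat.card H * 2 := Nat.mul_le_mul_left _ (by omega)
      omega
    rw [ht]
    calc 3 * Nat.card H = Nat.card H * 3 := by ring
      _ ≤ Nat.card H * t := Nat.mul_le_mul_left _ ht3
  obtain ⟨c, hc⟩ : ∃ c : (ZMod p)ˣ, c ∉ H := by
    by_contra hall
    push Not at hall
    have htop : H = ⊤ := (Subgroup.eq_top_iff' H).mpr hall
    have hcard : Nat.card H = p - 1 := by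
      rw [htop, Subgroup.card_top, Nat.card_eq_fintype_card, ZMod.card_units p]
    omega
  obtain ⟨mp, hmp, hmc, hmreg⟩ := exists_pconj (G := G) p hdiv hsq c
  let ψ' : IrrCharacter G := ⟨fun g => (ψ : G → ℂ) (g ^ mp),
    Cfsg.Agent.Lib.helper79.isIrrCharacter_pow_coprime mp hmp ψ.2⟩
  have hψ'c : IsCharacter G (ψ' : G → ℂ) := Cfsg.Agent.Lib.helper81.irr_isCharacter ψ'
  have hreg : ∀ g : G, ¬ p ∣ orderOf g → (ψ' : G → ℂ) g = (ψ : G → ℂ) g := by
    intro g hg
    show (ψ : G → ℂ) (g ^ mp) = (ψ : G → ℂ) g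
    rw [hmreg g hg]
  have hcomm : ∀ k ∈ Subgroup.centralizer ((P : Subgroup G) : Set G), Commute x k := by
    intro k hk
    exact (Subgroup.mem_centralizer_iff.mp hk x hx)
  have hsupp : ∀ k ∈ Subgroup.centralizer ((P : Subgroup G) : Set G), ¬ p ∣ orderOf k →
      ∑ i ∈ Finset.range p, (ψ : G → ℂ) (x ^ i * k) * conj ((ψ' : G → ℂ) (x ^ i * k)) = 0 :=
    fun k hk hpk => supp_orth p x hxp H (ψ : G → ℂ) hψc a₀ m hmu c hc mp hmc k (hcomm k hk)
      (hmreg k hpk)
  have hΞ : IsCharacter G (fun g => (ψ : G → ℂ) g * conj ((ψ' : G → ℂ) g)) :=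
    Cfsg.Agent.Lib.helper4.isCharacter_mul hψc (Cfsg.Agent.Lib.helper4.isCharacter_conj hψ'c)
  have hΞ0 : mu p x (fun g => (ψ : G → ℂ) g * conj ((ψ' : G → ℂ) g)) 0 = 0 := by
    have h1 := hsupp 1 (one_mem _) (by rw [orderOf_one]; exact fun h => hp.one_lt.ne' (Nat.dvd_one.mp h))
    unfold mu
    rw [mul_eq_zero]
    right
    rw [← h1]
    refine Finset.sum_congr rfl fun i _ => ?_
    simp [ZMod.val_zero]
  have hIH' : ∀ S : Subgroup G, S ≠ ⊤ → x ∈ S → ∀ φ : S → ℂ, IsIrrCharacter S φ →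
      charDegree φ ≤ charDegree (ψ : G → ℂ) → Good p S φ := by
    intro S hS hxS φ hφ hle
    refine IH S hS ?_ φ hφ hle
    have h1 : orderOf (⟨x, hxS⟩ : S) = p := by
      rw [← hxo]
      exact Subgroup.orderOf_mk x hxS
    rw [← h1]
    exact orderOf_dvd_natCard _
  rcases dichotomy p P hP x hx hx1 H M hM X Y εX ε hD ψ ψ' hsupp hreg with
    ⟨ξ, hξX, hξε, hξc⟩ | ⟨υ, hυY, hυc⟩
  · have h0 := mu_zero_of_constituent p x hxp _ hΞ hΞ0 ξ hξc
    obtain ⟨hξx, hξK⟩ := X_minus_ker p P hP x hx hx1 H M X Y εX ε hD ξ hξX hξε h0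
    have hscal := scalar_of_ker p P hP x hx hx1 H hH he2 hgen ψ (ξ : G → ℂ)
      (Cfsg.Agent.Lib.helper81.irr_isCharacter ξ) hξx hξK hIH'
    have hm1 := m_eq_one p P hP x hx hx1 H hH ψ a₀ m hm hmu c hc mp hmp hmc hmreg hscal
    exact (lemmaB p P hP x hx hx1 H hH M hM X Y εX ε hD hgen he2 het ψ
      (by rw [hnm, hm1, mul_one]) hmu0).elim
  · have h0 := mu_zero_of_constituent p x hxp _ hΞ hΞ0 υ hυc
    have hdegυ := Y_degree p P hP x hx hx1 H hH M hM X Y εX ε hD υ hυY h0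
    exact (lemmaB p P hP x hx hx1 H hH M hM X Y εX ε hD hgen he2 het υ hdegυ h0).elim

theorem bf_irr : ∀ (n : ℕ) (G : Type u) [Group G] [Finite G], Nat.card G = n →
    ∀ (p : ℕ), p.Prime → p ∣ Nat.card G → ¬ p ^ 2 ∣ Nat.card G →
    ∀ ψ : G → ℂ, IsIrrCharacter G ψ → 2 * charDegree ψ + 1 < p → Good p G ψ := by
  intro n
  induction n using Nat.strong_induction_on with
  | _ n ih =>
    intro G _ _ hn p hp hdiv hsq ψ hψ hdeg
    haveI : Fact p.Prime := ⟨hp⟩
    haveI : Fintype G := Fintype.ofFinite G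
    refine bf_step p hdiv hsq ⟨ψ, hψ⟩ hdeg ?_
    intro S hS hpS φ hφ hle
    have hlt : Nat.card S < n := by
      rw [← hn]
      exact lt_of_le_of_ne (Subgroup.card_le_card_group S)
        (fun h => hS ((Subgroup.card_eq_iff_eq_top S).mp h))
    exact ih (Nat.card S) hlt S rfl p hp hpS
      (fun h => hsq (dvd_trans h (Subgroup.card_subgroup_dvd_card S))) φ hφ
      (by
        have : charDegree φ ≤ charDegree ψ := hle
        omega)

end Cfsg.Agent.Lib.helper2.BF
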