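import Mathlib.GroupTheory.Nilpotent
import Mathlib.GroupTheory.Sylow
import Mathlib.GroupTheory.Solvable
import Mathlib.GroupTheory.SpecificGroups.Cyclic
import Mathlib.GroupTheory.Perm.Cycle.Type
import Mathlib.Data.Fintype.Lattice
import Mathlib.Tactic.Group

set_option autoImplicit false

namespace Cfsg.Agent.Lib.helper2

open scoped commutatorElement

/-- In a finite nilpotent group, elements of a `p`-subgroup and of a `q`-subgroup (`p ≠ q`)
commute. -/
theorem commute_of_isNilpotent_of_isPGroup {L : Type*} [Group L] [Finite L] [Group.IsNilpotent L]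
    {p q : ℕ} [Fact p.Prime] [Fact q.Prime] (hpq : p ≠ q) (A B : Subgroup L)
    (hA : IsPGroup p A) (hB : IsPGroup q B) {x y : L} (hx : x ∈ A) (hy : y ∈ B) :
    Commute x y := by
  obtain ⟨S, hS⟩ := hA.exists_le_sylow
  obtain ⟨T, hT⟩ := hB.exists_le_sylow
  have hSn : (S : Subgroup L).Normal := inferInstance
  have hTn : (T : Subgroup L).Normal := inferInstance
  have hdis : Disjoint (S : Subgroup L) (T : Subgroup L) :=
    IsPGroup.disjoint_of_ne p q hpq _ _ S.2 T.2
  exact Subgroup.commute_of_normal_of_disjoint _ _ hSn hTn hdis x y (hS hx) (hT hy)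

/-- Relative version: inside a nilpotent subgroup `L` of `G`, elements of a `p`-subgroup and of a
`q`-subgroup commute. -/
theorem commute_of_le_isNilpotent {G : Type*} [Group G] [Finite G] (L : Subgroup G)
    (hL : Group.IsNilpotent L) {p q : ℕ} [Fact p.Prime] [Fact q.Prime] (hpq : p ≠ q)
    (A B : Subgroup G) (hAL : A ≤ L) (hBL : B ≤ L) (hA : IsPGroup p A) (hB : IsPGroup q B) :
    ∀ x ∈ A, ∀ y ∈ B, x * y = y * x := by
  intro x hx y hy
  have h := commute_of_isNilpotent_of_isPGroup hpq (A.subgroupOf L) (B.subgroupOf L)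
    hA.comap_subtype hB.comap_subtype (x := ⟨x, hAL hx⟩) (y := ⟨y, hBL hy⟩)
    (by rw [Subgroup.mem_subgroupOf]; exact hx) (by rw [Subgroup.mem_subgroupOf]; exact hy)
  exact congrArg Subtype.val h.eq

/-- A finite group with at most one maximal subgroup is cyclic. -/
theorem isCyclic_of_coatoms_eq {P : Type*} [Group P] [Finite P]
    (h : ∀ M₁ M₂ : Subgroup P, IsCoatom M₁ → IsCoatom M₂ → M₁ = M₂) : IsCyclic P := by
  by_cases hex : ∃ M : Subgroup P, IsCoatom M
  · obtain ⟨M, hM⟩ := hex
    obtain ⟨x, -, hx⟩ := SetLike.exists_of_lt (lt_top_iff_ne_top.mpr hM.1)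
    have htop : Subgroup.zpowers x = ⊤ := by
      by_contra hne
      obtain ⟨C, hC, hxC⟩ := (eq_top_or_exists_le_coatom _).resolve_left hne
      rw [h C M hC hM] at hxC
      exact hx (hxC (Subgroup.mem_zpowers x))
    exact ⟨⟨x, fun y => by
      have : y ∈ Subgroup.zpowers x := by rw [htop]; exact Subgroup.mem_top y
      exact this⟩⟩
  · -- no coatoms: the group is trivial
    have hbot : (⊥ : Subgroup P) = ⊤ := by
      by_contra hne
      obtain ⟨C, hC, -⟩ := (eq_top_or_exists_le_coatom (⊥ : Subgroup P)).resolve_left hne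
      exact hex ⟨C, hC⟩
    haveI : Subsingleton P := by
      refine ⟨fun a b => ?_⟩
      have ha : a ∈ (⊥ : Subgroup P) := by rw [hbot]; exact Subgroup.mem_top a
      have hb : b ∈ (⊥ : Subgroup P) := by rw [hbot]; exact Subgroup.mem_top b
      rw [Subgroup.mem_bot] at ha hb
      rw [ha, hb]
    exact isCyclic_of_subsingleton

/-- A nontrivial finite solvable group has a normal subgroup of prime index. -/
theorem exists_normal_prime_index (G : Type*) [Group G] [Finite G] [Group.IsSolvable G]
    [Nontrivial G] : ∃ M : Subgroup G, M.Normal ∧ M.index.Prime := by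
  have hlt : commutator G < ⊤ := Group.IsSolvable.commutator_lt_top_of_nontrivial G
  obtain ⟨M, hM, hcM⟩ := (eq_top_or_exists_le_coatom _).resolve_left hlt.ne
  have hMn : M.Normal := by
    refine ⟨fun m hm g => ?_⟩
    have h1 : g * m * g⁻¹ * m⁻¹ ∈ commutator G := by
      have h2 : ⁅g, m⁆ ∈ ⁅(⊤ : Subgroup G), (⊤ : Subgroup G)⁆ :=
        Subgroup.commutator_mem_commutator (Subgroup.mem_top _) (Subgroup.mem_top _)
      exact h2
    have h3 := M.mul_mem (hcM h1) hm
    simpa using h3
  haveI := hMn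
  refine ⟨M, hMn, ?_⟩
  have hidx : M.index ≠ 1 := fun h => hM.1 (Subgroup.index_eq_one.mp h)
  obtain ⟨p, hp, hpdvd⟩ := Nat.exists_prime_and_dvd hidx
  haveI : Fact p.Prime := ⟨hp⟩
  have hpdvd' : p ∣ Nat.card (G ⧸ M) := hpdvd
  obtain ⟨y, hy⟩ := exists_prime_orderOf_dvd_card' p hpdvd'
  have hsurj := QuotientGroup.mk'_surjective M
  set S : Subgroup G := (Subgroup.zpowers y).comap (QuotientGroup.mk' M) with hS
  have hMS : M ≤ S := by
    intro m hm
    rw [hS, Subgroup.mem_comap]
    have : (QuotientGroup.mk' M) m = 1 := by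
      rw [← MonoidHom.mem_ker, QuotientGroup.ker_mk']
      exact hm
    rw [this]
    exact one_mem _
  have hSne : S ≠ M := by
    intro hSM
    obtain ⟨g, rfl⟩ := hsurj y
    have hgS : g ∈ S := by
      rw [hS, Subgroup.mem_comap]
      exact Subgroup.mem_zpowers _
    rw [hSM] at hgS
    have h1 : (QuotientGroup.mk' M) g = 1 := by
      rw [← MonoidHom.mem_ker, QuotientGroup.ker_mk']
      exact hgS
    rw [h1, orderOf_one] at hy
    exact hp.one_lt.ne hy
  have hStop : S = ⊤ := hM.2 S (lt_of_le_of_ne hMS (Ne.symm hSne))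
  have hztop : Subgroup.zpowers y = ⊤ := by
    have := Subgroup.map_comap_eq_self_of_surjective hsurj (Subgroup.zpowers y)
    rw [← this, ← hS, hStop]
    exact Subgroup.map_top_of_surjective _ hsurj
  have hcard : Nat.card (G ⧸ M) = p := by
    rw [← hy, ← Nat.card_zpowers, hztop, Subgroup.card_top]
  have : M.index = p := hcard
  rw [this]
  exact hp

/-- A Sylow subgroup contained in a nilpotent normal subgroup is normal. -/
theorem sylow_normal_of_le_nilpotent_normal {G : Type*} [Group G] [Finite G] (M : Subgroup G)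
    [M.Normal] (hM : Group.IsNilpotent M) {q : ℕ} [Fact q.Prime] (Q : Sylow q G)
    (hQM : (Q : Subgroup G) ≤ M) : (Q : Subgroup G).Normal := by
  haveI : ((Q.subtype hQM : Sylow q M) : Subgroup M).Normal := inferInstance
  haveI : ((Q.subtype hQM : Sylow q M) : Subgroup M).Characteristic :=
    Sylow.characteristic_of_normal _ inferInstance
  have h1 : (((Q.subtype hQM : Sylow q M) : Subgroup M).map M.subtype).Normal := inferInstance
  have h2 : ((Q.subtype hQM : Sylow q M) : Subgroup M).map M.subtype = (Q : Subgroup G) := by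
    rw [Sylow.coe_subtype, Subgroup.subgroupOf_map_subtype, inf_eq_left.mpr hQM]
  rw [h2] at h1
  exact h1

/-- If `M` is normal of prime index `p`, every Sylow `q`-subgroup with `q ≠ p` lies in `M`. -/
theorem sylow_le_of_prime_index {G : Type*} [Group G] [Finite G] (M : Subgroup G)
    [M.Normal] {p q : ℕ} (hp : M.index = p) (hpp : p.Prime) [hq : Fact q.Prime] (hqp : q ≠ p)
    (Q : Sylow q G) : (Q : Subgroup G) ≤ M := by
  rw [← Subgroup.relIndex_eq_one]
  have h1 : M.relIndex Q ∣ p := hp ▸ Subgroup.relIndex_dvd_index_of_normal M Q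
  have h2 : M.relIndex Q ∣ Nat.card (Q : Subgroup G) := by
    rw [Subgroup.relIndex]
    exact Subgroup.index_dvd_card _
  obtain ⟨n, hn⟩ := Q.2.exists_card_eq
  rw [hn] at h2
  rcases (Nat.dvd_prime hpp).mp h1 with h3 | h3
  · exact h3
  · exfalso
    rw [h3] at h2
    have := (Nat.prime_dvd_prime_iff_eq hpp hq.out).mp (hpp.dvd_of_dvd_pow h2)
    exact hqp this.symm

end Cfsg.Agent.Lib.helper2
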