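import Mathlib.GroupTheory.Solvable
import Mathlib.GroupTheory.Subgroup.Simple
import Mathlib.GroupTheory.Index
import Mathlib.GroupTheory.QuotientGroup.Basic
import Mathlib.Algebra.Group.Subgroup.Finite

set_option autoImplicit false

namespace Cfsg.Agent.Lib.helper2

universe u

/-- A nontrivial group which is not simple has a nontrivial proper normal subgroup. -/
theorem exists_normal_of_not_isSimpleGroup {G : Type*} [Group G] [Nontrivial G]
    (h : ¬ IsSimpleGroup G) : ∃ N : Subgroup G, N.Normal ∧ N ≠ ⊥ ∧ N ≠ ⊤ := by
  by_contra hcon
  push_neg at hcon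
  exact h ⟨fun N hN => by
    by_cases hb : N = ⊥
    · exact Or.inl hb
    · exact Or.inr (hcon N hN hb)⟩

/-- An extension of a solvable group by a solvable group is solvable. -/
theorem isSolvable_of_normal {G : Type*} [Group G] (N : Subgroup G) [N.Normal]
    (h1 : Group.IsSolvable N) (h2 : Group.IsSolvable (G ⧸ N)) : Group.IsSolvable G :=
  Group.isSolvable_of_ker_le_range N.subtype (QuotientGroup.mk' N) (by simp)

/-- Induction principle for solvability statements: a property of finite groups which passes to
quotients and proper normal subgroups, and which implies solvability for simple groups, implies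
solvability. -/
theorem isSolvable_induction (Φ : ∀ (H : Type u) [Group H], Prop)
    (hquot : ∀ (H : Type u) [Group H] [Finite H] (N : Subgroup H) [N.Normal], Φ H → Φ (H ⧸ N))
    (hsub : ∀ (H : Type u) [Group H] [Finite H] (N : Subgroup H) [N.Normal], Φ H → N ≠ ⊤ → Φ N)
    (hsimple : ∀ (H : Type u) [Group H] [Finite H], Φ H → IsSimpleGroup H → Group.IsSolvable H)
    (G : Type u) [Group G] [Finite G] (hG : Φ G) : Group.IsSolvable G := by
  obtain ⟨n, hn⟩ : ∃ n, Nat.card G = n := ⟨_, rfl⟩
  induction n using Nat.strong_induction_on generalizing G with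
  | _ n ih =>
    by_cases htriv : Subsingleton G
    · infer_instance
    · haveI : Nontrivial G := not_subsingleton_iff_nontrivial.mp htriv
      by_cases hs : IsSimpleGroup G
      · exact hsimple G hG hs
      · obtain ⟨N, hN, hNbot, hNtop⟩ := exists_normal_of_not_isSimpleGroup hs
        haveI := hN
        have hcard : Nat.card G = Nat.card (G ⧸ N) * Nat.card N :=
          Subgroup.card_eq_card_quotient_mul_card_subgroup N
        have hN1 : 1 < Nat.card N := N.one_lt_card_iff_ne_bot.mpr hNbot
        have hQ1 : 1 < Nat.card (G ⧸ N) := by
          by_contra hcon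
          have hpos : 0 < Nat.card (G ⧸ N) := Nat.card_pos
          have h1 : Nat.card (G ⧸ N) = 1 := by omega
          apply hNtop
          rw [← Subgroup.index_eq_one]
          exact h1
        have hNlt : Nat.card N < n := by
          rw [← hn, hcard]
          exact lt_mul_of_one_lt_left (by omega) hQ1
        have hQlt : Nat.card (G ⧸ N) < n := by
          rw [← hn, hcard]
          exact lt_mul_of_one_lt_right (by omega) hN1
        have h1 : Group.IsSolvable N := ih _ hNlt N (hsub G N hG hNtop) rfl
        have h2 : Group.IsSolvable (G ⧸ N) := ih _ hQlt (G ⧸ N) (hquot G N hG) rfl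
        exact isSolvable_of_normal N h1 h2

end Cfsg.Agent.Lib.helper2
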