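import Mathlib
import Cfsg.Agent.Lib.helper2.BGDefs
import Cfsg.Agent.Lib.helper2.BFA4

set_option autoImplicit false

open Cfsg Cfsg.Agent.Lib.helper20.D1E Cfsg.Agent.Lib.helper2.BF
open scoped ComplexConjugate

namespace Cfsg.Agent.Lib.helper2.BG

variable {G : Type*} [Group G] [Fintype G]

/-- A (Lemma A of S4503 with the weaker degree bound `2 χ(1) + 1 ≤ p`). -/
theorem single_orbit2 (p : ℕ) [Fact p.Prime] (P : Sylow p G) (hP : Nat.card P = p)
    (x : G) (hx : x ∈ (P : Subgroup G)) (hx1 : x ≠ 1) (H : Subgroup (ZMod p)ˣ)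
    (hH : ∀ r : (ZMod p)ˣ, r ∈ H ↔ ∃ n : G, n * x * n⁻¹ = x ^ ((r : ZMod p).val))
    (χ : IrrCharacter G) (hdeg : 2 * charDegree (χ : G → ℂ) + 1 ≤ p)
    (hxk : (χ : G → ℂ) x ≠ (χ : G → ℂ) 1) :
    ∃ (a₀ : (ZMod p)ˣ) (m : ℕ), 0 < m ∧ charDegree (χ : G → ℂ) = Nat.card H * m ∧
      OrbitMu p x H (χ : G → ℂ) a₀ m := by
  classical
  have hp : p.Prime := Fact.out
  haveI : NeZero p := ⟨hp.ne_zero⟩
  obtain ⟨hxp, hxu⟩ := basic_x p P hP x hx hx1
  have hχc : IsCharacter G (χ : G → ℂ) := Cfsg.Agent.Lib.helper81.irr_isCharacter χ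
  have hχcf : IsClassFunction G (χ : G → ℂ) := Cfsg.Agent.Lib.helper81.irr_classFun χ
  choose d hd using fun b => mu_nat p x hxp (χ : G → ℂ) hχc b
  have hepos : 0 < Nat.card H := Nat.card_pos
  -- the degree is the sum of the multiplicities
  have hsum : ∑ b : ZMod p, d b = charDegree (χ : G → ℂ) := by
    have h0 := mu_expand p x hxp (χ : G → ℂ) 0
    simp only [pow_zero, Nat.mul_zero, mul_one] at h0
    rw [Cfsg.Agent.Lib.helper81.irr_one_eq_charDegree] at h0
    have h1 : ((charDegree (χ : G → ℂ) : ℕ) : ℂ) = ((∑ b : ZMod p, d b : ℕ) : ℂ) := by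
      rw [h0]; push_cast
      exact Finset.sum_congr rfl (fun b _ => hd b)
    exact_mod_cast h1.symm
  -- H-invariance
  have hinv : ∀ h ∈ H, ∀ b : ZMod p, d (b * ((h : (ZMod p)ˣ) : ZMod p)) = d b := by
    intro h hh b
    have h1 := helper2_mu_inv p x hxp H hH (χ : G → ℂ) hχcf h hh b
    rw [hd, hd] at h1
    exact_mod_cast h1
  -- the support
  set A : Finset (ZMod p) := Finset.univ.filter (fun b => d b ≠ 0) with hA
  have hAcard : A.card ≤ charDegree (χ : G → ℂ) := by
    rw [← hsum]
    calc A.card = ∑ b ∈ A, 1 := by simp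
      _ ≤ ∑ b ∈ A, d b := Finset.sum_le_sum (fun b hb => by
          have := (Finset.mem_filter.mp hb).2; omega)
      _ ≤ ∑ b : ZMod p, d b := Finset.sum_le_sum_of_subset (Finset.subset_univ _)
  have hcardA : Nat.card {b : ZMod p // mu p x (χ : G → ℂ) b ≠ 0} = A.card := by
    rw [Nat.card_eq_fintype_card, Fintype.card_subtype]
    congr 1
    ext b
    simp only [Finset.mem_filter, Finset.mem_univ, true_and, hA]
    rw [hd b]
    exact_mod_cast Iff.rfl
  -- a nonzero element of the support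
  have hex : ∃ a0 : ZMod p, a0 ≠ 0 ∧ d a0 ≠ 0 := by
    by_contra hcon
    push Not at hcon
    apply hxk
    have h1 := mu_expand p x hxp (χ : G → ℂ) 1
    rw [pow_one] at h1
    rw [h1, Finset.sum_eq_single (0 : ZMod p)]
    · rw [hd 0, ZMod.val_zero, zero_mul, pow_zero, mul_one,
        Cfsg.Agent.Lib.helper81.irr_one_eq_charDegree, ← hsum]
      rw [Finset.sum_eq_single (0 : ZMod p)]
      · intro b _ hb
        exact hcon b hb
      · intro h; exact absurd (Finset.mem_univ _) h
    · intro b _ hb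
      rw [hd b, hcon b hb]; simp
    · intro h; exact absurd (Finset.mem_univ _) h
  obtain ⟨a0, ha0, hda0⟩ := hex
  let a₀ : (ZMod p)ˣ := Units.mk0 a0 ha0
  have ha₀ : ((a₀ : (ZMod p)ˣ) : ZMod p) = a0 := rfl
  -- the coset a₀ H lies in the support
  have hcosetA : ∀ h ∈ H, d (a0 * ((h : (ZMod p)ˣ) : ZMod p)) = d a0 := fun h hh => hinv h hh a0
  -- every element of the support lies in a₀ H
  have hcoset : ∀ b : ZMod p, d b ≠ 0 →
      ∃ h ∈ H, b = (a₀ : ZMod p) * ((h : (ZMod p)ˣ) : ZMod p) := by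
    intro b hb
    by_contra hcon
    have hne : a0 ^ Nat.card H ≠ b ^ Nat.card H := by
      intro heq
      by_cases hb0 : b = 0
      · rw [hb0, zero_pow hepos.ne'] at heq
        exact ha0 (pow_eq_zero_iff hepos.ne' |>.mp heq)
      · let bu : (ZMod p)ˣ := Units.mk0 b hb0
        have hu : (a₀⁻¹ * bu) ^ Nat.card H = 1 := by
          apply Units.ext
          rw [Units.val_pow_eq_pow_val, Units.val_mul, mul_pow, Units.val_one]
          have h1 : ((a₀⁻¹ : (ZMod p)ˣ) : ZMod p) ^ Nat.card H * a0 ^ Nat.card H = 1 := by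
            rw [← mul_pow, ← ha₀, ← Units.val_mul, inv_mul_cancel, Units.val_one, one_pow]
          have h2 : ((bu : (ZMod p)ˣ) : ZMod p) = b := rfl
          rw [h2, ← heq, h1]
        have hmem := helper2_mem_of_pow p H _ hu
        apply hcon
        refine ⟨a₀⁻¹ * bu, hmem, ?_⟩
        rw [← Units.val_mul, mul_inv_cancel_left]
        rfl
    obtain ⟨w, hw, hgp⟩ := class_sum_congr p P hP x hx hx1 H hH χ (by omega) a0 b
      (by rw [hd]; exact_mod_cast hda0) (by rw [hd]; exact_mod_cast hb)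
    -- the support has at least e + 1 elements
    have hAge : Nat.card H + 1 ≤ A.card := by
      let Hf : Finset (ZMod p)ˣ := Finset.univ.filter fun a : (ZMod p)ˣ => a ∈ H
      have hcardH : Hf.card = Nat.card H := by
        rw [Nat.card_eq_fintype_card, Fintype.card_subtype]
      let I : Finset (ZMod p) := Hf.image (fun h : (ZMod p)ˣ => a0 * (h : ZMod p))
      have hIcard : I.card = Nat.card H := by
        rw [Finset.card_image_of_injective, hcardH]
        intro h1 h2 h12
        have : (h1 : ZMod p) = (h2 : ZMod p) := mul_left_cancel₀ ha0 h12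
        exact Units.ext this
      have hbI : b ∉ I := by
        intro hbI
        obtain ⟨h, hh, hbh⟩ := Finset.mem_image.mp hbI
        exact hcon ⟨h, (Finset.mem_filter.mp hh).2, hbh.symm⟩
      have hsub : insert b I ⊆ A := by
        intro c hc
        rw [Finset.mem_insert] at hc
        rw [hA, Finset.mem_filter]
        refine ⟨Finset.mem_univ _, ?_⟩
        rcases hc with rfl | hc
        · exact hb
        · obtain ⟨h, hh, rfl⟩ := Finset.mem_image.mp hc
          rw [hcosetA h (Finset.mem_filter.mp hh).2]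
          exact hda0
      have := Finset.card_le_card hsub
      rw [Finset.card_insert_of_notMem hbI, hIcard] at this
      exact this
    rw [hcardA] at hgp
    have hk := gper_val p H (by omega) a0 b hne _ w hw hgp
    omega
  -- conclusion
  have hmuform : ∀ b : ZMod p, d b = if (∃ h ∈ H, b = (a₀ : ZMod p) * ((h : (ZMod p)ˣ) : ZMod p))
      then d a0 else 0 := by
    intro b
    by_cases hb : ∃ h ∈ H, b = (a₀ : ZMod p) * ((h : (ZMod p)ˣ) : ZMod p)
    · rw [if_pos hb]
      obtain ⟨h, hh, rfl⟩ := hb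
      exact hcosetA h hh
    · rw [if_neg hb]
      by_contra hne
      exact hb (hcoset b hne)
  refine ⟨a₀, d a0, Nat.pos_of_ne_zero hda0, ?_, ?_⟩
  · rw [← hsum]
    let Hf : Finset (ZMod p)ˣ := Finset.univ.filter fun a : (ZMod p)ˣ => a ∈ H
    have hcardH : Hf.card = Nat.card H := by
      rw [Nat.card_eq_fintype_card, Fintype.card_subtype]
    let I : Finset (ZMod p) := Hf.image (fun h : (ZMod p)ˣ => a0 * (h : ZMod p))
    have hIcard : I.card = Nat.card H := by
      rw [Finset.card_image_of_injective, hcardH]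
      intro h1 h2 h12
      have : (h1 : ZMod p) = (h2 : ZMod p) := mul_left_cancel₀ ha0 h12
      exact Units.ext this
    have h1 : ∑ b : ZMod p, d b = ∑ b ∈ I, d a0 := by
      rw [← Finset.sum_subset (Finset.subset_univ I)]
      · refine Finset.sum_congr rfl fun b hb => ?_
        obtain ⟨h, hh, rfl⟩ := Finset.mem_image.mp hb
        exact hcosetA h (Finset.mem_filter.mp hh).2
      · intro b _ hb
        rw [hmuform b, if_neg]
        rintro ⟨h, hh, rfl⟩
        exact hb (Finset.mem_image.mpr ⟨h, Finset.mem_filter.mpr ⟨Finset.mem_univ _, hh⟩, rfl⟩)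
    rw [h1, Finset.sum_const, hIcard, smul_eq_mul]
  · intro b
    rw [hd b, hmuform b]
    by_cases hb : ∃ h ∈ H, b = (a₀ : ZMod p) * ((h : (ZMod p)ˣ) : ZMod p)
    · rw [if_pos hb, Set.indicator_of_mem (by exact hb)]
    · rw [if_neg hb, Set.indicator_of_notMem (by exact hb)]
      simp

end Cfsg.Agent.Lib.helper2.BG
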