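import Mathlib

/-!
# S4504, piece G2 : the combinatorial core of `X_structure`

`ι` = the irreducible characters, `deg` their degrees, `X` the non-exceptional characters of the
principal block, `t` the trivial character, `n₁ χ = <ψ ψ̄, χ>`, `n₂ χ = <ψ ψ̄', χ>`.
-/

set_option autoImplicit false

namespace Cfsg.Agent.Lib.helper2.BG

/-- A chain of inequalities that is tight. -/
theorem helper2_tight {ι : Type*} [Fintype ι] [DecidableEq ι] (S : Finset ι) (n deg c : ι → ℕ)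
    (D : ℕ) (hn : ∀ ξ ∈ S, 1 ≤ n ξ) (hlb : ∀ ξ ∈ S, c ξ ≤ deg ξ)
    (htot : ∑ χ, n χ * deg χ = D) (hD : ∑ ξ ∈ S, c ξ = D) (hdegpos : ∀ χ, 0 < deg χ) :
    (∀ ξ ∈ S, deg ξ = c ξ) ∧ (∀ ξ ∈ S, n ξ = 1) ∧ (∀ χ, χ ∉ S → n χ = 0) := by
  have h1 : ∑ ξ ∈ S, c ξ ≤ ∑ ξ ∈ S, deg ξ := Finset.sum_le_sum hlb
  have h2 : ∑ ξ ∈ S, deg ξ ≤ ∑ ξ ∈ S, n ξ * deg ξ :=
    Finset.sum_le_sum (fun ξ hξ => Nat.le_mul_of_pos_left _ (hn ξ hξ))
  have hsplit : ∑ χ ∈ Finset.univ \ S, n χ * deg χ + ∑ ξ ∈ S, n ξ * deg ξ = ∑ χ, n χ * deg χ :=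
    Finset.sum_sdiff (Finset.subset_univ S)
  have e1 : ∑ ξ ∈ S, c ξ = ∑ ξ ∈ S, deg ξ := by omega
  have e2 : ∑ ξ ∈ S, deg ξ = ∑ ξ ∈ S, n ξ * deg ξ := by omega
  have e3 : ∑ χ ∈ Finset.univ \ S, n χ * deg χ = 0 := by omega
  refine ⟨fun ξ hξ => ((Finset.sum_eq_sum_iff_of_le hlb).mp e1 ξ hξ).symm, fun ξ hξ => ?_,
    fun χ hχ => ?_⟩
  · have h := (Finset.sum_eq_sum_iff_of_le
      (fun ξ hξ => Nat.le_mul_of_pos_left (deg ξ) (hn ξ hξ))).mp e2 ξ hξ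
    have hp := hdegpos ξ
    have : 1 * deg ξ = n ξ * deg ξ := by rw [one_mul]; exact h
    exact (Nat.eq_of_mul_eq_mul_right hp this).symm
  · have h := (Finset.sum_eq_zero_iff.mp e3) χ (Finset.mem_sdiff.mpr ⟨Finset.mem_univ _, hχ⟩)
    have hp := hdegpos χ
    rcases Nat.mul_eq_zero.mp h with h | h
    · exact h
    · omega

/-- If a jump of size `q` is impossible then the lower bounds are attained. -/
theorem helper2_slack {ι : Type*} [DecidableEq ι] (S : Finset ι) (deg c : ι → ℕ) (q B : ℕ)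
    (hlb : ∀ ξ ∈ S, c ξ ≤ deg ξ) (hjump : ∀ ξ ∈ S, deg ξ ≠ c ξ → c ξ + q ≤ deg ξ)
    (hsum : ∑ ξ ∈ S, deg ξ ≤ B) (hq : B < ∑ ξ ∈ S, c ξ + q) : ∀ ξ ∈ S, deg ξ = c ξ := by
  intro ξ₀ hξ₀
  by_contra hne
  have h1 := hjump ξ₀ hξ₀ hne
  have h2 : ∑ ξ ∈ S.erase ξ₀, c ξ ≤ ∑ ξ ∈ S.erase ξ₀, deg ξ :=
    Finset.sum_le_sum (fun ξ hξ => hlb ξ (Finset.mem_of_mem_erase hξ))
  have h3 := Finset.add_sum_erase S deg hξ₀
  have h4 := Finset.add_sum_erase S c hξ₀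
  omega

theorem X_core {ι : Type*} [Fintype ι] [DecidableEq ι] (deg : ι → ℕ) (X : Finset ι)
    (εX : ι → ℤ) (n₁ n₂ : ι → ℕ) (t : ι) (d p : ℕ) (hdp : 2 * d + 1 = p) (hp5 : 5 ≤ p)
    (htX : t ∈ X) (hεt : εX t = 1) (hdegt : deg t = 1) (hn₁t : n₁ t = 1) (hn₂t : n₂ t = 0)
    (hsign : ∀ ξ ∈ X, εX ξ = 1 ∨ εX ξ = -1)
    (hcong : ∀ ξ ∈ X, (deg ξ : ℤ) ≡ εX ξ [ZMOD p])
    (hlb₁ : ∀ ξ ∈ X, ξ ≠ t → εX ξ = 1 → p + 1 ≤ deg ξ)
    (hlb₂ : ∀ ξ ∈ X, εX ξ = -1 → p - 1 ≤ deg ξ)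
    (hcard : X.card = d)
    (hdiff : ∀ ξ ∈ X, (n₁ ξ : ℤ) - (n₂ ξ : ℤ) = εX ξ)
    (hs₁ : ∑ χ, n₁ χ * deg χ = d ^ 2) (hs₂ : ∑ χ, n₂ χ * deg χ = d ^ 2)
    (hdegpos : ∀ χ, 0 < deg χ) :
    (∀ ξ ∈ X, ξ ≠ t → εX ξ = 1 → deg ξ = p + 1) ∧
    (∀ ξ ∈ X, εX ξ = -1 → deg ξ = p - 1) ∧
    (∃ ξ ∈ X, εX ξ = -1) ∧
    (∑ χ, n₁ χ * n₂ χ = 0) ∧
    (((∀ χ, n₁ χ = if χ ∈ X ∧ εX χ = 1 then 1 else 0) ∧
        ∑ ξ ∈ X, εX ξ * (deg ξ : ℤ) = (d : ℤ)) ∨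
     ((∀ χ, n₂ χ = if χ ∈ X ∧ εX χ = -1 then 1 else 0) ∧
        ∑ ξ ∈ X, εX ξ * (deg ξ : ℤ) = -((d : ℤ) + 1))) := by
  classical
  subst hdp
  have hd2 : 2 ≤ d := by omega
  obtain ⟨Xp, hXp⟩ : ∃ Xp, Xp = X.filter (fun ξ => εX ξ = 1) := ⟨_, rfl⟩
  obtain ⟨Xm, hXm⟩ : ∃ Xm, Xm = X.filter (fun ξ => εX ξ = -1) := ⟨_, rfl⟩
  have hXm' : Xm = X.filter (fun ξ => ¬ εX ξ = 1) := by
    rw [hXm]
    apply Finset.filter_congr
    intro ξ hξ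
    rcases hsign ξ hξ with h | h <;> simp [h]
  have hmemp : ∀ ξ, ξ ∈ Xp ↔ ξ ∈ X ∧ εX ξ = 1 := fun ξ => by rw [hXp, Finset.mem_filter]
  have hmemm : ∀ ξ, ξ ∈ Xm ↔ ξ ∈ X ∧ εX ξ = -1 := fun ξ => by rw [hXm, Finset.mem_filter]
  have hcardX : Xp.card + Xm.card = d := by
    rw [← hcard, hXp, hXm']
    exact Finset.card_filter_add_card_filter_not _
  have htp : t ∈ Xp := (hmemp t).mpr ⟨htX, hεt⟩
  have hn1p : ∀ ξ ∈ Xp, 1 ≤ n₁ ξ := by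
    intro ξ hξ
    obtain ⟨hξX, hε⟩ := (hmemp ξ).mp hξ
    have := hdiff ξ hξX
    rw [hε] at this
    omega
  have hn2m : ∀ ξ ∈ Xm, 1 ≤ n₂ ξ := by
    intro ξ hξ
    obtain ⟨hξX, hε⟩ := (hmemm ξ).mp hξ
    have := hdiff ξ hξX
    rw [hε] at this
    omega
  -- the lower bounds
  let cp : ι → ℕ := fun ξ => if ξ = t then 1 else 2 * d + 2
  let cm : ι → ℕ := fun _ => 2 * d
  have hlbp : ∀ ξ ∈ Xp, cp ξ ≤ deg ξ := by
    intro ξ hξ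
    obtain ⟨hξX, hε⟩ := (hmemp ξ).mp hξ
    by_cases hξt : ξ = t
    · simp only [cp, if_pos hξt]; rw [hξt, hdegt]
    · simp only [cp, if_neg hξt]
      have := hlb₁ ξ hξX hξt hε
      omega
  have hlbm : ∀ ξ ∈ Xm, cm ξ ≤ deg ξ := by
    intro ξ hξ
    obtain ⟨hξX, hε⟩ := (hmemm ξ).mp hξ
    have := hlb₂ ξ hξX hε
    simp only [cm]
    omega
  obtain ⟨a, ha⟩ : ∃ a, a = (Xp.erase t).card := ⟨_, rfl⟩
  obtain ⟨b, hb⟩ : ∃ b, b = Xm.card := ⟨_, rfl⟩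
  have hab : a + 1 + b = d := by
    have h1 := Finset.card_erase_of_mem htp
    have hpos : 0 < Xp.card := Finset.card_pos.mpr ⟨t, htp⟩
    omega
  have hcpsum : ∑ ξ ∈ Xp, cp ξ = 1 + a * (2 * d + 2) := by
    rw [← Finset.add_sum_erase _ _ htp]
    have h1 : cp t = 1 := by simp [cp]
    have h2 : ∑ ξ ∈ Xp.erase t, cp ξ = ∑ ξ ∈ Xp.erase t, (2 * d + 2) := by
      refine Finset.sum_congr rfl fun ξ hξ => ?_
      simp only [cp, if_neg (Finset.ne_of_mem_erase hξ)]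
    rw [h1, h2, Finset.sum_const, smul_eq_mul, ← ha]
  have hcmsum : ∑ ξ ∈ Xm, cm ξ = b * (2 * d) := by
    simp only [cm]
    rw [Finset.sum_const, smul_eq_mul, ← hb]
  have hS1 : ∑ ξ ∈ Xp, deg ξ ≤ d ^ 2 := by
    calc ∑ ξ ∈ Xp, deg ξ ≤ ∑ ξ ∈ Xp, n₁ ξ * deg ξ :=
          Finset.sum_le_sum (fun ξ hξ => Nat.le_mul_of_pos_left _ (hn1p ξ hξ))
      _ ≤ ∑ χ, n₁ χ * deg χ := Finset.sum_le_sum_of_subset (Finset.subset_univ _)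
      _ = d ^ 2 := hs₁
  have hS2 : ∑ ξ ∈ Xm, deg ξ ≤ d ^ 2 := by
    calc ∑ ξ ∈ Xm, deg ξ ≤ ∑ ξ ∈ Xm, n₂ ξ * deg ξ :=
          Finset.sum_le_sum (fun ξ hξ => Nat.le_mul_of_pos_left _ (hn2m ξ hξ))
      _ ≤ ∑ χ, n₂ χ * deg χ := Finset.sum_le_sum_of_subset (Finset.subset_univ _)
      _ = d ^ 2 := hs₂
  have hL1 : 1 + a * (2 * d + 2) ≤ d ^ 2 := by
    rw [← hcpsum]; exact le_trans (Finset.sum_le_sum hlbp) hS1
  have hL2 : b * (2 * d) ≤ d ^ 2 := by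
    rw [← hcmsum]; exact le_trans (Finset.sum_le_sum hlbm) hS2
  have h2a : 2 * a + 1 ≤ d := by
    by_contra hcon
    push Not at hcon
    have h : d ≤ 2 * a := by omega
    have := Nat.mul_le_mul_right (d + 1) h
    nlinarith
  have h2b : 2 * b ≤ d := by
    by_contra hcon
    push Not at hcon
    have h : d + 1 ≤ 2 * b := by omega
    have := Nat.mul_le_mul_right d h
    nlinarith
  -- the jumps
  have hjp : ∀ ξ ∈ Xp, deg ξ ≠ cp ξ → cp ξ + (2 * d + 1) ≤ deg ξ := by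
    intro ξ hξ hne
    obtain ⟨hξX, hε⟩ := (hmemp ξ).mp hξ
    by_cases hξt : ξ = t
    · exfalso; apply hne; simp only [cp, if_pos hξt]; rw [hξt, hdegt]
    · simp only [cp, if_neg hξt] at hne ⊢
      have h1 := hlb₁ ξ hξX hξt hε
      have h2 := (hcong ξ hξX).dvd
      rw [hε] at h2
      obtain ⟨k, hk⟩ := h2
      push_cast at hk
      have hk3 : k ≤ -2 ∨ k = -1 ∨ 0 ≤ k := by omega
      rcases hk3 with hk3 | hk3 | hk3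
      · have : (2 * (d : ℤ) + 1) * k ≤ (2 * (d : ℤ) + 1) * (-2) :=
          mul_le_mul_of_nonneg_left hk3 (by positivity)
        omega
      · rw [hk3] at hk; omega
      · have : 0 ≤ (2 * (d : ℤ) + 1) * k := mul_nonneg (by positivity) hk3
        omega
  have hjm : ∀ ξ ∈ Xm, deg ξ ≠ cm ξ → cm ξ + (2 * d + 1) ≤ deg ξ := by
    intro ξ hξ hne
    obtain ⟨hξX, hε⟩ := (hmemm ξ).mp hξ
    simp only [cm] at hne ⊢
    have h1 := hlb₂ ξ hξX hε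
    have h2 := (hcong ξ hξX).dvd
    rw [hε] at h2
    obtain ⟨k, hk⟩ := h2
    push_cast at hk
    have hk3 : k ≤ -2 ∨ k = -1 ∨ 0 ≤ k := by omega
    rcases hk3 with hk3 | hk3 | hk3
    · have : (2 * (d : ℤ) + 1) * k ≤ (2 * (d : ℤ) + 1) * (-2) :=
        mul_le_mul_of_nonneg_left hk3 (by positivity)
      omega
    · rw [hk3] at hk; omega
    · have : 0 ≤ (2 * (d : ℤ) + 1) * k := mul_nonneg (by positivity) hk3
      omega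
  -- the signed degree sum
  have hsigned : ∑ ξ ∈ X, εX ξ * (deg ξ : ℤ)
      = ((∑ ξ ∈ Xp, deg ξ : ℕ) : ℤ) - ((∑ ξ ∈ Xm, deg ξ : ℕ) : ℤ) := by
    rw [← Finset.sum_filter_add_sum_filter_not X (fun ξ => εX ξ = 1), ← hXp, ← hXm']
    have h1 : ∑ ξ ∈ Xp, εX ξ * (deg ξ : ℤ) = ((∑ ξ ∈ Xp, deg ξ : ℕ) : ℤ) := by
      rw [Nat.cast_sum]
      refine Finset.sum_congr rfl fun ξ hξ => ?_
      rw [((hmemp ξ).mp hξ).2, one_mul]
    have h2 : ∑ ξ ∈ Xm, εX ξ * (deg ξ : ℤ) = -((∑ ξ ∈ Xm, deg ξ : ℕ) : ℤ) := by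
      rw [Nat.cast_sum, ← Finset.sum_neg_distrib]
      refine Finset.sum_congr rfl fun ξ hξ => ?_
      rw [((hmemm ξ).mp hξ).2]; ring
    rw [h1, h2]; ring
  have hdisj : ∀ χ, χ ∈ Xp → χ ∉ Xm := by
    intro χ h1 h2
    have e1 := ((hmemp χ).mp h1).2
    have e2 := ((hmemm χ).mp h2).2
    omega
  rcases (by omega : (2 * a + 1 = d ∧ b = a) ∨ (2 * a + 2 = d ∧ b = a + 1)) with
    ⟨hda, hba⟩ | ⟨hda, hba⟩
  · -- Case A
    have hD : ∑ ξ ∈ Xp, cp ξ = d ^ 2 := by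
      rw [hcpsum, ← hda]; ring
    obtain ⟨hdegp, hn1one, hn1zero⟩ := helper2_tight Xp n₁ deg cp (d ^ 2) hn1p hlbp hs₁ hD hdegpos
    have hdegm : ∀ ξ ∈ Xm, deg ξ = cm ξ := by
      apply helper2_slack Xm deg cm (2 * d + 1) (d ^ 2) hlbm hjm hS2
      rw [hcmsum, hba, ← hda]; nlinarith
    have hn2zero : ∀ χ ∈ Xp, n₂ χ = 0 := by
      intro χ hχ
      obtain ⟨hχX, hε⟩ := (hmemp χ).mp hχ
      have := hdiff χ hχX
      rw [hε, hn1one χ hχ] at this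
      omega
    refine ⟨?_, ?_, ?_, ?_, Or.inl ⟨?_, ?_⟩⟩
    · intro ξ hξ hξt hε
      have := hdegp ξ ((hmemp ξ).mpr ⟨hξ, hε⟩)
      simp only [cp, if_neg hξt] at this
      omega
    · intro ξ hξ hε
      have := hdegm ξ ((hmemm ξ).mpr ⟨hξ, hε⟩)
      simp only [cm] at this
      omega
    · have hbpos : 0 < Xm.card := by omega
      obtain ⟨ξ, hξ⟩ := Finset.card_pos.mp hbpos
      exact ⟨ξ, ((hmemm ξ).mp hξ).1, ((hmemm ξ).mp hξ).2⟩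
    · apply Finset.sum_eq_zero
      intro χ _
      by_cases hχ : χ ∈ Xp
      · rw [hn2zero χ hχ, mul_zero]
      · rw [hn1zero χ hχ, zero_mul]
    · intro χ
      by_cases hχ : χ ∈ X ∧ εX χ = 1
      · rw [if_pos hχ]; exact hn1one χ ((hmemp χ).mpr hχ)
      · rw [if_neg hχ]; exact hn1zero χ (fun h => hχ ((hmemp χ).mp h))
    · rw [hsigned]
      have e1 : ∑ ξ ∈ Xp, deg ξ = d ^ 2 := by
        rw [← hD]; exact Finset.sum_congr rfl hdegp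
      have e2 : ∑ ξ ∈ Xm, deg ξ = b * (2 * d) := by
        rw [← hcmsum]; exact Finset.sum_congr rfl hdegm
      rw [e1, e2, hba, ← hda]
      push_cast
      ring
  · -- Case B
    have hD : ∑ ξ ∈ Xm, cm ξ = d ^ 2 := by
      rw [hcmsum, hba, ← hda]; ring
    obtain ⟨hdegm, hn2one, hn2zero⟩ := helper2_tight Xm n₂ deg cm (d ^ 2) hn2m hlbm hs₂ hD hdegpos
    have hdegp : ∀ ξ ∈ Xp, deg ξ = cp ξ := by
      apply helper2_slack Xp deg cp (2 * d + 1) (d ^ 2) hlbp hjp hS1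
      rw [hcpsum, ← hda]; nlinarith
    have hn1zero : ∀ χ ∈ Xm, n₁ χ = 0 := by
      intro χ hχ
      obtain ⟨hχX, hε⟩ := (hmemm χ).mp hχ
      have := hdiff χ hχX
      rw [hε, hn2one χ hχ] at this
      omega
    refine ⟨?_, ?_, ?_, ?_, Or.inr ⟨?_, ?_⟩⟩
    · intro ξ hξ hξt hε
      have := hdegp ξ ((hmemp ξ).mpr ⟨hξ, hε⟩)
      simp only [cp, if_neg hξt] at this
      omega
    · intro ξ hξ hε
      have := hdegm ξ ((hmemm ξ).mpr ⟨hξ, hε⟩)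
      simp only [cm] at this
      omega
    · have hbpos : 0 < Xm.card := by omega
      obtain ⟨ξ, hξ⟩ := Finset.card_pos.mp hbpos
      exact ⟨ξ, ((hmemm ξ).mp hξ).1, ((hmemm ξ).mp hξ).2⟩
    · apply Finset.sum_eq_zero
      intro χ _
      by_cases hχ : χ ∈ Xm
      · rw [hn1zero χ hχ, zero_mul]
      · rw [hn2zero χ hχ, mul_zero]
    · intro χ
      by_cases hχ : χ ∈ X ∧ εX χ = -1
      · rw [if_pos hχ]; exact hn2one χ ((hmemm χ).mpr hχ)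
      · rw [if_neg hχ]; exact hn2zero χ (fun h => hχ ((hmemm χ).mp h))
    · rw [hsigned]
      have e1 : ∑ ξ ∈ Xp, deg ξ = 1 + a * (2 * d + 2) := by
        rw [← hcpsum]; exact Finset.sum_congr rfl hdegp
      have e2 : ∑ ξ ∈ Xm, deg ξ = d ^ 2 := by
        rw [← hD]; exact Finset.sum_congr rfl hdegm
      rw [e1, e2, ← hda]
      push_cast
      ring

end Cfsg.Agent.Lib.helper2.BG
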