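import Mathlib
import Cfsg.Agent.Lib.helper2.BGDefs
import Cfsg.Agent.Lib.helper2.BGG2
import Cfsg.Agent.Lib.helper20.D1EFinal
import Cfsg.Agent.Lib.helper4.CharDecomp
import Cfsg.Agent.Lib.helper81.Kernel
import Cfsg.Agent.Lib.helper81.Blocks
import Cfsg.Agent.Lib.helper81.CharOrtho
import Cfsg.Agent.Lib.helper72.BFB4d
import Cfsg.Agent.Lib.helper80.BFB3
import Cfsg.Agent.Lib.helper79.GaloisChar

set_option autoImplicit false

open Cfsg Cfsg.Agent.Lib.helper20.D1E Cfsg.Agent.Lib.helper2.BF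
open scoped ComplexConjugate

namespace Cfsg.Agent.Lib.helper2.BG

variable {G : Type*} [Group G] [Fintype G]

/-- The trivial character lies in `X` with sign `+1` (case `2 e + 1 = p`, `p ≥ 5`). -/
theorem helper2_triv_mem_X (p : ℕ) [Fact p.Prime] (P : Sylow p G) (H : Subgroup (ZMod p)ˣ)
    (M : Ideal AlgInt) (hM : IsPModular p M) (X Y : Set (IrrCharacter G))
    (εX : IrrCharacter G → ℤ) (ε : ℤ) (hD : PBData p M P (Nat.card H) X Y εX ε)
    (he : 2 * Nat.card H + 1 = p) (hp5 : 5 ≤ p) :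
    Cfsg.Agent.Lib.helper81.trivChar G ∈ X ∧ εX (Cfsg.Agent.Lib.helper81.trivChar G) = 1 := by
  have hprime : M.IsPrime := hM.2.1.isPrime
  have hmem : Cfsg.Agent.Lib.helper81.trivChar G ∈ principalBlock M G :=
    Cfsg.Agent.Lib.helper81.trivChar_mem_principalBlock hprime
  rw [hD.union] at hmem
  have hdeg1 : charDegree (Cfsg.Agent.Lib.helper81.trivChar G : G → ℂ) = 1 := by
    simp [charDegree, Cfsg.Agent.Lib.helper81.trivChar_apply]
  rcases hmem with hX | hY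
  · refine ⟨hX, ?_⟩
    have h1 := hD.degX _ hX
    rw [hdeg1] at h1
    rcases hD.signX _ hX with h | h
    · exact h
    · exfalso
      rw [h] at h1
      have h2 : (p : ℤ) ∣ -1 - ((1 : ℕ) : ℤ) := Int.modEq_iff_dvd.mp h1
      have h3 : (p : ℤ) ∣ 2 := by
        have h4 : (-1 - ((1 : ℕ) : ℤ)) = -2 := by norm_num
        rw [h4] at h2
        exact (dvd_neg.mp h2)
      have h5 := Int.le_of_dvd (by norm_num) h3
      omega
  · exfalso
    have h1 := hD.degY _ hY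
    rw [hdeg1] at h1
    have h2 : (p : ℤ) ∣ ε * (Nat.card H : ℤ) - ((1 : ℕ) : ℤ) := Int.modEq_iff_dvd.mp h1
    rcases hD.signY with h | h
    · rw [h, one_mul] at h2
      have h5 := Int.le_of_dvd (by push_cast; omega) h2
      push_cast at h5
      omega
    · rw [h] at h2
      have h3 : (p : ℤ) ∣ (Nat.card H : ℤ) + 1 := by
        have h4 : -1 * (Nat.card H : ℤ) - ((1 : ℕ) : ℤ) = -((Nat.card H : ℤ) + 1) := by
          push_cast; ring
        rw [h4] at h2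
        exact (dvd_neg.mp h2)
      have h5 := Int.le_of_dvd (by omega) h3
      omega

/-- G. -/
theorem X_structure (p : ℕ) [Fact p.Prime] (P : Sylow p G) (hP : Nat.card P = p)
    (x : G) (hx : x ∈ (P : Subgroup G)) (hx1 : x ≠ 1) (H : Subgroup (ZMod p)ˣ)
    (hH : ∀ r : (ZMod p)ˣ, r ∈ H ↔ ∃ n : G, n * x * n⁻¹ = x ^ ((r : ZMod p).val))
    (M : Ideal AlgInt) (hM : IsPModular p M) (X Y : Set (IrrCharacter G))
    (εX : IrrCharacter G → ℤ) (ε : ℤ) (hD : PBData p M P (Nat.card H) X Y εX ε)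
    (hgen : Subgroup.normalClosure ({x} : Set G) = ⊤) (hp5 : 5 ≤ p)
    (ψ : IrrCharacter G) (he : Nat.card H = charDegree (ψ : G → ℂ))
    (hdeg : 2 * charDegree (ψ : G → ℂ) + 1 = p)
    (mp : ℕ) (hmp : mp.Coprime (Nat.card G))
    (hmreg : ∀ g : G, ¬ p ∣ orderOf g → g ^ mp = g)
    (hne : (ψ : G → ℂ) (x ^ mp) ≠ (ψ : G → ℂ) x) :
    (∃ ξ ∈ X, εX ξ = -1 ∧ charDegree (ξ : G → ℂ) = p - 1) ∧
    (∑ g : G, ((ψ : G → ℂ) g * conj ((ψ : G → ℂ) g)) *
        (conj ((ψ : G → ℂ) g) * (ψ : G → ℂ) (g ^ mp)) = 0) ∧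
    (∀ h : G, ¬ p ∣ orderOf h → ∀ υ ∈ Y,
      ∑ᶠ ξ ∈ X, (ξ : G → ℂ) h / (ξ : G → ℂ) 1 + (υ : G → ℂ) h / (2 * (υ : G → ℂ) 1) =
        1 + ((ψ : G → ℂ) h * conj ((ψ : G → ℂ) h) - 1) / ((p : ℂ) + 1)
          + (ψ : G → ℂ) h * conj ((ψ : G → ℂ) h) / ((p : ℂ) - 1)) := by
  classical
  have hp : p.Prime := Fact.out
  have hodd : p ≠ 2 := by omega
  obtain ⟨d, hd⟩ : ∃ d, d = charDegree (ψ : G → ℂ) := ⟨_, rfl⟩
  rw [← hd] at he hdeg
  have hψc : IsCharacter G (ψ : G → ℂ) := Cfsg.Agent.Lib.helper81.irr_isCharacter ψ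
  have hψ1 : (ψ : G → ℂ) 1 = (d : ℂ) := by
    rw [Cfsg.Agent.Lib.helper81.irr_one_eq_charDegree, hd]
  let ψ' : IrrCharacter G := ⟨fun g => (ψ : G → ℂ) (g ^ mp),
    Cfsg.Agent.Lib.helper79.isIrrCharacter_pow_coprime mp hmp ψ.2⟩
  have hψ'c : IsCharacter G (ψ' : G → ℂ) := Cfsg.Agent.Lib.helper81.irr_isCharacter ψ'
  have hψ'apply : ∀ g, (ψ' : G → ℂ) g = (ψ : G → ℂ) (g ^ mp) := fun g => rfl
  have hneψ : ψ ≠ ψ' := by
    intro h
    apply hne
    have h1 : (ψ : G → ℂ) x = (ψ' : G → ℂ) x := by rw [← h]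
    rw [hψ'apply] at h1
    exact h1.symm
  have hreg : ∀ g : G, ¬ p ∣ orderOf g → (ψ' : G → ℂ) g = (ψ : G → ℂ) g := by
    intro g hg
    rw [hψ'apply, hmreg g hg]
  obtain ⟨Ξ₁, hΞ₁⟩ : ∃ Ξ₁ : G → ℂ, Ξ₁ = fun g => (ψ : G → ℂ) g * conj ((ψ : G → ℂ) g) :=
    ⟨_, rfl⟩
  obtain ⟨Ξ₂, hΞ₂⟩ : ∃ Ξ₂ : G → ℂ, Ξ₂ = fun g => (ψ : G → ℂ) g * conj ((ψ' : G → ℂ) g) :=
    ⟨_, rfl⟩
  have hΞ₁c : IsCharacter G Ξ₁ := by
    rw [hΞ₁]
    exact Cfsg.Agent.Lib.helper4.isCharacter_mul hψc (Cfsg.Agent.Lib.helper4.isCharacter_conj hψc)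
  have hΞ₂c : IsCharacter G Ξ₂ := by
    rw [hΞ₂]
    exact Cfsg.Agent.Lib.helper4.isCharacter_mul hψc (Cfsg.Agent.Lib.helper4.isCharacter_conj hψ'c)
  choose n₁ hn₁ using fun χ : IrrCharacter G =>
    Cfsg.Agent.Lib.helper4.exists_nat_classInner_irr hΞ₁c χ.2
  choose n₂ hn₂ using fun χ : IrrCharacter G =>
    Cfsg.Agent.Lib.helper4.exists_nat_classInner_irr hΞ₂c χ.2
  have hfun₁ : Ξ₁ = ∑ χ : IrrCharacter G, ((n₁ χ : ℕ) : ℂ) • (χ : G → ℂ) := by
    have h := Cfsg.Agent.Lib.helper4.classFunction_eq_sum_irr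
      (Cfsg.Agent.Lib.helper4.isClassFunction_of_isCharacter hΞ₁c)
    conv_lhs => rw [h]
    exact Finset.sum_congr rfl (fun χ _ => by rw [hn₁ χ])
  have hfun₂ : Ξ₂ = ∑ χ : IrrCharacter G, ((n₂ χ : ℕ) : ℂ) • (χ : G → ℂ) := by
    have h := Cfsg.Agent.Lib.helper4.classFunction_eq_sum_irr
      (Cfsg.Agent.Lib.helper4.isClassFunction_of_isCharacter hΞ₂c)
    conv_lhs => rw [h]
    exact Finset.sum_congr rfl (fun χ _ => by rw [hn₂ χ])
  have hexp₁ : ∀ g, Ξ₁ g = ∑ χ : IrrCharacter G, (n₁ χ : ℂ) * (χ : G → ℂ) g := by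
    intro g
    have := congrFun hfun₁ g
    rw [this, Finset.sum_apply]
    exact Finset.sum_congr rfl (fun χ _ => by simp)
  have hexp₂ : ∀ g, Ξ₂ g = ∑ χ : IrrCharacter G, (n₂ χ : ℂ) * (χ : G → ℂ) g := by
    intro g
    have := congrFun hfun₂ g
    rw [this, Finset.sum_apply]
    exact Finset.sum_congr rfl (fun χ _ => by simp)
  -- degrees
  have hs₁ : ∑ χ : IrrCharacter G, n₁ χ * charDegree (χ : G → ℂ) = d ^ 2 := by
    have h := hexp₁ 1
    rw [hΞ₁] at h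
    simp only [hψ1, Complex.conj_natCast] at h
    have h2 : ((d ^ 2 : ℕ) : ℂ) = ((∑ χ : IrrCharacter G, n₁ χ * charDegree (χ : G → ℂ) : ℕ) : ℂ) := by
      push_cast
      rw [pow_two, h]
      exact Finset.sum_congr rfl
        (fun χ _ => by rw [Cfsg.Agent.Lib.helper81.irr_one_eq_charDegree])
    exact_mod_cast h2.symm
  have hs₂ : ∑ χ : IrrCharacter G, n₂ χ * charDegree (χ : G → ℂ) = d ^ 2 := by
    have h := hexp₂ 1
    rw [hΞ₂] at h
    simp only [hψ'apply, one_pow, hψ1, Complex.conj_natCast] at h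
    have h2 : ((d ^ 2 : ℕ) : ℂ) = ((∑ χ : IrrCharacter G, n₂ χ * charDegree (χ : G → ℂ) : ℕ) : ℂ) := by
      push_cast
      rw [pow_two, h]
      exact Finset.sum_congr rfl
        (fun χ _ => by rw [Cfsg.Agent.Lib.helper81.irr_one_eq_charDegree])
    exact_mod_cast h2.symm
  -- the trivial character
  obtain ⟨t, ht⟩ : ∃ t : IrrCharacter G, t = Cfsg.Agent.Lib.helper81.trivChar G := ⟨_, rfl⟩
  have htapply : ∀ g, (t : G → ℂ) g = 1 := by
    intro g; rw [ht]; exact Cfsg.Agent.Lib.helper81.trivChar_apply g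
  have he' : 2 * Nat.card H + 1 = p := by omega
  obtain ⟨htX, hεt⟩ := helper2_triv_mem_X p P H M hM X Y εX ε hD he' hp5
  rw [← ht] at htX hεt
  have hdegt : charDegree (t : G → ℂ) = 1 := by
    simp [charDegree, htapply]
  have hn₁t : n₁ t = 1 := by
    have h1 : classInner Ξ₁ (t : G → ℂ) = classInner (ψ : G → ℂ) (ψ : G → ℂ) := by
      unfold classInner
      rw [hΞ₁]
      simp [htapply]
    rw [hn₁ t, Cfsg.Agent.Lib.helper81.irr_classInner_self] at h1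
    exact_mod_cast h1
  have hn₂t : n₂ t = 0 := by
    have h1 : classInner Ξ₂ (t : G → ℂ) = classInner (ψ : G → ℂ) (ψ' : G → ℂ) := by
      unfold classInner
      rw [hΞ₂]
      simp [htapply]
    rw [hn₂ t, Cfsg.Agent.Lib.helper81.irr_classInner_ne hneψ] at h1
    exact_mod_cast h1
  -- `X` as a finset
  obtain ⟨Xf, hXf⟩ : ∃ Xf : Finset (IrrCharacter G), Xf = (Set.toFinite X).toFinset := ⟨_, rfl⟩
  have hmemX : ∀ ξ, ξ ∈ Xf ↔ ξ ∈ X := fun ξ => by rw [hXf, Set.Finite.mem_toFinset]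
  have hcardXf : Xf.card = d := by
    rw [← he, ← hD.cardX, _root_.Nat.card_coe_set_eq, Set.ncard_eq_toFinset_card X (Set.toFinite X),
      hXf]
  have hnt : ∀ ξ : IrrCharacter G, ξ ≠ t → ∃ g : G, (ξ : G → ℂ) g ≠ 1 := by
    intro ξ hξt
    by_contra hcon
    push Not at hcon
    apply hξt
    apply Subtype.ext
    funext g
    rw [hcon g, htapply g]
  have hdiff : ∀ ξ ∈ Xf, (n₁ ξ : ℤ) - (n₂ ξ : ℤ) = εX ξ := by
    intro ξ hξ
    have h := delta_inner p P hP x hx hx1 H M X Y εX ε hD ψ ψ' hneψ hreg ξ ((hmemX ξ).mp hξ)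
    rw [← hΞ₁, ← hΞ₂, hn₁ ξ, hn₂ ξ] at h
    exact_mod_cast h
  have hcore := X_core (fun χ : IrrCharacter G => charDegree (χ : G → ℂ)) Xf εX n₁ n₂ t d p hdeg
    hp5 ((hmemX t).mpr htX) hεt hdegt hn₁t hn₂t
    (fun ξ hξ => hD.signX ξ ((hmemX ξ).mp hξ))
    (fun ξ hξ => hD.degX ξ ((hmemX ξ).mp hξ))
    (fun ξ hξ hξt hε =>
      (X_degree_lb p P hP x hx hx1 H M X Y εX ε hD hodd hgen ξ ((hmemX ξ).mp hξ) (hnt ξ hξt)).1 hε)
    (fun ξ hξ hε =>
      (X_degree_lb p P hP x hx hx1 H M X Y εX ε hD hodd hgen ξ ((hmemX ξ).mp hξ)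
        (hnt ξ (fun h => by rw [h, hεt] at hε; omega))).2 hε)
    hcardXf hdiff hs₁ hs₂ (fun χ => Cfsg.Agent.Lib.helper81.irr_charDegree_pos χ)
  obtain ⟨hc1, hc2, ⟨ξ₀, hξ₀X, hξ₀ε⟩, hc3, hc4⟩ := hcore
  refine ⟨⟨ξ₀, (hmemX ξ₀).mp hξ₀X, hξ₀ε, hc2 ξ₀ hξ₀X hξ₀ε⟩, ?_, ?_⟩
  · -- (o4)
    have hinner : classInner Ξ₁ Ξ₂ = 0 := by
      rw [hfun₁, hfun₂, Cfsg.Agent.Lib.helper4.classInner_sum_irr_smul]
      have : ∑ χ : IrrCharacter G, ((n₁ χ : ℕ) : ℂ) * conj ((n₂ χ : ℕ) : ℂ)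
          = ((∑ χ : IrrCharacter G, n₁ χ * n₂ χ : ℕ) : ℂ) := by
        push_cast
        exact Finset.sum_congr rfl (fun χ _ => by rw [Complex.conj_natCast])
      rw [this, hc3, Nat.cast_zero]
    unfold classInner at hinner
    have hG : (Nat.card G : ℂ) ≠ 0 := Nat.cast_ne_zero.mpr Nat.card_pos.ne'
    rcases mul_eq_zero.mp hinner with h | h
    · exact absurd (inv_eq_zero.mp h) hG
    · rw [← h]
      refine Finset.sum_congr rfl (fun g _ => ?_)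
      rw [hΞ₁, hΞ₂]
      simp only [hψ'apply, map_mul, Complex.conj_conj]
  · -- (o6)
    intro h hh υ hυ
    obtain ⟨Sp, hSp⟩ : ∃ Sp : G → ℂ, ∀ g, Sp g =
      ∑ ξ ∈ Xf.filter (fun ξ => εX ξ = 1), (ξ : G → ℂ) g := ⟨_, fun g => rfl⟩
    obtain ⟨Sm, hSm⟩ : ∃ Sm : G → ℂ, ∀ g, Sm g =
      ∑ ξ ∈ Xf.filter (fun ξ => ¬ εX ξ = 1), (ξ : G → ℂ) g := ⟨_, fun g => rfl⟩
    have hεm : ∀ ξ ∈ Xf.filter (fun ξ => ¬ εX ξ = 1), ξ ∈ Xf ∧ εX ξ = -1 := by
      intro ξ hξ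
      obtain ⟨h1, h2⟩ := Finset.mem_filter.mp hξ
      rcases hD.signX ξ ((hmemX ξ).mp h1) with h3 | h3
      · exact absurd h3 h2
      · exact ⟨h1, h3⟩
    have hpC : (p : ℂ) = 2 * (d : ℂ) + 1 := by
      rw [← hdeg]; push_cast; ring
    have hd0 : (d : ℂ) ≠ 0 := by
      have : 0 < d := by omega
      exact Nat.cast_ne_zero.mpr this.ne'
    have hd1 : (d : ℂ) + 1 ≠ 0 := by
      have : ((d + 1 : ℕ) : ℂ) ≠ 0 := Nat.cast_ne_zero.mpr (Nat.succ_ne_zero d)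
      exact_mod_cast this
    -- the relation `relY` in finset form
    have hrel : ∀ g : G, ¬ p ∣ orderOf g → (ε : ℂ) * (υ : G → ℂ) g = Sp g - Sm g := by
      intro g hg
      rw [hD.relY υ hυ g hg, finsum_mem_eq_finite_toFinset_sum _ (Set.toFinite X), ← hXf,
        ← Finset.sum_filter_add_sum_filter_not Xf (fun ξ => εX ξ = 1), hSp, hSm]
      have h1 : ∑ ξ ∈ Xf.filter (fun ξ => εX ξ = 1), (εX ξ : ℂ) * (ξ : G → ℂ) g
          = ∑ ξ ∈ Xf.filter (fun ξ => εX ξ = 1), (ξ : G → ℂ) g := by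
        refine Finset.sum_congr rfl (fun ξ hξ => ?_)
        rw [(Finset.mem_filter.mp hξ).2]; simp
      have h2 : ∑ ξ ∈ Xf.filter (fun ξ => ¬ εX ξ = 1), (εX ξ : ℂ) * (ξ : G → ℂ) g
          = -∑ ξ ∈ Xf.filter (fun ξ => ¬ εX ξ = 1), (ξ : G → ℂ) g := by
        rw [← Finset.sum_neg_distrib]
        refine Finset.sum_congr rfl (fun ξ hξ => ?_)
        rw [(hεm ξ hξ).2]; simp
      rw [h1, h2]; ring
    -- the degree-weighted sum
    have htp : t ∈ Xf.filter (fun ξ => εX ξ = 1) :=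
      Finset.mem_filter.mpr ⟨(hmemX t).mpr htX, hεt⟩
    have hT : ∑ ξ ∈ Xf, (ξ : G → ℂ) h / (ξ : G → ℂ) 1
        = 1 + (Sp h - 1) / ((p : ℂ) + 1) + Sm h / ((p : ℂ) - 1) := by
      rw [← Finset.sum_filter_add_sum_filter_not Xf (fun ξ => εX ξ = 1)]
      have h1 : ∑ ξ ∈ Xf.filter (fun ξ => εX ξ = 1), (ξ : G → ℂ) h / (ξ : G → ℂ) 1
          = 1 + (Sp h - 1) / ((p : ℂ) + 1) := by
        rw [← Finset.add_sum_erase _ _ htp, htapply, htapply, div_one]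
        congr 1
        have h3 : ∑ ξ ∈ (Xf.filter (fun ξ => εX ξ = 1)).erase t, (ξ : G → ℂ) h / (ξ : G → ℂ) 1
            = ∑ ξ ∈ (Xf.filter (fun ξ => εX ξ = 1)).erase t, (ξ : G → ℂ) h / ((p : ℂ) + 1) := by
          refine Finset.sum_congr rfl (fun ξ hξ => ?_)
          obtain ⟨hξt, hξp⟩ := Finset.mem_erase.mp hξ
          obtain ⟨hξX, hξε⟩ := Finset.mem_filter.mp hξp
          rw [Cfsg.Agent.Lib.helper81.irr_one_eq_charDegree, hc1 ξ hξX hξt hξε]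
          push_cast; rfl
        rw [h3, ← Finset.sum_div]
        congr 1
        rw [hSp]
        have h4 := Finset.add_sum_erase (Xf.filter (fun ξ => εX ξ = 1))
          (fun ξ : IrrCharacter G => (ξ : G → ℂ) h) htp
        simp only [htapply] at h4
        rw [← h4]; ring
      have h2 : ∑ ξ ∈ Xf.filter (fun ξ => ¬ εX ξ = 1), (ξ : G → ℂ) h / (ξ : G → ℂ) 1
          = Sm h / ((p : ℂ) - 1) := by
        rw [hSm, Finset.sum_div]
        refine Finset.sum_congr rfl (fun ξ hξ => ?_)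
        obtain ⟨hξX, hξε⟩ := hεm ξ hξ
        rw [Cfsg.Agent.Lib.helper81.irr_one_eq_charDegree, hc2 ξ hξX hξε,
          Nat.cast_sub hp.one_le]
        push_cast; rfl
      rw [h1, h2]
    have hυ1 : (υ : G → ℂ) 1 = (charDegree (υ : G → ℂ) : ℂ) :=
      Cfsg.Agent.Lib.helper81.irr_one_eq_charDegree υ
    have hypos : 0 < charDegree (υ : G → ℂ) := Cfsg.Agent.Lib.helper81.irr_charDegree_pos υ
    have hone : ¬ p ∣ orderOf (1 : G) := by
      rw [orderOf_one]; exact fun h => hp.one_lt.ne' (Nat.dvd_one.mp h)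
    -- the signed degree sum
    have hsd : (ε : ℂ) * (charDegree (υ : G → ℂ) : ℂ)
        = ((∑ ξ ∈ Xf, εX ξ * (charDegree (ξ : G → ℂ) : ℤ) : ℤ) : ℂ) := by
      rw [← hυ1, hD.relY υ hυ 1 hone, finsum_mem_eq_finite_toFinset_sum _ (Set.toFinite X), ← hXf]
      push_cast
      exact Finset.sum_congr rfl
        (fun ξ _ => by rw [Cfsg.Agent.Lib.helper81.irr_one_eq_charDegree])
    rw [finsum_mem_eq_finite_toFinset_sum _ (Set.toFinite X), ← hXf, hT]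
    have hw₁ : (ψ : G → ℂ) h * conj ((ψ : G → ℂ) h) = Ξ₁ h := by rw [hΞ₁]
    have hw₂ : (ψ : G → ℂ) h * conj ((ψ : G → ℂ) h) = Ξ₂ h := by
      rw [hΞ₂]
      show _ = (ψ : G → ℂ) h * conj ((ψ' : G → ℂ) h)
      rw [hreg h hh]
    rcases hc4 with ⟨hnA, hsA⟩ | ⟨hnB, hsB⟩
    · -- Case A
      rw [hsA] at hsd
      have hε1 : ε = 1 ∧ charDegree (υ : G → ℂ) = d := by
        rcases hD.signY with h1 | h1
        · refine ⟨h1, ?_⟩
          rw [h1] at hsd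
          have : ((charDegree (υ : G → ℂ) : ℕ) : ℂ) = ((d : ℕ) : ℂ) := by
            simpa using hsd
          exact_mod_cast this
        · exfalso
          rw [h1] at hsd
          have : (((-1 : ℤ) * (charDegree (υ : G → ℂ) : ℤ) : ℤ) : ℂ) = (((d : ℤ)) : ℂ) := by
            push_cast; simpa using hsd
          have h2 : (-1 : ℤ) * (charDegree (υ : G → ℂ) : ℤ) = (d : ℤ) := by exact_mod_cast this
          omega
      have hwSp : Ξ₁ h = Sp h := by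
        rw [hexp₁ h, hSp]
        have : ∀ χ : IrrCharacter G, (n₁ χ : ℂ) * (χ : G → ℂ) h
            = if χ ∈ Xf.filter (fun ξ => εX ξ = 1) then (χ : G → ℂ) h else 0 := by
          intro χ
          rw [hnA χ]
          by_cases hχ : χ ∈ Xf ∧ εX χ = 1
          · rw [if_pos hχ, if_pos (Finset.mem_filter.mpr hχ)]; simp
          · rw [if_neg hχ, if_neg (fun h => hχ (Finset.mem_filter.mp h))]; simp
        rw [Finset.sum_congr rfl (fun χ _ => this χ), Finset.sum_ite_mem, Finset.univ_inter]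
      have hυh : (υ : G → ℂ) h = Sp h - Sm h := by
        have := hrel h hh
        rw [hε1.1] at this
        simpa using this
      rw [hυh, hυ1, hε1.2, hw₁, hwSp, hpC]
      have h2d : (2 * (d : ℂ) + 1 - 1) = 2 * d := by ring
      rw [h2d]
      field_simp
      ring
    · -- Case B
      rw [hsB] at hsd
      have hε1 : ε = -1 ∧ charDegree (υ : G → ℂ) = d + 1 := by
        rcases hD.signY with h1 | h1
        · exfalso
          rw [h1] at hsd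
          have : (((1 : ℤ) * (charDegree (υ : G → ℂ) : ℤ) : ℤ) : ℂ) = ((-((d : ℤ) + 1) : ℤ) : ℂ) := by
            push_cast; simpa using hsd
          have h2 : (1 : ℤ) * (charDegree (υ : G → ℂ) : ℤ) = -((d : ℤ) + 1) := by exact_mod_cast this
          omega
        · refine ⟨h1, ?_⟩
          rw [h1] at hsd
          have : (((-1 : ℤ) * (charDegree (υ : G → ℂ) : ℤ) : ℤ) : ℂ) = ((-((d : ℤ) + 1) : ℤ) : ℂ) := by
            push_cast; simpa using hsd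
          have h2 : (-1 : ℤ) * (charDegree (υ : G → ℂ) : ℤ) = -((d : ℤ) + 1) := by exact_mod_cast this
          omega
      have hwSm : Ξ₂ h = Sm h := by
        rw [hexp₂ h, hSm]
        have : ∀ χ : IrrCharacter G, (n₂ χ : ℂ) * (χ : G → ℂ) h
            = if χ ∈ Xf.filter (fun ξ => ¬ εX ξ = 1) then (χ : G → ℂ) h else 0 := by
          intro χ
          rw [hnB χ]
          by_cases hχ : χ ∈ Xf ∧ εX χ = -1
          · have hmem : χ ∈ Xf.filter (fun ξ => ¬ εX ξ = 1) :=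
              Finset.mem_filter.mpr ⟨hχ.1, by rw [hχ.2]; norm_num⟩
            rw [if_pos hχ, if_pos hmem]; simp
          · rw [if_neg hχ, if_neg (fun h => hχ (hεm χ h))]; simp
        rw [Finset.sum_congr rfl (fun χ _ => this χ), Finset.sum_ite_mem, Finset.univ_inter]
      have hυh : (υ : G → ℂ) h = Sm h - Sp h := by
        have := hrel h hh
        rw [hε1.1] at this
        have h3 : (υ : G → ℂ) h = -(((-1 : ℤ) : ℂ) * (υ : G → ℂ) h) := by push_cast; ring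
        rw [h3, this]; ring
      rw [hυh, hυ1, hε1.2, hw₂, hwSm, hpC]
      have h2d : (2 * (d : ℂ) + 1 - 1) = 2 * d := by ring
      have h2d' : (2 * (d : ℂ) + 1 + 1) = 2 * (d + 1) := by ring
      rw [h2d, h2d']
      push_cast
      field_simp
      ring

end Cfsg.Agent.Lib.helper2.BG
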