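import Mathlib
import Cfsg.Agent.Lib.helper13.BGL
import Cfsg.Agent.Lib.helper13.BGN
import Cfsg.Agent.Lib.helper2.BGA
import Cfsg.Agent.Lib.helper2.BGG
import Cfsg.Agent.Lib.helper40.BGQ
import Cfsg.Agent.Lib.helper48.BGBC
import Cfsg.Agent.Lib.helper50.BGO0p
import Cfsg.Agent.Lib.helper60.BGO
import Cfsg.Agent.Lib.helper79.BGD
import Cfsg.Agent.Lib.helper82.BGO1
import Cfsg.Agent.Lib.helper82.BGP
import Cfsg.Agent.Lib.helper97.BGK
import Cfsg.Agent.Lib.helper2.BFMain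
import Cfsg.Agent.Lib.helper40.BGD2core

set_option autoImplicit false

open Cfsg Cfsg.Agent.Lib.helper20.D1E Cfsg.Agent.Lib.helper2.BF
open scoped ComplexConjugate

namespace Cfsg.Agent.Lib.helper2.BG

universe u

/-- `x` is not central if `P` is not normal. -/
theorem helper2_bg_not_central {G : Type u} [Group G] [Fintype G] (p : ℕ) [Fact p.Prime]
    (P : Sylow p G) (hP : Nat.card P = p) (x : G) (hx : x ∈ (P : Subgroup G)) (hx1 : x ≠ 1)
    (hnn : ¬ (P : Subgroup G).Normal) : x ∉ Subgroup.center G := by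
  intro hxc
  apply hnn
  obtain ⟨hPx, -⟩ := Cfsg.Agent.Lib.helper46.d1gs_eq_zpowers p (P : Subgroup G) hP x hx hx1
  rw [hPx]
  constructor
  intro n hn g
  obtain ⟨k, rfl⟩ := Subgroup.mem_zpowers_iff.mp hn
  have hc : x ^ k ∈ Subgroup.center G := Subgroup.zpow_mem _ hxc k
  rw [Subgroup.mem_center_iff] at hc
  rw [hc g, mul_inv_cancel_right]
  exact hn

/-- D2 : the kernel of a character not containing `x` is central. -/
theorem helper2_ker_le_center {G : Type u} [Group G] [Fintype G] (p : ℕ) [Fact p.Prime]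
    (P : Sylow p G) (hP : Nat.card P = p) (x : G) (hx : x ∈ (P : Subgroup G)) (hx1 : x ≠ 1)
    (hgen : Subgroup.normalClosure ({x} : Set G) = ⊤)
    (ψ : IrrCharacter G) (hdeg : 2 * charDegree (ψ : G → ℂ) + 1 ≤ p)
    (hfaith : ∀ g : G, (ψ : G → ℂ) g = (ψ : G → ℂ) 1 → g = 1)
    (hns : ‖(ψ : G → ℂ) x‖ ≠ ‖(ψ : G → ℂ) 1‖)
    (ξ : G → ℂ) (hξ : IsCharacter G ξ) (hξx : ξ x ≠ ξ 1) :
    ∀ k : G, ξ k = ξ 1 → k ∈ Subgroup.center G :=
  helper40_ker_le_center_core p P hP x hx hx1 hgen ψ hdeg hfaith hns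
    (fun L hL hxL => h79_ker_central p P hP x hx hx1 ψ hdeg hns L hL hxL) ξ hξ hξx

/-- `m = 1` (the S4503 assembly, with `helper2_ker_le_center` in place of the induction). -/
theorem helper2_bg_m_one {G : Type u} [Group G] [Fintype G] (p : ℕ) [Fact p.Prime]
    (P : Sylow p G) (hP : Nat.card P = p) (x : G) (hx : x ∈ (P : Subgroup G)) (hx1 : x ≠ 1)
    (H : Subgroup (ZMod p)ˣ)
    (hH : ∀ r : (ZMod p)ˣ, r ∈ H ↔ ∃ n : G, n * x * n⁻¹ = x ^ ((r : ZMod p).val))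
    (M : Ideal AlgInt) (hM : IsPModular p M) (X Y : Set (IrrCharacter G))
    (εX : IrrCharacter G → ℤ) (ε : ℤ) (hD : PBData p M P (Nat.card H) X Y εX ε)
    (ψ : IrrCharacter G) (hdeg : 2 * charDegree (ψ : G → ℂ) + 1 = p)
    (hfaith : ∀ g : G, (ψ : G → ℂ) g = (ψ : G → ℂ) 1 → g = 1)
    (hgen : Subgroup.normalClosure ({x} : Set G) = ⊤)
    (hns : ‖(ψ : G → ℂ) x‖ ≠ ‖(ψ : G → ℂ) 1‖) (he2 : 2 ≤ Nat.card H)
    (a₀ : (ZMod p)ˣ) (m : ℕ) (hm : 0 < m) (hnm : charDegree (ψ : G → ℂ) = Nat.card H * m)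
    (hmu : OrbitMu p x H (ψ : G → ℂ) a₀ m) : m = 1 := by
  classical
  have hp : p.Prime := Fact.out
  obtain ⟨hxp, hxu⟩ := basic_x p P hP x hx hx1
  have hψc : IsCharacter G (ψ : G → ℂ) := Cfsg.Agent.Lib.helper81.irr_isCharacter ψ
  by_contra hm1
  have hm2 : 2 ≤ m := by omega
  have het : 3 * Nat.card H ≤ p - 1 := by
    have h1 : p - 1 = 2 * (Nat.card H * m) := by omega
    have h2 : Nat.card H * 2 ≤ Nat.card H * m := Nat.mul_le_mul_left _ hm2
    omega
  have hmu0 : mu p x (ψ : G → ℂ) 0 = 0 := by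
    rw [hmu 0]
    apply Set.indicator_of_notMem
    rintro ⟨h, -, hh⟩
    have : ((a₀ * h : (ZMod p)ˣ) : ZMod p) = 0 := by rw [Units.val_mul]; exact hh.symm
    exact (a₀ * h).ne_zero this
  obtain ⟨c, hc⟩ : ∃ c : (ZMod p)ˣ, c ∉ H := by
    by_contra hall
    push Not at hall
    have htop : H = ⊤ := (Subgroup.eq_top_iff' H).mpr hall
    have hcard : Nat.card H = p - 1 := by
      rw [htop, Subgroup.card_top, Nat.card_eq_fintype_card, ZMod.card_units p]
    omega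
  have hdiv : p ∣ Nat.card G := by
    have := Subgroup.card_subgroup_dvd_card (P : Subgroup G)
    rwa [hP] at this
  have hsq : ¬ p ^ 2 ∣ Nat.card G := Cfsg.Agent.Lib.helper46.d1gs_not_sq_dvd p P hP
  obtain ⟨mp, hmp, hmc, hmreg⟩ := exists_pconj (G := G) p hdiv hsq c
  let ψ' : IrrCharacter G := ⟨fun g => (ψ : G → ℂ) (g ^ mp),
    Cfsg.Agent.Lib.helper79.isIrrCharacter_pow_coprime mp hmp ψ.2⟩
  have hψ'c : IsCharacter G (ψ' : G → ℂ) := Cfsg.Agent.Lib.helper81.irr_isCharacter ψ'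
  have hreg : ∀ g : G, ¬ p ∣ orderOf g → (ψ' : G → ℂ) g = (ψ : G → ℂ) g := by
    intro g hg
    show (ψ : G → ℂ) (g ^ mp) = (ψ : G → ℂ) g
    rw [hmreg g hg]
  have hcomm : ∀ k ∈ Subgroup.centralizer ((P : Subgroup G) : Set G), Commute x k := by
    intro k hk
    exact (Subgroup.mem_centralizer_iff.mp hk x hx)
  have hsupp : ∀ k ∈ Subgroup.centralizer ((P : Subgroup G) : Set G), ¬ p ∣ orderOf k →
      ∑ i ∈ Finset.range p, (ψ : G → ℂ) (x ^ i * k) * conj ((ψ' : G → ℂ) (x ^ i * k)) = 0 :=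
    fun k hk hpk => supp_orth p x hxp H (ψ : G → ℂ) hψc a₀ m hmu c hc mp hmc k (hcomm k hk)
      (hmreg k hpk)
  have hΞ : IsCharacter G (fun g => (ψ : G → ℂ) g * conj ((ψ' : G → ℂ) g)) :=
    Cfsg.Agent.Lib.helper4.isCharacter_mul hψc (Cfsg.Agent.Lib.helper4.isCharacter_conj hψ'c)
  have hΞ0 : mu p x (fun g => (ψ : G → ℂ) g * conj ((ψ' : G → ℂ) g)) 0 = 0 := by
    have h1 := hsupp 1 (one_mem _)
      (by rw [orderOf_one]; exact fun h => hp.one_lt.ne' (Nat.dvd_one.mp h))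
    unfold mu
    rw [mul_eq_zero]
    right
    rw [← h1]
    refine Finset.sum_congr rfl fun i _ => ?_
    simp [ZMod.val_zero]
  rcases dichotomy p P hP x hx hx1 H M hM X Y εX ε hD ψ ψ' hsupp hreg with
    ⟨ξ, hξX, hξε, hξc⟩ | ⟨υ, hυY, hυc⟩
  · have h0 := mu_zero_of_constituent p x hxp _ hΞ hΞ0 ξ hξc
    obtain ⟨hξx, hξK⟩ := X_minus_ker p P hP x hx hx1 H M X Y εX ε hD ξ hξX hξε h0
    have hcen := helper2_ker_le_center p P hP x hx hx1 hgen ψ (le_of_eq hdeg) hfaith hns (ξ : G → ℂ)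
      (Cfsg.Agent.Lib.helper81.irr_isCharacter ξ) hξx
    have hscal : ∀ k ∈ Subgroup.centralizer ((P : Subgroup G) : Set G), ¬ p ∣ orderOf k →
        ∃ μ : ℂ, ‖μ‖ = 1 ∧ ∀ g : G, (ψ : G → ℂ) (g * k) = μ * (ψ : G → ℂ) g :=
      fun k hk hpk => helper48_central_scalar ψ k (hcen k (hξK k hk hpk))
    exact hm1 (m_eq_one p P hP x hx hx1 H hH ψ a₀ m hm hmu c hc mp hmp hmc hmreg hscal)
  · have h0 := mu_zero_of_constituent p x hxp _ hΞ hΞ0 υ hυc
    have hdegυ := Y_degree p P hP x hx hx1 H hH M hM X Y εX ε hD υ hυY h0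
    exact (lemmaB p P hP x hx hx1 H hH M hM X Y εX ε hD hgen he2 het υ hdegυ h0).elim

/-- The main stage of S4504. -/
theorem bg_main {G : Type u} [Group G] [Fintype G] (p : ℕ) [Fact p.Prime]
    (P : Sylow p G) (hP : Nat.card P = p) (x : G) (hx : x ∈ (P : Subgroup G)) (hx1 : x ≠ 1)
    (H : Subgroup (ZMod p)ˣ)
    (hH : ∀ r : (ZMod p)ˣ, r ∈ H ↔ ∃ n : G, n * x * n⁻¹ = x ^ ((r : ZMod p).val))
    (hHc : Nat.card H = (Subgroup.centralizer ((P : Subgroup G) : Set G)).relIndex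
        (Subgroup.normalizer ((P : Subgroup G) : Set G)))
    (ψ : IrrCharacter G) (hdeg : 2 * charDegree (ψ : G → ℂ) + 1 = p)
    (hfaith : ∀ g : G, (ψ : G → ℂ) g = (ψ : G → ℂ) 1 → g = 1)
    (hgen : Subgroup.normalClosure ({x} : Set G) = ⊤)
    (hnn : ¬ (P : Subgroup G).Normal) : MainConcl p x P H (ψ : G → ℂ) := by
  classical
  have hp : p.Prime := Fact.out
  obtain ⟨hxp, hxu⟩ := basic_x p P hP x hx hx1
  have hψc : IsCharacter G (ψ : G → ℂ) := Cfsg.Agent.Lib.helper81.irr_isCharacter ψ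
  have hdpos : 0 < charDegree (ψ : G → ℂ) := Cfsg.Agent.Lib.helper81.irr_charDegree_pos ψ
  have hψ1 : (ψ : G → ℂ) 1 = (charDegree (ψ : G → ℂ) : ℂ) :=
    Cfsg.Agent.Lib.helper81.irr_one_eq_charDegree ψ
  have hxc : x ∉ Subgroup.center G := helper2_bg_not_central p P hP x hx hx1 hnn
  have hns : ‖(ψ : G → ℂ) x‖ ≠ ‖(ψ : G → ℂ) 1‖ :=
    fun h => hxc (helper48_norm_central (ψ : G → ℂ) hψc hfaith x h)
  have hxk : (ψ : G → ℂ) x ≠ (ψ : G → ℂ) 1 := fun h => hns (by rw [h])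
  obtain ⟨a₀, m, hm, hnm, hmu⟩ := single_orbit2 p P hP x hx hx1 H hH ψ (le_of_eq hdeg) hxk
  have hHpos : 0 < Nat.card H := Nat.card_pos
  have he2 : 2 ≤ Nat.card H := by
    by_contra hcon
    have he1 : Nat.card H = 1 := by omega
    apply hns
    have hex := mu_expand p x hxp (ψ : G → ℂ) 1
    rw [pow_one] at hex
    have hHbot : ∀ h ∈ H, h = 1 := by
      intro h hh
      have hsub : Subsingleton H := (Nat.card_eq_one_iff_unique.mp he1).1
      have := Subsingleton.elim (⟨h, hh⟩ : H) ⟨1, H.one_mem⟩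
      exact congrArg Subtype.val this
    have hmu' : ∀ b : ZMod p, mu p x (ψ : G → ℂ) b = if b = (a₀ : ZMod p) then (m : ℂ) else 0 := by
      intro b
      rw [hmu b]
      by_cases hb : b = (a₀ : ZMod p)
      · rw [if_pos hb]
        apply Set.indicator_of_mem
        exact ⟨1, H.one_mem, by rw [hb]; simp⟩
      · rw [if_neg hb]
        apply Set.indicator_of_notMem
        rintro ⟨h, hh, hbh⟩
        apply hb
        rw [hbh, hHbot h hh]; simp
    rw [hex, hψ1, hnm, he1]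
    simp only [hmu']
    rw [Finset.sum_eq_single (a₀ : ZMod p)]
    · rw [if_pos rfl, norm_mul, norm_pow]
      have hz : ‖zeta p‖ = 1 := by
        have := (Cfsg.Agent.Lib.helper83.D1E.zeta_prim p).norm'_eq_one hp.ne_zero
        exact this
      rw [hz, one_pow, mul_one]
      push_cast
      simp
    · intro b _ hb
      rw [if_neg hb, zero_mul]
    · intro h
      exact absurd (Finset.mem_univ _) h
  obtain ⟨M, hM⟩ := Cfsg.Agent.Lib.helper76.exists_isPModular p hp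
  have hodd : p ≠ 2 := by omega
  obtain ⟨X, Y, hU, hdisj, hcX, hcY, εX, ε, hXall, hε, hdegY, hregY, hrelY⟩ :=
    Cfsg.Agent.S4441.result p M hM hodd P hP (Nat.card H) hHc.symm
  have hD : PBData p M P (Nat.card H) X Y εX ε :=
    ⟨hU, hdisj, hcX, hcY, fun χ hχ => (hXall χ hχ).1, fun χ hχ => (hXall χ hχ).2.1,
      fun χ hχ => (hXall χ hχ).2.2, hε, hdegY, hregY, hrelY⟩
  have hm1 : m = 1 := helper2_bg_m_one p P hP x hx hx1 H hH M hM X Y εX ε hD ψ hdeg hfaith hgen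
    hns he2 a₀ m hm hnm hmu
  subst hm1
  have he : Nat.card H = charDegree (ψ : G → ℂ) := by rw [hnm, mul_one]
  have he' : 2 * Nat.card H + 1 = p := by omega
  have hp5 : 5 ≤ p := by omega
  obtain ⟨c, hc⟩ : ∃ c : (ZMod p)ˣ, c ∉ H := by
    by_contra hall
    push Not at hall
    have htop : H = ⊤ := (Subgroup.eq_top_iff' H).mpr hall
    have hcard : Nat.card H = p - 1 := by
      rw [htop, Subgroup.card_top, Nat.card_eq_fintype_card, ZMod.card_units p]
    omega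
  have hdiv : p ∣ Nat.card G := by
    have := Subgroup.card_subgroup_dvd_card (P : Subgroup G)
    rwa [hP] at this
  have hsq : ¬ p ^ 2 ∣ Nat.card G := Cfsg.Agent.Lib.helper46.d1gs_not_sq_dvd p P hP
  obtain ⟨mp, hmp, hmc, hmreg⟩ := exists_pconj (G := G) p hdiv hsq c
  obtain ⟨hpH, hpN, hpsum, hpgauss, hpnorm, hpsq, hpq4⟩ :=
    period_facts p x hxp H (ψ : G → ℂ) hψc a₀ hmu he' c hc mp hmc
  have hne : (ψ : G → ℂ) (x ^ mp) ≠ (ψ : G → ℂ) x := by
    intro h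
    rw [h, sub_self, zero_mul] at hpgauss
    exact (Nat.cast_ne_zero.mpr hp.ne_zero) hpgauss.symm
  obtain ⟨⟨ξ, hξX, hξε, hξdeg⟩, h4, h6⟩ := X_structure p P hP x hx hx1 H hH M hM X Y εX ε hD
    hgen hp5 ψ he hdeg mp hmp hmreg hne
  -- the `p`-regular elements of `C(P)` are central
  have hK : ∀ k ∈ Subgroup.centralizer ((P : Subgroup G) : Set G), ¬ p ∣ orderOf k →
      k ∈ Subgroup.center G := by
    have h0 : mu p x (ξ : G → ℂ) 0 = 0 := by
      unfold mu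
      rw [mul_eq_zero]; right
      have hval : ∀ i ∈ Finset.range p, i ≠ 0 → (ξ : G → ℂ) (x ^ i) = -1 := by
        intro i hi hi0
        have hi' : ¬ p ∣ i := fun hd =>
          hi0 (Nat.eq_zero_of_dvd_of_lt hd (Finset.mem_range.mp hi))
        have := hD.valX ξ hξX (x ^ i) (pow_mem hx i) (hxu i hi') 1 (one_mem _)
          (by rw [orderOf_one]; exact fun h => hp.one_lt.ne' (Nat.dvd_one.mp h))
        rw [mul_one, hξε] at this
        rw [this]; push_cast; ring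
      have h0mem : 0 ∈ Finset.range p := Finset.mem_range.mpr hp.pos
      rw [← Finset.add_sum_erase _ _ h0mem]
      have h1 : ∑ i ∈ (Finset.range p).erase 0,
          (ξ : G → ℂ) (x ^ i) * (zeta p ^ ((0 : ZMod p).val * i))⁻¹
            = ∑ i ∈ (Finset.range p).erase 0, (-1 : ℂ) := by
        refine Finset.sum_congr rfl fun i hi => ?_
        obtain ⟨hi0, hi⟩ := Finset.mem_erase.mp hi
        rw [ZMod.val_zero, zero_mul, pow_zero, inv_one, mul_one]
        exact hval i hi hi0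
      rw [h1, Finset.sum_const, Finset.card_erase_of_mem h0mem, Finset.card_range]
      simp only [ZMod.val_zero, zero_mul, pow_zero, inv_one, mul_one]
      rw [Cfsg.Agent.Lib.helper81.irr_one_eq_charDegree, hξdeg]
      simp
    obtain ⟨hξx, hξK⟩ := X_minus_ker p P hP x hx hx1 H M X Y εX ε hD ξ hξX hξε h0
    have hcen := helper2_ker_le_center p P hP x hx hx1 hgen ψ (le_of_eq hdeg) hfaith hns (ξ : G → ℂ)
      (Cfsg.Agent.Lib.helper81.irr_isCharacter ξ) hξx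
    exact fun k hk hpk => hcen k (hξK k hk hpk)
  have hZ : ∀ z ∈ Subgroup.center G, ¬ p ∣ orderOf z := center_preg p P hP x hx hx1 hxc
  obtain ⟨υ, hυ⟩ : ∃ υ, υ ∈ Y := by
    have hcY' := hD.cardY
    have h2 : (p - 1) / Nat.card H = 2 := by
      have : p - 1 = 2 * Nat.card H := by omega
      rw [this]; exact Nat.mul_div_cancel _ hHpos
    rw [h2] at hcY'
    have hne0 : Nat.card Y ≠ 0 := by omega
    obtain ⟨⟨υ, hυ⟩⟩ := (Nat.card_ne_zero.mp hne0).1
    exact ⟨υ, hυ⟩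
  -- the bound on the `p`-regular non-central elements
  have hb : ∀ h : G, ¬ p ∣ orderOf h → h ∉ Subgroup.center G → ‖(ψ : G → ℂ) h‖ ≤ 1 := by
    intro h hh hhc
    have hW := h6 h hh υ hυ
    have hWr : conj (1 + ((ψ : G → ℂ) h * conj ((ψ : G → ℂ) h) - 1) / ((p : ℂ) + 1)
          + (ψ : G → ℂ) h * conj ((ψ : G → ℂ) h) / ((p : ℂ) - 1))
        = 1 + ((ψ : G → ℂ) h * conj ((ψ : G → ℂ) h) - 1) / ((p : ℂ) + 1)
          + (ψ : G → ℂ) h * conj ((ψ : G → ℂ) h) / ((p : ℂ) - 1) := by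
      simp [mul_comm]
    have hS1 := S1_formula p P hP x hx hx1 H hH M hM X Y εX ε hD he' hK hZ c hc mp hmc h hh υ hυ
      _ hW hWr
    have hDl := Dlam_formula p P hP x hx hx1 H hH ψ a₀ hmu he' hK hZ c hc mp hmp hmc hmreg h hh
    exact psi_bound p hp5 ψ hfaith hdeg x mp hpgauss h hhc hDl hS1
  have hcard := card_eq_sylow_mul p P hP x hx hx1 H hHc hK hZ
  obtain ⟨hm2, hm4⟩ := moments p P hP x hx hx1 H hH hHc ψ a₀ hmu he' hK hZ c hc mp hmc hmreg h4
  have hcount := sylow_count p hp5 P ψ hdeg H he' hZ hcard hm2 hm4 hb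
  refine ⟨he', ?_, hK, hcount⟩
  intro c' hc' h
  rw [hpN c' hc'] at h
  exact hne h

end Cfsg.Agent.Lib.helper2.BG
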