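import Mathlib.GroupTheory.SpecificGroups.Cyclic
import Mathlib.GroupTheory.Commutator.Basic
import Mathlib.GroupTheory.Abelianization.Defs
import Mathlib.GroupTheory.OrderOfElement
import Mathlib.Tactic.Group

set_option autoImplicit false

namespace Cfsg.Agent.Lib.helper2

open scoped commutatorElement

/-- In a finite cyclic group, the elements killed by `q` all lie in the subgroup generated by
any element of order `q`. -/
theorem mem_zpowers_of_pow_eq_one {D : Type*} [Group D] [Finite D] [IsCyclic D] (x y : D) (q : ℕ)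
    (hq : 0 < q) (hx : orderOf x = q) (hy : y ^ q = 1) : y ∈ Subgroup.zpowers x := by
  classical
  haveI : Fintype D := Fintype.ofFinite D
  have h1 : (Finset.univ.filter (fun a : D => a ^ q = 1)).card ≤ q :=
    IsCyclic.card_pow_eq_one_le hq
  set T : Finset D := Finset.univ.filter (fun a : D => a ∈ Subgroup.zpowers x) with hT
  have hTS : T ⊆ Finset.univ.filter (fun a : D => a ^ q = 1) := by
    intro a ha
    rw [hT, Finset.mem_filter] at ha
    rw [Finset.mem_filter]
    refine ⟨Finset.mem_univ _, ?_⟩
    obtain ⟨k, rfl⟩ := ha.2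
    rw [← zpow_natCast, ← zpow_mul, mul_comm, zpow_mul, zpow_natCast, ← hx, pow_orderOf_eq_one,
      one_zpow]
  have hTcard : T.card = q := by
    rw [← hx, ← Nat.card_zpowers, Nat.card_eq_fintype_card, hT]
    rw [Fintype.card_subtype]
  have hEq : T = Finset.univ.filter (fun a : D => a ^ q = 1) :=
    Finset.eq_of_subset_of_card_le hTS (by rw [hTcard]; exact h1)
  have hyS : y ∈ Finset.univ.filter (fun a : D => a ^ q = 1) := by
    rw [Finset.mem_filter]
    exact ⟨Finset.mem_univ _, hy⟩
  rw [← hEq, hT, Finset.mem_filter] at hyS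
  exact hyS.2

/-- If `b` (with `b ^ r = 1`, `r` coprime to `|D|`) commutes with the elements of prime order of
the normal abelian subgroup `D`, then it centralizes `D`. -/
theorem centralizes_of_prime {H : Type*} [Group H] [Finite H] (D : Subgroup H) [D.Normal]
    (hDc : ∀ x ∈ D, ∀ y ∈ D, x * y = y * x) (b : H) (r : ℕ) (hb : b ^ r = 1)
    (hrD : (Nat.card D).Coprime r)
    (hpq : ∀ x ∈ D, (orderOf x).Prime → b * x = x * b) : ∀ x ∈ D, b * x = x * b := by
  have key : ∀ n : ℕ, ∀ x ∈ D, orderOf x = n → b * x = x * b := by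
    intro n
    induction n using Nat.strong_induction_on with
    | _ n ih =>
      intro x hx hn
      by_cases hx1 : x = 1
      · rw [hx1, mul_one, one_mul]
      have hn1 : n ≠ 1 := by
        intro h
        rw [h, orderOf_eq_one_iff] at hn
        exact hx1 hn
      have hnpos : 0 < n := by rw [← hn]; exact orderOf_pos x
      obtain ⟨q, hq, hqn⟩ := Nat.exists_prime_and_dvd hn1
      have hy : x ^ q ∈ D := D.pow_mem hx q
      have hyo : orderOf (x ^ q) = n / q := by
        rw [orderOf_pow_of_dvd hq.ne_zero (by rw [hn]; exact hqn), hn]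
      have hlt : n / q < n := Nat.div_lt_self hnpos hq.one_lt
      have hby : b * x ^ q = x ^ q * b := ih _ hlt _ hy hyo
      set z : H := x⁻¹ * (b * x * b⁻¹) with hz
      have hzD : z ∈ D := D.mul_mem (D.inv_mem hx) (Subgroup.Normal.conj_mem inferInstance x hx b)
      have hconj : b * x * b⁻¹ = x * z := by rw [hz]; group
      have hzq : z ^ q = 1 := by
        have h1 : (x * z) ^ q = x ^ q * z ^ q := (show Commute x z from hDc x hx z hzD).mul_pow q
        have h2 : (b * x * b⁻¹) ^ q = x ^ q := by
          rw [conj_pow, hby, mul_inv_cancel_right]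
        rw [hconj, h1] at h2
        exact mul_left_cancel (h2.trans (mul_one _).symm)
      by_cases hz1 : z = 1
      · rw [hz1, mul_one] at hconj
        have := congrArg (fun t => t * b) hconj
        simpa using this
      exfalso
      have hzo : orderOf z = q := by
        have h1 : orderOf z ∣ q := orderOf_dvd_of_pow_eq_one hzq
        rcases (Nat.dvd_prime hq).mp h1 with h2 | h2
        · rw [orderOf_eq_one_iff] at h2
          exact absurd h2 hz1
        · exact h2
      have hbz : b * z = z * b := hpq z hzD (by rw [hzo]; exact hq)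
      have hpow : ∀ k : ℕ, b ^ k * x * (b ^ k)⁻¹ = x * z ^ k := by
        intro k
        induction k with
        | zero => simp
        | succ k ihk =>
          have e1 : b ^ (k + 1) * x * (b ^ (k + 1))⁻¹ = b * (b ^ k * x * (b ^ k)⁻¹) * b⁻¹ := by
            rw [pow_succ']
            group
          have hbzk : b * z ^ k * b⁻¹ = z ^ k := by
            have : Commute b (z ^ k) := (show Commute b z from hbz).pow_right k
            rw [this.eq, mul_inv_cancel_right]
          rw [e1, ihk]
          have e2 : b * (x * z ^ k) * b⁻¹ = (b * x * b⁻¹) * (b * z ^ k * b⁻¹) := by group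
          rw [e2, hconj, hbzk, pow_succ', mul_assoc]
      have h3 := hpow r
      rw [hb, one_mul, inv_one, mul_one] at h3
      have hzr : z ^ r = 1 := by
        have := mul_left_cancel (h3.symm.trans (mul_one x).symm)
        exact this
      have h4 : orderOf z ∣ r := orderOf_dvd_of_pow_eq_one hzr
      have h5 : orderOf z ∣ Nat.card D := by
        have := orderOf_dvd_natCard (⟨z, hzD⟩ : D)
        rwa [Subgroup.orderOf_mk] at this
      have h6 : orderOf z ∣ 1 := by
        have := Nat.dvd_gcd h5 h4
        rwa [hrD] at this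
      rw [hzo] at h6
      exact hq.one_lt.ne' (Nat.dvd_one.mp h6)
  intro x hx
  exact key _ x hx rfl

/-- An element of order prime to `|G'|` centralizing `G'` is central. -/
theorem central_of_centralizes {H : Type*} [Group H] [Finite H] (b : H) (r : ℕ) (hb : b ^ r = 1)
    (hrD : (Nat.card (commutator H)).Coprime r)
    (hcent : ∀ x ∈ commutator H, b * x = x * b) : b ∈ Subgroup.center H := by
  rw [Subgroup.mem_center_iff]
  intro h
  set c : H := b⁻¹ * (h * b * h⁻¹) with hc
  have hcD : c ∈ commutator H := by
    have h1 : ⁅b⁻¹, h⁆ ∈ ⁅(⊤ : Subgroup H), (⊤ : Subgroup H)⁆ :=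
      Subgroup.commutator_mem_commutator (Subgroup.mem_top _) (Subgroup.mem_top _)
    have h2 : ⁅b⁻¹, h⁆ = c := by
      rw [hc, commutatorElement_def]
      group
    rw [h2] at h1
    exact h1
  have hbc : b * c = c * b := hcent c hcD
  have hconj : h * b * h⁻¹ = b * c := by rw [hc]; group
  have hcr : c ^ r = 1 := by
    have h1 : (b * c) ^ r = b ^ r * c ^ r := (show Commute b c from hbc).mul_pow r
    have h2 : (h * b * h⁻¹) ^ r = 1 := by
      rw [conj_pow, hb, mul_one, mul_inv_cancel]
    rw [hconj, h1, hb, one_mul] at h2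
    exact h2
  have h4 : orderOf c ∣ r := orderOf_dvd_of_pow_eq_one hcr
  have h5 : orderOf c ∣ Nat.card (commutator H) := by
    have := orderOf_dvd_natCard (⟨c, hcD⟩ : commutator H)
    rwa [Subgroup.orderOf_mk] at this
  have h6 : orderOf c ∣ 1 := by
    have := Nat.dvd_gcd h5 h4
    rwa [hrD] at this
  have hc1 : c = 1 := orderOf_eq_one_iff.mp (Nat.dvd_one.mp h6)
  rw [hc1, mul_one] at hconj
  have := congrArg (fun t => t * h) hconj
  simpa using this

/-- In a finite group, `b x b⁻¹ ∈ ⟨x⟩` implies that `b` normalizes `⟨x⟩`. -/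
theorem mem_normalizer_zpowers {H : Type*} [Group H] [Finite H] (b x : H)
    (h : b * x * b⁻¹ ∈ Subgroup.zpowers x) :
    b ∈ Subgroup.normalizer (Subgroup.zpowers x : Set H) := by
  have hfwd : ∀ y ∈ Subgroup.zpowers x, b * y * b⁻¹ ∈ Subgroup.zpowers x := by
    rintro y ⟨k, rfl⟩
    have e : b * x ^ k * b⁻¹ = (b * x * b⁻¹) ^ k := by
      have := map_zpow (MulAut.conj b) x k
      simpa [MulAut.conj_apply] using this
    change b * x ^ k * b⁻¹ ∈ Subgroup.zpowers x
    rw [e]
    exact Subgroup.zpow_mem _ h k
  let f : Subgroup.zpowers x → Subgroup.zpowers x := fun y => ⟨b * y * b⁻¹, hfwd y y.2⟩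
  have hinj : Function.Injective f := by
    intro y y' hyy
    have h1 : b * (y : H) * b⁻¹ = b * (y' : H) * b⁻¹ := congrArg Subtype.val hyy
    apply Subtype.ext
    have := congrArg (fun t => b⁻¹ * t * b) h1
    simpa [mul_assoc] using this
  have hsurj : Function.Surjective f := Finite.injective_iff_surjective.mp hinj
  rw [Subgroup.mem_normalizer_iff]
  intro y
  refine ⟨hfwd y, fun hy => ?_⟩
  obtain ⟨y', hy'⟩ := hsurj ⟨b * y * b⁻¹, hy⟩
  have h1 : b * (y' : H) * b⁻¹ = b * y * b⁻¹ := congrArg Subtype.val hy'
  have h2 : (y' : H) = y := by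
    have := congrArg (fun t => b⁻¹ * t * b) h1
    simpa [mul_assoc] using this
  rw [← h2]
  exact y'.2

end Cfsg.Agent.Lib.helper2
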