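import Mathlib
import Cfsg.Agent.Lib.helper20.LocalSubring

/-!
# Monic polynomials over the local ring at `M` have roots in it (helper2)

`localSubring M hM` (the localization of the ring of all algebraic integers at a prime `M`,
inside `ℂ`) is integrally closed in the algebraically closed field `ℂ`, hence every monic
polynomial of positive degree over it has a root in it.
-/

set_option autoImplicit false
open Cfsg Polynomial

namespace Cfsg.Agent.Lib.helper2

open Cfsg.Agent.Lib.helper20

/-- common denominators -/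
theorem exists_common_denom {M : Ideal AlgInt} (hM : M.IsPrime) (S : Finset ℂ)
    (hS : ∀ z ∈ S, MemLocalRing M z) :
    ∃ s : AlgInt, s ∉ M ∧ ∀ z ∈ S, ∃ c : AlgInt, (s : ℂ) * z = (c : ℂ) := by
  classical
  induction S using Finset.induction_on with
  | empty =>
    exact ⟨1, fun h => hM.ne_top ((Ideal.eq_top_iff_one M).mpr h), by simp⟩
  | insert z S hz ih =>
    obtain ⟨s, hs, hs2⟩ := ih (fun w hw => hS w (Finset.mem_insert_of_mem hw))
    obtain ⟨a, b, hb, hab⟩ := hS z (Finset.mem_insert_self z S)
    have hb0 : (b : ℂ) ≠ 0 := by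
      intro h0
      apply hb
      have : b = 0 := Subtype.ext h0
      rw [this]
      exact M.zero_mem
    refine ⟨s * b, fun h => (hM.mem_or_mem h).elim hs hb, ?_⟩
    intro w hw
    rcases Finset.mem_insert.mp hw with rfl | hw
    · refine ⟨s * a, ?_⟩
      rw [← hab]
      push_cast
      field_simp
    · obtain ⟨c, hc⟩ := hs2 w hw
      refine ⟨b * c, ?_⟩
      push_cast
      rw [← hc]
      ring

theorem localSubring_exists_root {M : Ideal AlgInt} (hM : M.IsPrime)
    (f : (localSubring M hM)[X]) (hf : f.Monic) (hd : 0 < f.natDegree) :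
    ∃ a : localSubring M hM, f.IsRoot a := by
  classical
  set φ : localSubring M hM →+* ℂ := (localSubring M hM).subtype with hφ
  set g : ℂ[X] := f.map φ with hg
  have hgm : g.Monic := hf.map φ
  have hgd : g.natDegree = f.natDegree := hf.natDegree_map φ
  have hdeg : g.degree ≠ 0 := by
    intro h0
    have h1 : g.natDegree = 0 := natDegree_eq_of_degree_eq_some h0
    omega
  obtain ⟨a, ha⟩ := IsAlgClosed.exists_root g hdeg
  -- common denominator of the coefficients
  obtain ⟨s, hs, hs2⟩ := exists_common_denom hM (g.support.image g.coeff) (by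
    intro z hz
    obtain ⟨i, -, rfl⟩ := Finset.mem_image.mp hz
    rw [hg, coeff_map]
    exact (f.coeff i).2)
  have hs0 : (s : ℂ) ≠ 0 := by
    intro h0
    apply hs
    have : s = 0 := Subtype.ext h0
    rw [this]
    exact M.zero_mem
  have hcoef : ∀ i, ∃ c : AlgInt, (s : ℂ) * g.coeff i = (c : ℂ) := by
    intro i
    by_cases hi : i ∈ g.support
    · exact hs2 _ (Finset.mem_image_of_mem _ hi)
    · rw [notMem_support_iff.mp hi]
      exact ⟨0, by simp⟩
  -- the scaled polynomial has algebraic integer coefficients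
  set h : ℂ[X] := scaleRoots g (s : ℂ) with hh
  have hhm : h.Monic := (monic_scaleRoots_iff (s : ℂ)).mpr hgm
  have hlift : h ∈ lifts (algebraMap AlgInt ℂ) := by
    rw [lifts_iff_coeff_lifts]
    intro i
    rw [hh, coeff_scaleRoots]
    by_cases hi : i < g.natDegree
    · obtain ⟨c, hc⟩ := hcoef i
      refine ⟨c * s ^ (g.natDegree - i - 1), ?_⟩
      have e : g.natDegree - i = (g.natDegree - i - 1) + 1 := by omega
      rw [e, pow_succ]
      show ((c * s ^ (g.natDegree - i - 1) : AlgInt) : ℂ) = _
      push_cast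
      rw [← hc]
      ring
    · have e : g.natDegree - i = 0 := by omega
      rw [e, pow_zero, mul_one]
      rcases Nat.lt_or_ge g.natDegree i with h1 | h1
      · rw [coeff_eq_zero_of_natDegree_lt h1]
        exact ⟨0, by simp⟩
      · have : i = g.natDegree := by omega
        rw [this, hgm.coeff_natDegree]
        exact ⟨1, by simp⟩
  obtain ⟨q, hq, -, hqm⟩ := lifts_and_natDegree_eq_and_monic hlift hhm
  have hroot : eval ((s : ℂ) * a) h = 0 := by
    have := scaleRoots_eval₂_eq_zero (p := g) (RingHom.id ℂ) (r := a) (s := (s : ℂ))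
      (by simpa [eval₂_id] using ha)
    simpa [eval₂_id] using this
  have hint : IsIntegral AlgInt ((s : ℂ) * a) := by
    refine ⟨q, hqm, ?_⟩
    rw [← eval_map, hq]
    exact hroot
  have hint2 : IsIntegral ℤ ((s : ℂ) * a) := isIntegral_trans _ hint
  have hloc : MemLocalRing M a := by
    refine ⟨⟨(s : ℂ) * a, hint2⟩, s, hs, ?_⟩
    show (s : ℂ) * a / (s : ℂ) = a
    field_simp
  refine ⟨⟨a, hloc⟩, ?_⟩
  have h1 : φ (eval (⟨a, hloc⟩ : localSubring M hM) f) = eval a g := by
    rw [hg]
    exact (eval_map_apply φ (⟨a, hloc⟩ : localSubring M hM)).symm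
  have h2 : φ (eval (⟨a, hloc⟩ : localSubring M hM) f) = 0 := by
    rw [h1]; exact ha
  show eval _ f = 0
  exact Subtype.ext h2

end Cfsg.Agent.Lib.helper2
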