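import Mathlib

/-!
# Traces of two-sided multiplications on a complex group algebra (helper2)

`trLR a b` is the trace of `x ↦ a * x * b` on `MonoidAlgebra ℂ G`.  For idempotents it is the
dimension of `a (ℂG) b`, i.e. the inner product of the characters of the left ideals `ℂG a`,
`ℂG b`.  Used for S4427.
-/

set_option autoImplicit false

namespace Cfsg.Agent.Lib.helper2

open scoped ComplexConjugate

variable {G : Type*} [Group G] [Fintype G]

/-- Convolution formula for coefficients of a product in a finite group algebra. -/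
theorem coeff_mul_eq_sum (a b : MonoidAlgebra ℂ G) (g : G) :
    (a * b).coeff g = ∑ h : G, a.coeff h * b.coeff (h⁻¹ * g) := by
  classical
  rw [MonoidAlgebra.coeff_mul_apply_left, Finsupp.sum_fintype]
  intro i
  simp

/-- The trace of `x ↦ a * x * b`. -/
noncomputable def trLR (a b : MonoidAlgebra ℂ G) : ℂ :=
  LinearMap.trace ℂ (MonoidAlgebra ℂ G) (LinearMap.mulLeft ℂ a ∘ₗ LinearMap.mulRight ℂ b)

theorem trLR_eq_sum (a b : MonoidAlgebra ℂ G) :
    trLR a b = ∑ h : G, (a * (MonoidAlgebra.single h 1 * b)).coeff h := by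
  classical
  rw [trLR, LinearMap.trace_eq_matrix_trace ℂ (MonoidAlgebra.basis G ℂ), Matrix.trace]
  apply Finset.sum_congr rfl
  intro h _
  rw [Matrix.diag_apply, LinearMap.toMatrix_apply, MonoidAlgebra.basis_apply,
    LinearMap.comp_apply, LinearMap.mulLeft_apply, LinearMap.mulRight_apply]
  rfl

theorem trLR_mul_comm_left (x y b : MonoidAlgebra ℂ G) : trLR (x * y) b = trLR (y * x) b := by
  unfold trLR
  have hc : ∀ u v : MonoidAlgebra ℂ G,
      LinearMap.mulLeft ℂ u ∘ₗ LinearMap.mulRight ℂ v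
        = LinearMap.mulRight ℂ v ∘ₗ LinearMap.mulLeft ℂ u := by
    intro u v
    ext w
    simp [mul_assoc]
  rw [LinearMap.mulLeft_mul, LinearMap.mulLeft_mul, LinearMap.comp_assoc, LinearMap.comp_assoc]
  have h1 := LinearMap.trace_mul_comm ℂ (LinearMap.mulLeft ℂ x)
    (LinearMap.mulLeft ℂ y ∘ₗ LinearMap.mulRight ℂ b)
  rw [Module.End.mul_eq_comp, Module.End.mul_eq_comp] at h1
  rw [h1, LinearMap.comp_assoc, hc x b]

theorem trLR_mul_comm_right (a x y : MonoidAlgebra ℂ G) : trLR a (x * y) = trLR a (y * x) := by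
  unfold trLR
  have hc : ∀ u v : MonoidAlgebra ℂ G,
      LinearMap.mulLeft ℂ u ∘ₗ LinearMap.mulRight ℂ v
        = LinearMap.mulRight ℂ v ∘ₗ LinearMap.mulLeft ℂ u := by
    intro u v
    ext w
    simp [mul_assoc]
  rw [LinearMap.mulRight_mul, LinearMap.mulRight_mul, ← LinearMap.comp_assoc,
    ← LinearMap.comp_assoc]
  have h1 := LinearMap.trace_mul_comm ℂ (LinearMap.mulLeft ℂ a ∘ₗ LinearMap.mulRight ℂ y)
    (LinearMap.mulRight ℂ x)
  rw [Module.End.mul_eq_comp, Module.End.mul_eq_comp] at h1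
  rw [h1, ← LinearMap.comp_assoc, ← hc a x, LinearMap.comp_assoc]

/-- If `a' ≤ a` and `b' ≤ b` are idempotents then `trLR a b - trLR a' b'` is a natural number. -/
theorem trLR_mono (a a' b b' : MonoidAlgebra ℂ G) (ha : a * a = a) (hb : b * b = b)
    (ha' : a' * a' = a') (hb' : b' * b' = b') (h1 : a * a' = a') (h2 : a' * a = a')
    (h3 : b' * b = b') (h4 : b * b' = b') :
    ∃ d : ℕ, trLR a b = trLR a' b' + d := by
  classical
  have : Module.Finite ℂ (MonoidAlgebra ℂ G) := Module.Finite.of_basis (MonoidAlgebra.basis G ℂ)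
  set P₂ : MonoidAlgebra ℂ G →ₗ[ℂ] MonoidAlgebra ℂ G :=
    LinearMap.mulLeft ℂ a ∘ₗ LinearMap.mulRight ℂ b with hP₂
  set P₁ : MonoidAlgebra ℂ G →ₗ[ℂ] MonoidAlgebra ℂ G :=
    LinearMap.mulLeft ℂ a' ∘ₗ LinearMap.mulRight ℂ b' with hP₁
  have hP₂a : ∀ w, P₂ w = a * (w * b) := fun w => rfl
  have hP₁a : ∀ w, P₁ w = a' * (w * b') := fun w => rfl
  have e22 : P₂ * P₂ = P₂ := by
    apply LinearMap.ext
    intro w
    rw [Module.End.mul_apply, hP₂a, hP₂a]
    calc a * (a * (w * b) * b) = (a * a) * w * (b * b) := by simp only [mul_assoc]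
      _ = a * (w * b) := by rw [ha, hb, mul_assoc]
  have e11 : P₁ * P₁ = P₁ := by
    apply LinearMap.ext
    intro w
    rw [Module.End.mul_apply, hP₁a, hP₁a]
    calc a' * (a' * (w * b') * b') = (a' * a') * w * (b' * b') := by simp only [mul_assoc]
      _ = a' * (w * b') := by rw [ha', hb', mul_assoc]
  have e21 : P₂ * P₁ = P₁ := by
    apply LinearMap.ext
    intro w
    rw [Module.End.mul_apply, hP₂a, hP₁a]
    calc a * (a' * (w * b') * b) = (a * a') * w * (b' * b) := by simp only [mul_assoc]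
      _ = a' * (w * b') := by rw [h1, h3, mul_assoc]
  have e12 : P₁ * P₂ = P₁ := by
    apply LinearMap.ext
    intro w
    rw [Module.End.mul_apply, hP₂a, hP₁a]
    calc a' * (a * (w * b) * b') = (a' * a) * w * (b * b') := by simp only [mul_assoc]
      _ = a' * (w * b') := by rw [h2, h4, mul_assoc]
  have hD : IsIdempotentElem (P₂ - P₁) := by
    show (P₂ - P₁) * (P₂ - P₁) = P₂ - P₁
    rw [mul_sub, sub_mul, sub_mul, e22, e11, e21, e12]
    abel
  have hproj := LinearMap.IsIdempotentElem.isProj_range (P₂ - P₁) hD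
  have htr := LinearMap.IsProj.trace hproj
  refine ⟨Module.finrank ℂ (LinearMap.range (P₂ - P₁)), ?_⟩
  rw [← htr, map_sub]
  show LinearMap.trace ℂ _ P₂ = LinearMap.trace ℂ _ P₁ + (LinearMap.trace ℂ _ P₂ - LinearMap.trace ℂ _ P₁)
  ring

/-! ### The averaging idempotent of a subgroup -/

/-- The averaging idempotent `|X|⁻¹ ∑_{x ∈ X} x`. -/
noncomputable def eA (X : Subgroup G) : MonoidAlgebra ℂ G := by
  classical
  exact ∑ g : G, MonoidAlgebra.single g (if g ∈ X then (Nat.card X : ℂ)⁻¹ else 0)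

open Classical in
theorem coeff_eA (X : Subgroup G) (g : G) :
    (eA X).coeff g = if g ∈ X then (Nat.card X : ℂ)⁻¹ else 0 := by
  classical
  rw [eA, MonoidAlgebra.coeff_sum, Finsupp.finsetSum_apply]
  simp_rw [MonoidAlgebra.coeff_single, Finsupp.single_apply]
  rw [Finset.sum_ite_eq']
  simp

open Classical in
theorem sum_ite_mem (X : Subgroup G) (c : ℂ) :
    (∑ h : G, if h ∈ X then c else 0) = (Nat.card X : ℂ) * c := by
  classical
  rw [← Finset.sum_filter, Finset.sum_const, nsmul_eq_mul]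
  congr 2
  rw [Nat.card_eq_fintype_card, Fintype.card_subtype]

theorem eA_mul_self (X : Subgroup G) : eA X * eA X = eA X := by
  classical
  apply MonoidAlgebra.coeff_injective
  ext g
  rw [coeff_mul_eq_sum]
  simp_rw [coeff_eA]
  have hX : (Nat.card X : ℂ) ≠ 0 := by
    have : 0 < Nat.card X := Nat.card_pos
    exact_mod_cast this.ne'
  by_cases hg : g ∈ X
  · have h1 : ∀ h : G, (if h ∈ X then (Nat.card X : ℂ)⁻¹ else 0) *
        (if h⁻¹ * g ∈ X then (Nat.card X : ℂ)⁻¹ else 0)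
        = if h ∈ X then (Nat.card X : ℂ)⁻¹ * (Nat.card X : ℂ)⁻¹ else 0 := by
      intro h
      by_cases hh : h ∈ X
      · have : h⁻¹ * g ∈ X := X.mul_mem (X.inv_mem hh) hg
        simp [hh, this]
      · simp [hh]
    simp_rw [h1]
    rw [sum_ite_mem, if_pos hg]
    field_simp
  · have h1 : ∀ h : G, (if h ∈ X then (Nat.card X : ℂ)⁻¹ else 0) *
        (if h⁻¹ * g ∈ X then (Nat.card X : ℂ)⁻¹ else 0) = 0 := by
      intro h
      by_cases hh : h ∈ X
      · have : h⁻¹ * g ∉ X := by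
          intro h2
          apply hg
          have := X.mul_mem hh h2
          simpa using this
        simp [this]
      · simp [hh]
    simp_rw [h1]
    simp [hg]

/-- `tr(x ↦ e_Q x e_T) = |G| / (|Q| |T|)` when no nontrivial element of `Q` is conjugate into `T`. -/
theorem trLR_eA (Q T : Subgroup G)
    (hQT : ∀ x ∈ Q, ∀ h : G, h⁻¹ * (x⁻¹ * h) ∈ T → x = 1) :
    trLR (eA Q) (eA T) = (Nat.card G : ℂ) * ((Nat.card Q : ℂ)⁻¹ * (Nat.card T : ℂ)⁻¹) := by
  classical
  rw [trLR_eq_sum]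
  have h1 : ∀ h : G, (eA Q * (MonoidAlgebra.single h 1 * eA T)).coeff h
      = (Nat.card Q : ℂ)⁻¹ * (Nat.card T : ℂ)⁻¹ := by
    intro h
    rw [coeff_mul_eq_sum]
    simp_rw [MonoidAlgebra.coeff_single_mul_apply, one_mul, coeff_eA]
    rw [Finset.sum_eq_single (1 : G)]
    · simp
    · intro x _ hx
      by_cases hxQ : x ∈ Q
      · have : h⁻¹ * (x⁻¹ * h) ∉ T := fun hT => hx (hQT x hxQ h hT)
        simp [this]
      · simp [hxQ]
    · intro h'
      exact absurd (Finset.mem_univ _) h'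
  simp_rw [h1]
  rw [Finset.sum_const, Finset.card_univ, nsmul_eq_mul, Nat.card_eq_fintype_card (α := G)]

/-! ### The class function `g ↦ ∑ h, ι (h⁻¹ g h)` -/

/-- The class function attached to an element of the group algebra (for an idempotent `ι` this is
the character of the left ideal `ℂG ι` at `g⁻¹`). -/
noncomputable def cfs (ι : MonoidAlgebra ℂ G) (g : G) : ℂ := ∑ h : G, ι.coeff (h⁻¹ * g * h)

theorem cfs_conj (ι : MonoidAlgebra ℂ G) (k u : G) : cfs ι (k * u * k⁻¹) = cfs ι u := by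
  unfold cfs
  rw [← Equiv.sum_comp (Equiv.mulLeft k)]
  apply Finset.sum_congr rfl
  intro h _
  congr 1
  simp only [Equiv.coe_mulLeft]
  group

theorem sum_cfs (ι : MonoidAlgebra ℂ G) :
    ∑ g : G, cfs ι g = (Nat.card G : ℂ) * ∑ y : G, ι.coeff y := by
  unfold cfs
  rw [Finset.sum_comm]
  have h1 : ∀ h : G, ∑ g : G, ι.coeff (h⁻¹ * g * h) = ∑ y : G, ι.coeff y := by
    intro h
    rw [← Equiv.sum_comp (MulAut.conj h⁻¹).toEquiv (fun y => ι.coeff y)]
    apply Finset.sum_congr rfl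
    intro g _
    congr 1
    show h⁻¹ * g * h = h⁻¹ * g * h⁻¹⁻¹
    group
  simp_rw [h1]
  rw [Finset.sum_const, Finset.card_univ, nsmul_eq_mul, Nat.card_eq_fintype_card]

theorem trLR_self_eq (ι : MonoidAlgebra ℂ G) :
    trLR ι ι = ∑ y : G, ι.coeff y * cfs ι y⁻¹ := by
  rw [trLR_eq_sum]
  have h0 : ∀ h : G, (ι * (MonoidAlgebra.single h 1 * ι)).coeff h
      = ∑ y : G, ι.coeff y * ι.coeff (h⁻¹ * (y⁻¹ * h)) := by
    intro h
    rw [coeff_mul_eq_sum]
    simp_rw [MonoidAlgebra.coeff_single_mul_apply, one_mul]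
  simp_rw [h0]
  rw [Finset.sum_comm]
  apply Finset.sum_congr rfl
  intro y _
  unfold cfs
  rw [Finset.mul_sum]
  apply Finset.sum_congr rfl
  intro h _
  congr 2
  group

theorem sum_cfs_mul_inv (ι : MonoidAlgebra ℂ G) :
    ∑ g : G, cfs ι g * cfs ι g⁻¹ = (Nat.card G : ℂ) * trLR ι ι := by
  rw [trLR_self_eq]
  have h1 : ∀ g : G, cfs ι g * cfs ι g⁻¹ = ∑ k : G, ι.coeff (k⁻¹ * g * k) * cfs ι g⁻¹ := by
    intro g
    rw [← Finset.sum_mul]
    rfl
  simp_rw [h1]
  rw [Finset.sum_comm]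
  have h2 : ∀ k : G, ∑ g : G, ι.coeff (k⁻¹ * g * k) * cfs ι g⁻¹
      = ∑ y : G, ι.coeff y * cfs ι y⁻¹ := by
    intro k
    rw [← Equiv.sum_comp (MulAut.conj k).toEquiv]
    apply Finset.sum_congr rfl
    intro y _
    have e1 : k⁻¹ * ((MulAut.conj k).toEquiv y) * k = y := by
      show k⁻¹ * (k * y * k⁻¹) * k = y
      group
    have e2 : ((MulAut.conj k).toEquiv y)⁻¹ = k * y⁻¹ * k⁻¹ := by
      show (k * y * k⁻¹)⁻¹ = k * y⁻¹ * k⁻¹
      group
    rw [e1, e2, cfs_conj]
  simp_rw [h2]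
  rw [Finset.sum_const, Finset.card_univ, nsmul_eq_mul, Nat.card_eq_fintype_card]

end Cfsg.Agent.Lib.helper2
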