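import Mathlib
import Cfsg.Agent.Lib.helper20.LocalSubring
import Cfsg.Agent.Lib.helper20.NormalIdem
import Cfsg.Agent.Lib.helper2.LocalRoot
import Cfsg.Agent.Lib.helper70.UnitSplit
import Cfsg.Agent.Lib.helper25.MinIdem
import Cfsg.Agent.Lib.helper2.PimTrace

/-!
# The projective cover of the trivial module, as an idempotent of the local group ring (helper2)
-/

set_option autoImplicit false

namespace Cfsg.Agent.Lib.helper2

open Cfsg Polynomial

variable {G : Type*} [Group G] [Fintype G]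

/-- There is an idempotent `ι` of `ℂG` with local coefficients and augmentation `1` such that for
every `p'`-subgroup `X` the element `ι e_X ι` is invertible in the corner ring `ι ℂG ι`. -/
theorem exists_pim {p : ℕ} {M : Ideal AlgInt} (hM : IsPModular p M) :
    ∃ ι : MonoidAlgebra ℂ G, ι * ι = ι ∧ Cfsg.Agent.Lib.helper20.LocalCoeff M ι ∧
      (∑ g : G, ι.coeff g = 1) ∧
      ∀ X : Subgroup G, (Nat.card X).Coprime p →
        ∃ w : MonoidAlgebra ℂ G, ι * w = w ∧ w * ι = w ∧ (ι * eA X * ι) * w = ι := by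
  classical
  have hMp : M.IsPrime := Cfsg.Agent.Lib.helper20.isPrime_of_isPModular hM
  set R := Cfsg.Agent.Lib.helper20.localSubring M hMp with hR
  have hroot : ∀ f : R[X], f.Monic → 0 < f.natDegree → ∃ a : R, f.IsRoot a :=
    fun f hf hd => localSubring_exists_root hMp f hf hd
  have hsplit := fun (f : R[X]) (hf : f.Monic) => Cfsg.Agent.Lib.helper70.exists_unit_split hroot f hf
  haveI : Module.Free R (MonoidAlgebra R G) := Module.Free.of_basis (MonoidAlgebra.basis G R)
  haveI : Module.Finite R (MonoidAlgebra R G) := Module.Finite.of_basis (MonoidAlgebra.basis G R)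
  haveI : Module.Finite ℂ (MonoidAlgebra ℂ G) := Module.Finite.of_basis (MonoidAlgebra.basis G ℂ)
  let ε : MonoidAlgebra R G →ₐ[R] R := MonoidAlgebra.lift R R G 1
  let Ψ : MonoidAlgebra R G →+* MonoidAlgebra ℂ G := MonoidAlgebra.mapRingHom G R.subtype
  have hΨcoeff : ∀ (x : MonoidAlgebra R G) (g : G), (Ψ x).coeff g = ((x.coeff g : R) : ℂ) := by
    intro x g
    exact MonoidAlgebra.coeff_mapRingHom _ _ _
  have hΨinj : Function.Injective Ψ := by
    intro x y hxy
    apply MonoidAlgebra.coeff_injective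
    ext g
    have := congrArg (fun t : MonoidAlgebra ℂ G => t.coeff g) hxy
    simp only [hΨcoeff] at this
    exact this
  have hε : ∀ x : MonoidAlgebra R G, ((ε x : R) : ℂ) = ∑ g : G, (Ψ x).coeff g := by
    intro x
    simp_rw [hΨcoeff]
    show ((MonoidAlgebra.lift R R G 1 x : R) : ℂ) = _
    rw [MonoidAlgebra.lift_apply, Finsupp.sum_fintype]
    · simp
    · intro i; simp
  let μ : MonoidAlgebra R G → ℕ := fun x =>
    Module.finrank ℂ (LinearMap.range (LinearMap.mulRight ℂ (Ψ x)))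
  have hμ : ∀ ι κ : MonoidAlgebra R G, ι * ι = ι → κ * κ = κ → ι * κ = κ → κ * ι = κ →
      μ κ ≤ μ ι ∧ (μ κ = μ ι → κ = ι) := by
    intro ι κ hι hκ h1 h2
    have hle : LinearMap.range (LinearMap.mulRight ℂ (Ψ κ))
        ≤ LinearMap.range (LinearMap.mulRight ℂ (Ψ ι)) := by
      rintro y ⟨x, rfl⟩
      refine ⟨x * Ψ κ, ?_⟩
      simp only [LinearMap.mulRight_apply]
      rw [mul_assoc, ← map_mul, h2]
    refine ⟨Submodule.finrank_mono hle, fun heq => ?_⟩
    have hEq := Submodule.eq_of_le_of_finrank_eq hle heq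
    have hmem : Ψ ι ∈ LinearMap.range (LinearMap.mulRight ℂ (Ψ ι)) :=
      ⟨Ψ ι, by simp only [LinearMap.mulRight_apply]; rw [← map_mul, hι]⟩
    rw [← hEq] at hmem
    obtain ⟨x, hx⟩ := hmem
    simp only [LinearMap.mulRight_apply] at hx
    apply hΨinj
    calc Ψ κ = Ψ ι * Ψ κ := by rw [← map_mul, h1]
      _ = x * Ψ κ * Ψ κ := by rw [hx]
      _ = x * Ψ κ := by rw [mul_assoc, ← map_mul, hκ]
      _ = Ψ ι := hx
  obtain ⟨ι, hι, hει, hz⟩ := Cfsg.Agent.Lib.helper25.exists_min_idem hsplit ε μ hμ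
  refine ⟨Ψ ι, by rw [← map_mul, hι], ?_, ?_, ?_⟩
  · intro g
    rw [hΨcoeff]
    exact (ι.coeff g).2
  · rw [← hε, hει]
    rfl
  · intro X hX
    let c : R := ⟨(Nat.card X : ℂ)⁻¹, Cfsg.Agent.Lib.helper20.memLocalRing_inv_natCast hM hX⟩
    let eB : MonoidAlgebra R G := ∑ g : G, MonoidAlgebra.single g (if g ∈ X then c else 0)
    have hΨe : Ψ eB = eA X := by
      show Ψ (∑ g : G, MonoidAlgebra.single g (if g ∈ X then c else 0)) = eA X
      rw [map_sum, eA]
      apply Finset.sum_congr rfl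
      intro g _
      show MonoidAlgebra.mapRingHom G R.subtype (MonoidAlgebra.single g (if g ∈ X then c else 0)) = _
      rw [MonoidAlgebra.mapRingHom_single]
      congr 1
      split_ifs <;> rfl
    have hεe : ε eB = 1 := by
      apply Subtype.ext
      rw [hε, hΨe]
      simp_rw [coeff_eA]
      rw [sum_ite_mem]
      have hX0 : (Nat.card X : ℂ) ≠ 0 := by
        have : 0 < Nat.card X := Nat.card_pos
        exact_mod_cast this.ne'
      show _ = (1 : ℂ)
      field_simp
    obtain ⟨w, hw1, hw2, hw3⟩ := hz (ι * eB * ι)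
      (by rw [← mul_assoc, ← mul_assoc, hι])
      (by rw [mul_assoc, hι])
      (by rw [map_mul, map_mul, hει, hεe]; simp)
    refine ⟨Ψ w, by rw [← map_mul, hw1], by rw [← map_mul, hw2], ?_⟩
    rw [← hΨe, ← map_mul, ← map_mul, ← map_mul, hw3]

end Cfsg.Agent.Lib.helper2
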