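import Mathlib
import Cfsg.Prelude.Def_GeometricClasses

set_option autoImplicit false

namespace Cfsg.Agent.Lib.helper2

open Cfsg.Geo Matrix

/-- KAPPA (racing copy) -/
theorem helper2_qfc_kappa {F : Type*} [Field F] {ι : Type} [Fintype ι] [DecidableEq ι]
    (h2 : (2 : F) ≠ 0) (K : Subalgebra F (Matrix ι ι F)) (hK : IsFieldSubalgebra 2 K) :
    ∃ κ ∈ K, ∃ δ : F, (∀ r : F, r ^ 2 ≠ δ + 0 * r) ∧ κ * κ = δ • (1 : Matrix ι ι F) ∧
      ∀ k ∈ K, ∃ a b : F, k = a • (1 : Matrix ι ι F) + b • κ := by
  classical
  have hfr : Module.finrank F K = 2 := hK.finrank_eq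
  haveI : Module.Finite F K := Module.finite_of_finrank_pos (by omega)
  haveI : Nontrivial K := Module.nontrivial_of_finrank_pos (R := F) (by omega)
  have hex : ∃ k : K, k ∉ Submodule.span F {(1 : K)} := by
    by_contra hcon
    push_neg at hcon
    have htop : Submodule.span F {(1 : K)} = ⊤ := by
      rw [eq_top_iff]; intro x _; exact hcon x
    have h1 : Module.finrank F (Submodule.span F {(1 : K)}) ≤ 1 := by
      rw [finrank_span_singleton (one_ne_zero)]
    rw [htop, finrank_top, hfr] at h1
    omega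
  obtain ⟨k, hk⟩ := hex
  have hli : LinearIndependent F ![(1 : K), k] := by
    rw [LinearIndependent.pair_iff]
    intro s t hst
    have ht : t = 0 := by
      by_contra ht
      apply hk
      have h3 : t • k = (-s) • (1 : K) := by
        rw [neg_smul, eq_neg_iff_add_eq_zero, add_comm]; exact hst
      have h4 : k = (t⁻¹ * -s) • (1 : K) := by
        rw [mul_smul, ← h3, smul_smul, inv_mul_cancel₀ ht, one_smul]
      rw [h4]
      exact Submodule.smul_mem _ _ (Submodule.subset_span rfl)
    rw [ht, zero_smul, add_zero] at hst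
    have hs : s = 0 := by
      rcases smul_eq_zero.1 hst with h | h
      · exact h
      · exact absurd h one_ne_zero
    exact ⟨hs, ht⟩
  let b := basisOfLinearIndependentOfCardEqFinrank hli (by simp [hfr])
  have hb : ∀ x : K, x = (b.repr x 0) • (1 : K) + (b.repr x 1) • k := by
    intro x
    have hbf : (b : Fin 2 → K) = ![(1 : K), k] :=
      coe_basisOfLinearIndependentOfCardEqFinrank hli _
    have := b.sum_repr x
    rw [Fin.sum_univ_two, hbf] at this
    simpa using this.symm
  obtain ⟨t, s, hts⟩ : ∃ t s : F, k * k = t • (1 : K) + s • k := ⟨_, _, hb (k * k)⟩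
  obtain ⟨c, hc⟩ : ∃ c : F, s = 2 * c := ⟨s / 2, by field_simp⟩
  subst hc
  have hκ2 : (k - c • (1 : K)) * (k - c • (1 : K)) = (t + c ^ 2) • (1 : K) := by
    rw [sub_mul, mul_sub, mul_sub, hts]
    simp only [smul_mul_assoc, mul_smul_comm, one_mul, mul_one]
    module
  -- no zero divisors in K
  have hnz : ∀ u v : Matrix ι ι F, u ∈ K → v ∈ K → u * v = 0 → u = 0 ∨ v = 0 := by
    intro u v hu hv huv
    by_cases hu0 : u = 0
    · exact Or.inl hu0
    · right
      obtain ⟨y, hy, huy⟩ := hK.inv u hu hu0
      have hyu : y * u = 1 := by rw [← hK.comm u hu y hy]; exact huy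
      calc v = (y * u) * v := by rw [hyu, one_mul]
        _ = y * (u * v) := by rw [mul_assoc]
        _ = 0 := by rw [huv, mul_zero]
  have hκ2' : ((k - c • (1 : K) : K) : Matrix ι ι F) * ((k - c • (1 : K) : K) : Matrix ι ι F) =
      (t + c ^ 2) • (1 : Matrix ι ι F) := by
    have := congrArg (Subtype.val) hκ2
    simpa using this
  refine ⟨((k - c • (1 : K) : K) : Matrix ι ι F), (k - c • (1 : K)).2, t + c ^ 2, ?_, hκ2', ?_⟩
  · intro r hr
    have hr' : r ^ 2 = t + c ^ 2 := by simpa using hr
    have hprod : (((k - c • (1 : K) : K) : Matrix ι ι F) - r • 1) *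
        (((k - c • (1 : K) : K) : Matrix ι ι F) + r • 1) = 0 := by
      rw [sub_mul, mul_add, mul_add, hκ2']
      simp only [smul_mul_assoc, mul_smul_comm, one_mul, mul_one]
      rw [← hr']
      module
    have hm1 : (((k - c • (1 : K) : K) : Matrix ι ι F) - r • 1) ∈ K :=
      K.sub_mem (k - c • (1 : K)).2 (K.smul_mem K.one_mem r)
    have hm2 : (((k - c • (1 : K) : K) : Matrix ι ι F) + r • 1) ∈ K :=
      K.add_mem (k - c • (1 : K)).2 (K.smul_mem K.one_mem r)
    apply hk
    rcases hnz _ _ hm1 hm2 hprod with h | h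
    · have hk' : k = (r + c) • (1 : K) := by
        apply Subtype.ext
        have h' : ((k : Matrix ι ι F) - c • 1) - r • 1 = 0 := by simpa using h
        have : (k : Matrix ι ι F) = (r + c) • 1 := by
          rw [sub_sub, sub_eq_zero] at h'
          rw [h', add_smul, add_comm]
        simpa using this
      rw [hk']
      exact Submodule.smul_mem _ _ (Submodule.subset_span rfl)
    · have hk' : k = (c - r) • (1 : K) := by
        apply Subtype.ext
        have h' : ((k : Matrix ι ι F) - c • 1) + r • 1 = 0 := by simpa using h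
        have : (k : Matrix ι ι F) = (c - r) • 1 := by
          have h6 := eq_neg_of_add_eq_zero_left h'
          rw [sub_eq_iff_eq_add] at h6
          rw [h6, sub_smul]
          abel
        simpa using this
      rw [hk']
      exact Submodule.smul_mem _ _ (Submodule.subset_span rfl)
  · intro x hx
    have hx' := hb ⟨x, hx⟩
    refine ⟨b.repr ⟨x, hx⟩ 0 + b.repr ⟨x, hx⟩ 1 * c, b.repr ⟨x, hx⟩ 1, ?_⟩
    have h5 := congrArg (Subtype.val) hx'
    simp only [Subalgebra.coe_add, Subalgebra.coe_smul, Subalgebra.coe_one] at h5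
    refine h5.trans ?_
    simp only [Subalgebra.coe_sub, Subalgebra.coe_smul, Subalgebra.coe_one]
    module

end Cfsg.Agent.Lib.helper2
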