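import Mathlib
import Cfsg.Prelude.Def_GeometricClasses
import Cfsg.Agent.Lib.helper24.SfoDefs
import Cfsg.Agent.Lib.helper30.SfoOLB
import Cfsg.Agent.Lib.helper27.SfoCNTE
import Cfsg.Agent.Lib.helper24.QuadExt2
import Cfsg.Agent.S0287
import Cfsg.Agent.S0288
import Cfsg.Agent.Lib.helper85.QfcARITH1
import Cfsg.Agent.Lib.helper3.QfcARITH2
import Cfsg.Agent.Lib.helper53.QfcCENT
import Cfsg.Agent.Lib.helper34.QfcCNT
import Cfsg.Agent.Lib.helper25.QfcEMB1
import Cfsg.Agent.Lib.helper72.QfcEMB2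
import Cfsg.Agent.Lib.helper29.QfcIDX
import Cfsg.Agent.Lib.helper28.QfcN1M
import Cfsg.Agent.Lib.helper40.QfcN1P
import Cfsg.Agent.Lib.helper69.QfcNDM
import Cfsg.Agent.Lib.helper69.QfcNDP
import Cfsg.Agent.Lib.helper71.QfcPHI
import Cfsg.Agent.Lib.helper27.QfcKAPPA
import Cfsg.Agent.Lib.helper53.QfcQK
import Cfsg.Agent.Lib.helper29.QfcBINM

set_option autoImplicit false

namespace Cfsg.Agent.Lib.helper2

open Cfsg.Geo Matrix

/-- the order of `q²` is even when `4 ∣ ord q` -/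
theorem h2_qfc_ord_sq (q r : ℕ) (h4 : 4 ∣ orderOf ((q : ℕ) : ZMod r)) :
    Even (orderOf ((q ^ 2 : ℕ) : ZMod r)) ∧ ¬ (((q ^ 2 : ℕ) : ZMod r) = 1) := by
  obtain ⟨m, hm⟩ := h4
  have hcast : ((q ^ 2 : ℕ) : ZMod r) = ((q : ℕ) : ZMod r) ^ 2 := by push_cast; ring
  rw [hcast]
  constructor
  · rw [orderOf_pow' _ (by norm_num : (2 : ℕ) ≠ 0), hm]
    have hg : Nat.gcd (4 * m) 2 = 2 := by
      have : (2 : ℕ) ∣ 4 * m := ⟨2 * m, by ring⟩
      exact Nat.gcd_eq_right this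
    rw [hg]
    exact ⟨m, by omega⟩
  · intro h
    have hd := orderOf_dvd_of_pow_eq_one h
    rw [hm] at hd
    by_cases hm0 : m = 0
    · subst hm0
      have h0 : orderOf ((q : ℕ) : ZMod r) = 0 := by simpa using hm
      have hfin : ¬ IsOfFinOrder ((q : ℕ) : ZMod r) := orderOf_eq_zero_iff.1 h0
      exact hfin (isOfFinOrder_iff_pow_eq_one.2 ⟨2, by norm_num, h⟩)
    · have := Nat.le_of_dvd (by norm_num) hd
      omega

/-- CORE (glue, helper2) -/
theorem qfc_core {F : Type*} [Field F] [Fintype F] {p : ℕ} [Fact p.Prime] [CharP F p]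
    {ι : Type} [Fintype ι] [DecidableEq ι] (hodd : Odd (Fintype.card F)) (d : ℕ) (hd : 2 ≤ d)
    (hι : Fintype.card ι = 2 * d) (Q : (ι → F) → F) (hQ : IsNondegenerateQuadraticForm Q)
    (s : Bool)
    (hord : Nat.card (Cfsg.isometryGroup F Q) =
      2 * Fintype.card F ^ (d * (d - 1)) *
          (if s then Fintype.card F ^ d - 1 else Fintype.card F ^ d + 1) *
        ∏ j ∈ Finset.range (d - 1), (Fintype.card F ^ (2 * (j + 1)) - 1))
    (hcnt : Nat.card {v : ι → F // Q v = 1} =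
      Fintype.card F ^ (d - 1) * (if s then Fintype.card F ^ d - 1 else Fintype.card F ^ d + 1))
    (K : Subalgebra F (Matrix ι ι F)) (hK : IsFieldSubalgebra 2 K)
    (hKf : IsSelfAdjointFor (QuadraticMap.polar Q) K) (r : ℕ) [Fact r.Prime] (hr2 : r ≠ 2)
    (hrp : r ≠ p) (hΩ : r ∣ (subalgebraNormalizer K).relIndex (omegaGL Q)) :
    (Odd (orderOf ((Fintype.card F : ℕ) : ZMod r)) ∧
        (orderOf ((Fintype.card F : ℕ) : ZMod r) ≤ d - 1 ∨
          (orderOf ((Fintype.card F : ℕ) : ZMod r) = d ∧ s = true))) ∨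
      (orderOf ((Fintype.card F : ℕ) : ZMod r) % 4 = 2 ∧
        (orderOf ((Fintype.card F : ℕ) : ZMod r) ≤ 2 * d - 2 ∨
          (orderOf ((Fintype.card F : ℕ) : ZMod r) = 2 * d ∧ s = false))) := by
  classical
  have hrP : r.Prime := Fact.out
  have hpP : p.Prime := Fact.out
  have h2 : (2 : F) ≠ 0 := Cfsg.Agent.Lib.helper24.qe_two_ne_zero_iff_odd.2 hodd
  have hq2 : 2 ≤ Fintype.card F := Fintype.one_lt_card
  have hrq : ¬ r ∣ Fintype.card F := by
    intro h
    obtain ⟨n, -, hn⟩ := FiniteField.card F p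
    rw [hn] at h
    have : r ∣ p := hrP.dvd_of_dvd_pow h
    exact hrp ((Nat.prime_dvd_prime_iff_eq hrP hpP).1 this)
  have hO : r ∣ Nat.card (Cfsg.isometryGroup F Q) := by
    have h1 : (subalgebraNormalizer K).relIndex (omegaGL Q) ∣ Nat.card (omegaGL Q) :=
      Subgroup.relIndex_dvd_card _ _
    have h3 : Nat.card (omegaGL Q) ∣ Nat.card (Cfsg.isometryGroup F Q) :=
      Subgroup.card_dvd_of_le (Subgroup.map_subtype_le _)
    exact (hΩ.trans h1).trans h3
  rw [hord] at hO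
  rcases qfc_arith_cases (Fintype.card F) d r hq2 hd hr2 hrq s hO with h | h | h4
  · exact Or.inl h
  · exact Or.inr h
  · exfalso
    obtain ⟨κ, hκK, δ, hδ, hκ2, hspan⟩ := h27_qfc_kappa h2 K hK
    haveI : Fact (∀ r : F, r ^ 2 ≠ δ + 0 * r) := ⟨hδ⟩
    obtain ⟨Φ, hΦ⟩ := qfc_phi δ κ hκ2 d hι
    have hsa : ∀ u v : ι → F, QuadraticMap.polar Q (κ *ᵥ u) v = QuadraticMap.polar Q u (κ *ᵥ v) :=
      fun u v => hKf κ hκK u v
    have hQKnd := h53_qfc_qk_nondeg h2 Q hQ δ κ hκ2 hsa d Φ hΦ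
    obtain ⟨φ, hφi, hφ⟩ := qfc_hom δ κ d Φ hΦ
    obtain ⟨H, hHO, hHκ, hHcard⟩ := qfc_embed Q δ κ d Φ hΦ
      (fun v => (⟨Q v, QuadraticMap.polar Q (κ *ᵥ v) v / (2 * δ)⟩ : QuadraticAlgebra F δ 0))
      (fun v => rfl) φ hφi hφ
    letI : Fintype (QuadraticAlgebra F δ 0) :=
      Fintype.ofEquiv _ (QuadraticAlgebra.equivProd δ 0).symm
    have hcardK : Fintype.card (QuadraticAlgebra F δ 0) = Fintype.card F ^ 2 := by
      rw [Fintype.card_congr (QuadraticAlgebra.equivProd δ 0), Fintype.card_prod, sq]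
    have h2K : (2 : QuadraticAlgebra F δ 0) ≠ 0 := by
      intro h
      apply h2
      have := congrArg QuadraticAlgebra.re h
      rw [QuadraticAlgebra.re_ofNat] at this
      simpa using this
    have hrK : ((r : ℕ) : QuadraticAlgebra F δ 0) ≠ 0 := by
      intro h
      have h' : ((r : ℕ) : F) = 0 := by
        have := congrArg QuadraticAlgebra.re h
        simpa using this
      have := (CharP.cast_eq_zero_iff F p r).1 h'
      exact hrp ((Nat.prime_dvd_prime_iff_eq hpP hrP).1 this).symm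
    obtain ⟨hev, hne1⟩ := h2_qfc_ord_sq (Fintype.card F) r h4
    have hnd : ¬ r ∣ Fintype.card (QuadraticAlgebra F δ 0) - 1 := by
      rw [hcardK]
      intro h
      apply hne1
      have hpos : 1 ≤ Fintype.card F ^ 2 := Nat.one_le_pow _ _ (by omega)
      have hmod : (((Fintype.card F ^ 2 - 1 : ℕ) : ℕ) : ZMod r) = 0 :=
        (ZMod.natCast_eq_zero_iff _ _).2 h
      rw [Nat.cast_sub hpos] at hmod
      have := sub_eq_zero.1 hmod
      simpa using this
    have hiK : Even (orderOf ((Fintype.card (QuadraticAlgebra F δ 0) : ℕ) : ZMod r)) := by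
      rw [hcardK]; exact hev
    have hlb := Cfsg.Agent.Lib.helper24.sfo_card_lb h2K r hr2 hrK hnd hiK d _ hQKnd
    rw [hcardK] at hlb
    have hcntK : Even d →
        Fintype.card F ^ (d - 1) *
            (if s then Fintype.card F ^ d - 1 else Fintype.card F ^ d + 1) =
          Fintype.card F * Cfsg.Agent.Lib.helper24.sfoCount
            (fun k : Fin d → QuadraticAlgebra F δ 0 =>
              (⟨Q (Φ k), QuadraticMap.polar Q (κ *ᵥ Φ k) (Φ k) / (2 * δ)⟩ :
                QuadraticAlgebra F δ 0)) 1 := by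
      rintro ⟨k, hk⟩
      obtain ⟨ε, -, hcount⟩ :=
        Cfsg.Agent.Lib.helper24.h27_sfo_count_even h2K d k (by omega) _ hQKnd
      have hN : ∀ z : QuadraticAlgebra F δ 0, z ≠ 0 →
          Cfsg.Agent.Lib.helper24.sfoCount
            (fun k : Fin d → QuadraticAlgebra F δ 0 =>
              (⟨Q (Φ k), QuadraticMap.polar Q (κ *ᵥ Φ k) (Φ k) / (2 * δ)⟩ :
                QuadraticAlgebra F δ 0)) z =
          Cfsg.Agent.Lib.helper24.sfoCount
            (fun k : Fin d → QuadraticAlgebra F δ 0 =>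
              (⟨Q (Φ k), QuadraticMap.polar Q (κ *ᵥ Φ k) (Φ k) / (2 * δ)⟩ :
                QuadraticAlgebra F δ 0)) 1 := by
        intro z hz
        have h1 := hcount z hz
        have h2' := hcount 1 one_ne_zero
        exact_mod_cast h1.trans h2'.symm
      have := qfc_count Q δ d Φ
        (fun v => (⟨Q v, QuadraticMap.polar Q (κ *ᵥ v) v / (2 * δ)⟩ : QuadraticAlgebra F δ 0))
        (fun v => rfl) _ hN
      rw [← hcnt, this]
    have hval := h3_qfc_arith_val (Fintype.card F) d r hq2 hd hr2 hrq h4 s _ (Nat.card H) hcntK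
      (by rw [hHcard]; exact hlb)
    rw [← hord] at hval
    have hHN : H ≤ subalgebraNormalizer K :=
      fun g hg => qfc_cent_mem K κ hκK hspan g (hHκ g hg)
    exact qfc_index Q (subalgebraNormalizer K) H hHO hHN r hval hΩ

/-- PLUS (export of block C) -/
theorem qfc_plus {F : Type*} [Field F] [Fintype F] {p : ℕ} [Fact p.Prime] [CharP F p]
    (hodd : Odd (Fintype.card F)) (d : ℕ) (hd : 4 ≤ d)
    (K : Subalgebra F (Matrix (Fin d ⊕ Fin d) (Fin d ⊕ Fin d) F)) (hK : IsFieldSubalgebra 2 K)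
    (hKf : IsSelfAdjointFor (QuadraticMap.polar (Cfsg.quadFormPlus d F)) K)
    (r : ℕ) [Fact r.Prime] (hr2 : r ≠ 2) (hrp : r ≠ p)
    (hΩ : r ∣ (subalgebraNormalizer K).relIndex (omegaGL (Cfsg.quadFormPlus d F))) :
    (Odd (orderOf ((Fintype.card F : ℕ) : ZMod r)) ∧
        orderOf ((Fintype.card F : ℕ) : ZMod r) ≤ d) ∨
      (orderOf ((Fintype.card F : ℕ) : ZMod r) % 4 = 2 ∧
        orderOf ((Fintype.card F : ℕ) : ZMod r) ≤ 2 * d - 2) := by
  have hord := Cfsg.Agent.S0287.result (F := F) rfl d (by omega)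
  have hcnt := qfc_count_plus (F := F) d (by omega)
  have h := qfc_core hodd d (by omega) (by simp [Fintype.card_sum]; omega)
    (Cfsg.quadFormPlus d F) (qfc_nondeg_plus d) true (by simpa using hord) (by simpa using hcnt)
    K hK hKf r hr2 hrp hΩ
  rcases h with ⟨ho, h | ⟨h, -⟩⟩ | ⟨h4, h | ⟨-, hs⟩⟩
  · left; exact ⟨ho, by omega⟩
  · left; exact ⟨ho, by omega⟩
  · right; exact ⟨h4, h⟩
  · exact absurd hs (by simp)

/-- MINUS (export of block C) -/
theorem qfc_minus {F : Type*} [Field F] [Fintype F] {p : ℕ} [Fact p.Prime] [CharP F p]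
    (hodd : Odd (Fintype.card F)) (d : ℕ) (hd : 4 ≤ d) (a b : F)
    (hab : ∀ x y : F, x ^ 2 + a * x * y + b * y ^ 2 = 0 → x = 0 ∧ y = 0)
    (K : Subalgebra F (Matrix ((Fin (d - 1) ⊕ Fin (d - 1)) ⊕ Fin 2)
      ((Fin (d - 1) ⊕ Fin (d - 1)) ⊕ Fin 2) F)) (hK : IsFieldSubalgebra 2 K)
    (hKf : IsSelfAdjointFor (QuadraticMap.polar (Cfsg.quadFormMinus (d - 1) F a b)) K)
    (r : ℕ) [Fact r.Prime] (hr2 : r ≠ 2) (hrp : r ≠ p)
    (hΩ : r ∣ (subalgebraNormalizer K).relIndex (omegaGL (Cfsg.quadFormMinus (d - 1) F a b))) :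
    (Odd (orderOf ((Fintype.card F : ℕ) : ZMod r)) ∧
        orderOf ((Fintype.card F : ℕ) : ZMod r) ≤ d - 1) ∨
      (orderOf ((Fintype.card F : ℕ) : ZMod r) % 4 = 2 ∧
        orderOf ((Fintype.card F : ℕ) : ZMod r) ≤ 2 * d) := by
  have h2 : (2 : F) ≠ 0 := Cfsg.Agent.Lib.helper24.qe_two_ne_zero_iff_odd.2 hodd
  have hord := Cfsg.Agent.S0288.result (F := F) rfl d (by omega) a b hab
  have hcnt := qfc_count_minus (F := F) d (by omega) a b (qfc_bin_minus_count h2 a b hab)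
  have h := qfc_core hodd d (by omega) (by simp [Fintype.card_sum]; omega)
    (Cfsg.quadFormMinus (d - 1) F a b) (qfc_nondeg_minus h2 (d - 1) a b hab) false
    (by simpa using hord) (by simpa using hcnt) K hK hKf r hr2 hrp hΩ
  rcases h with ⟨ho, h | ⟨-, hs⟩⟩ | ⟨h4, h | ⟨h, -⟩⟩
  · left; exact ⟨ho, h⟩
  · exact absurd hs (by simp)
  · right; exact ⟨h4, by omega⟩
  · right; exact ⟨h4, by omega⟩

end Cfsg.Agent.Lib.helper2
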