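import Mathlib
import Cfsg.Prelude.Def_GeometricClasses
import Cfsg.Agent.Lib.helper24.SfoDefs
import Cfsg.Agent.Lib.helper6.SfoQBIL
import Cfsg.Agent.Lib.helper98.SfoOB
import Cfsg.Agent.Lib.helper53.SfoBINREP

set_option autoImplicit false

namespace Cfsg.Agent.Lib.helper2

open Cfsg.Geo Matrix Cfsg.Agent.Lib.helper24

/-- normalisation of an orthogonal family: values `1, …, 1, c` -/
theorem helper2_qfu_nf_aux {E : Type*} [Field E] [Fintype E] {n : ℕ} (h2 : (2 : E) ≠ 0)
    (Q : (Fin n → E) → E) (hQ : IsNondegenerateQuadraticForm Q) :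
    ∀ (m : ℕ) (e : Fin (m + 1) → (Fin n → E)),
      (∀ i j, i ≠ j → QuadraticMap.polar Q (e i) (e j) = 0) → (∀ j, Q (e j) ≠ 0) →
      ∃ e' : Fin (m + 1) → (Fin n → E),
        (∀ i j, i ≠ j → QuadraticMap.polar Q (e' i) (e' j) = 0) ∧
        (∀ j, j ≠ Fin.last m → Q (e' j) = 1) ∧ Q (e' (Fin.last m)) ≠ 0 ∧
        ∀ w, (∀ j, QuadraticMap.polar Q w (e j) = 0) → ∀ j, QuadraticMap.polar Q w (e' j) = 0 := by
  obtain ⟨hsym, hadd, hBB, -, -⟩ := sfo_basic h2 Q hQ
  have hB := hQ.polar_bilinear
  have hQlin : ∀ (a b : E) (p q : Fin n → E), Q (a • p + b • q) =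
      a ^ 2 * Q p + b ^ 2 * Q q + a * b * QuadraticMap.polar Q p q := by
    intro a b p q
    rw [hadd, hQ.smul, hQ.smul, hB.smul_left, hB.smul_right]; ring
  have hBl : ∀ (a b : E) (p q w : Fin n → E), QuadraticMap.polar Q (a • p + b • q) w =
      a * QuadraticMap.polar Q p w + b * QuadraticMap.polar Q q w := by
    intro a b p q w
    rw [hB.add_left, hB.smul_left, hB.smul_left]
  have hBr : ∀ (a b : E) (w p q : Fin n → E), QuadraticMap.polar Q w (a • p + b • q) =
      a * QuadraticMap.polar Q w p + b * QuadraticMap.polar Q w q := by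
    intro a b w p q
    rw [hB.add_right, hB.smul_right, hB.smul_right]
  intro m
  induction m with
  | zero =>
    intro e horth hne
    refine ⟨e, horth, ?_, hne _, fun w hw => hw⟩
    intro j hj
    exact absurd (Fin.ext (by have := j.2; simp only [Fin.val_last]; omega)) hj
  | succ m ih =>
    intro e horth hne
    set e0 := e 0 with he0
    set e1 := e (Fin.succ 0) with he1
    have h01 : QuadraticMap.polar Q e0 e1 = 0 := horth _ _ (Fin.succ_ne_zero 0).symm
    have h10 : QuadraticMap.polar Q e1 e0 = 0 := horth _ _ (Fin.succ_ne_zero 0)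
    obtain ⟨x, y, hxy⟩ := sfo_bin_rep h2 (Q e0) (Q e1) 1 (hne _) (hne _)
    set u : Fin n → E := x • e0 + y • e1 with hu
    set u' : Fin n → E := (Q e1 * y) • e0 + (-(Q e0 * x)) • e1 with hu'
    have hQu : Q u = 1 := by
      rw [hu, hQlin, h01]; linear_combination hxy
    have hQu' : Q u' ≠ 0 := by
      have : Q u' = Q e0 * Q e1 := by
        rw [hu', hQlin, h01]; linear_combination (Q e0 * Q e1) * hxy
      rw [this]; exact mul_ne_zero (hne _) (hne _)
    have huu' : QuadraticMap.polar Q u u' = 0 := by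
      rw [hu, hu', hBl, hBr, hBr, hBB, hBB, h01, h10]; ring
    have h0j : ∀ j : Fin m, QuadraticMap.polar Q e0 (e j.succ.succ) = 0 := fun j =>
      horth _ _ (Fin.succ_ne_zero _).symm
    have h1j : ∀ j : Fin m, QuadraticMap.polar Q e1 (e j.succ.succ) = 0 := fun j =>
      horth _ _ (fun h => Fin.succ_ne_zero j (Fin.succ_injective _ h).symm)
    -- the shorter family
    obtain ⟨g, hg0, hgs⟩ : ∃ g : Fin (m + 1) → (Fin n → E), g 0 = u' ∧
        ∀ j : Fin m, g j.succ = e j.succ.succ :=
      ⟨Fin.cons u' (fun j : Fin m => e j.succ.succ), by simp, by intro j; simp⟩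
    have hgorth : ∀ i j, i ≠ j → QuadraticMap.polar Q (g i) (g j) = 0 := by
      intro i j
      refine Fin.cases ?_ (fun i' => ?_) i <;> refine Fin.cases ?_ (fun j' => ?_) j
      · intro hij; exact absurd rfl hij
      · intro _
        rw [hg0, hgs, hu', hBl, h0j, h1j]; ring
      · intro _
        rw [hg0, hgs, hsym, hu', hBl, h0j, h1j]; ring
      · intro hij
        rw [hgs, hgs]
        exact horth _ _ (fun h => hij (by rw [Fin.succ_injective _ (Fin.succ_injective _ h)]))
    have hgne : ∀ j, Q (g j) ≠ 0 := by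
      intro j
      refine Fin.cases ?_ (fun j' => ?_) j
      · rw [hg0]; exact hQu'
      · rw [hgs]; exact hne _
    obtain ⟨g', hg'orth, hg'one, hg'last, hg'pres⟩ := ih g hgorth hgne
    have hug : ∀ j, QuadraticMap.polar Q u (g j) = 0 := by
      intro j
      refine Fin.cases ?_ (fun j' => ?_) j
      · rw [hg0]; exact huu'
      · rw [hgs, hu, hBl, h0j, h1j]; ring
    have hug' := hg'pres u hug
    obtain ⟨e', he'0, he's⟩ : ∃ e' : Fin (m + 1 + 1) → (Fin n → E), e' 0 = u ∧
        ∀ j : Fin (m + 1), e' j.succ = g' j :=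
      ⟨Fin.cons u g', by simp, by intro j; simp⟩
    refine ⟨e', ?_, ?_, ?_, ?_⟩
    · intro i j
      refine Fin.cases ?_ (fun i' => ?_) i <;> refine Fin.cases ?_ (fun j' => ?_) j
      · intro hij; exact absurd rfl hij
      · intro _
        rw [he'0, he's]
        exact hug' j'
      · intro _
        rw [he'0, he's, hsym]; exact hug' i'
      · intro hij
        rw [he's, he's]
        exact hg'orth _ _ (fun h => hij (by rw [h]))
    · intro j
      refine Fin.cases ?_ (fun j' => ?_) j
      · intro _; rw [he'0]; exact hQu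
      · intro hj
        rw [he's]
        apply hg'one
        intro h
        apply hj
        rw [h, Fin.succ_last]
    · have : Fin.last (m + 1) = (Fin.last m).succ := (Fin.succ_last m).symm
      rw [this, he's]
      exact hg'last
    · intro w hw j
      refine Fin.cases ?_ (fun j' => ?_) j
      · rw [he'0, hu, hBr, hw, hw]; ring
      · rw [he's]
        apply hg'pres w
        intro j2
        refine Fin.cases ?_ (fun j3 => ?_) j2
        · rw [hg0, hu', hBr, hw, hw]; ring
        · rw [hgs]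
          exact hw _

/-- NFA (racing copy) -/
theorem helper2_qfu_normal_family {E : Type*} [Field E] [Fintype E] {m : ℕ} (h2 : (2 : E) ≠ 0)
    (Q : (Fin (m + 1) → E) → E) (hQ : IsNondegenerateQuadraticForm Q) :
    ∃ e : Fin (m + 1) → (Fin (m + 1) → E),
      (∀ i j, i ≠ j → QuadraticMap.polar Q (e i) (e j) = 0) ∧
      (∀ j, j ≠ Fin.last m → Q (e j) = 1) ∧ Q (e (Fin.last m)) ≠ 0 := by
  obtain ⟨e, -, horth, hne⟩ := sfo_orth_basis h2 Q hQ
  obtain ⟨e', h1, h2', h3, -⟩ := helper2_qfu_nf_aux h2 Q hQ m e horth hne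
  exact ⟨e', h1, h2', h3⟩

end Cfsg.Agent.Lib.helper2
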