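import Mathlib
import Cfsg.Agent.Lib.helper89.S60Defs
import Cfsg.Agent.Lib.helper32.S6eE34r
import Cfsg.Agent.Lib.helper32.S6eE12r

set_option autoImplicit false

namespace Cfsg.Agent.Lib.helper89.S60

open Matrix Cfsg Cfsg.Geo

theorem helper2_trace_reindex {F : Type*} [Field F] (M : Matrix (Fin 2 ⊕ Fin 2) (Fin 2 ⊕ Fin 2) F) :
    Matrix.trace (Matrix.reindexAlgEquiv F F (finSumFinEquiv : Fin 2 ⊕ Fin 2 ≃ Fin 4) M) =
      Matrix.trace M := by
  simp only [Matrix.trace, Matrix.diag_apply, Matrix.reindexAlgEquiv_apply, Matrix.reindex_apply,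
    Matrix.submatrix_apply]
  exact Equiv.sum_comp (finSumFinEquiv : Fin 2 ⊕ Fin 2 ≃ Fin 4).symm (fun j => M j j)

theorem helper2_blk_mul {F : Type*} [Field F] (A B : Matrix (Fin 2) (Fin 2) F) :
    Matrix.fromBlocks A 0 0 (1 : Matrix (Fin 2) (Fin 2) F) *
        Matrix.fromBlocks B 0 0 (1 : Matrix (Fin 2) (Fin 2) F) =
      Matrix.fromBlocks (A * B) 0 0 (1 : Matrix (Fin 2) (Fin 2) F) := by
  rw [Matrix.fromBlocks_multiply]
  simp

theorem helper2_blk_pow {F : Type*} [Field F] (A : Matrix (Fin 2) (Fin 2) F) (n : ℕ) :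
    (Matrix.fromBlocks A 0 0 (1 : Matrix (Fin 2) (Fin 2) F)) ^ n =
      Matrix.fromBlocks (A ^ n) 0 0 (1 : Matrix (Fin 2) (Fin 2) F) := by
  induction n with
  | zero => rw [pow_zero, pow_zero, Matrix.fromBlocks_one]
  | succ n ih => rw [pow_succ, ih, helper2_blk_mul, pow_succ]

theorem helper2_trace_adj2 {F : Type*} [Field F] (A : Matrix (Fin 2) (Fin 2) F) :
    Matrix.trace (Matrix.adjugate A) = Matrix.trace A := by
  rw [Matrix.trace_fin_two, Matrix.trace_fin_two, Matrix.adjugate_fin_two]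
  simp
  ring

theorem helper2_trace_blk {F : Type*} [Field F] (A : Matrix (Fin 2) (Fin 2) F) :
    Matrix.trace (Matrix.fromBlocks A 0 0 (1 : Matrix (Fin 2) (Fin 2) F)) =
      2 + Matrix.trace A := by
  simp only [Matrix.trace, Matrix.diag_apply, Fintype.sum_sum_type, Matrix.fromBlocks_apply₁₁,
    Matrix.fromBlocks_apply₂₂, Matrix.one_apply_eq]
  simp [Fin.sum_univ_two]
  ring

/-- X5 (racing copy) -/
theorem helper2_s60_exists_five {F : Type*} [Field F] [Fintype F] (h2 : (2 : F) ≠ 0)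
    (hdiv : 5 ∣ Fintype.card F ^ 2 - 1) :
    ∃ x : GL (Fin 4) F, x ∈ specialLinear (Fin 4) F ∧ x ^ 5 = 1 ∧ (∀ z : F, (x : Matrix (Fin 4) (Fin 4) F) ≠ z • (1 : Matrix (Fin 4) (Fin 4) F)) ∧
      ∃ τ : F, τ ^ 2 + τ - 1 = 0 ∧ Matrix.trace (x : Matrix (Fin 4) (Fin 4) F) = 2 + τ ∧
        Matrix.trace ((x⁻¹ : GL (Fin 4) F) : Matrix (Fin 4) (Fin 4) F) = 2 + τ := by
  classical
  have : Fact (Nat.Prime 5) := ⟨Nat.prime_five⟩
  obtain ⟨A, hdet, hA5, hA1⟩ := Cfsg.Agent.Lib.helper24.h32_s6_sl2_elt (F := F) 5 hdiv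
  have htr := Cfsg.Agent.Lib.helper24.h32_s6_sl2_trace5 h2 A hdet hA5 hA1
  set e := Matrix.reindexAlgEquiv F F (finSumFinEquiv : Fin 2 ⊕ Fin 2 ≃ Fin 4) with he
  have hm1 : e (Matrix.fromBlocks A 0 0 1) * e (Matrix.fromBlocks (Matrix.adjugate A) 0 0 1) = 1 := by
    rw [← map_mul, helper2_blk_mul, Matrix.mul_adjugate, hdet, one_smul, Matrix.fromBlocks_one,
      map_one]
  have hm2 : e (Matrix.fromBlocks (Matrix.adjugate A) 0 0 1) * e (Matrix.fromBlocks A 0 0 1) = 1 := by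
    rw [← map_mul, helper2_blk_mul, Matrix.adjugate_mul, hdet, one_smul, Matrix.fromBlocks_one,
      map_one]
  refine ⟨⟨e (Matrix.fromBlocks A 0 0 1), e (Matrix.fromBlocks (Matrix.adjugate A) 0 0 1), hm1, hm2⟩,
    ?_, ?_, ?_, Matrix.trace A, htr, ?_, ?_⟩
  · -- determinant one
    show _ ∈ (Matrix.GeneralLinearGroup.det : GL (Fin 4) F →* Fˣ).ker
    rw [MonoidHom.mem_ker]
    apply Units.ext
    rw [Matrix.GeneralLinearGroup.val_det_apply]
    show Matrix.det (e (Matrix.fromBlocks A 0 0 1)) = 1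
    rw [he, Matrix.det_reindexAlgEquiv, Matrix.det_fromBlocks_zero₂₁, hdet, Matrix.det_one, mul_one]
  · apply Units.ext
    rw [Units.val_pow_eq_pow_val]
    show (e (Matrix.fromBlocks A 0 0 1)) ^ 5 = 1
    rw [← map_pow, helper2_blk_pow, hA5, Matrix.fromBlocks_one, map_one]
  · intro z hz
    have hz' : e (Matrix.fromBlocks A 0 0 1) = z • (1 : Matrix (Fin 4) (Fin 4) F) := hz
    have h3 : Matrix.fromBlocks A 0 0 (1 : Matrix (Fin 2) (Fin 2) F) =
        z • (1 : Matrix (Fin 2 ⊕ Fin 2) (Fin 2 ⊕ Fin 2) F) := by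
      apply e.injective
      rw [hz', map_smul, map_one]
    have hz1 : z = 1 := by
      have := congrFun (congrFun h3 (Sum.inr 0)) (Sum.inr 0)
      simpa using this.symm
    apply hA1
    ext i j
    have := congrFun (congrFun h3 (Sum.inl i)) (Sum.inl j)
    rw [hz1, one_smul] at this
    simpa [Matrix.one_apply] using this
  · show Matrix.trace (e (Matrix.fromBlocks A 0 0 1)) = 2 + Matrix.trace A
    rw [he, helper2_trace_reindex, helper2_trace_blk]
  · show Matrix.trace (e (Matrix.fromBlocks (Matrix.adjugate A) 0 0 1)) = 2 + Matrix.trace A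
    rw [he, helper2_trace_reindex, helper2_trace_blk, helper2_trace_adj2]

end Cfsg.Agent.Lib.helper89.S60
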