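import Mathlib
import Cfsg.Prelude.Def_GeometricClasses
import Cfsg.Agent.Lib.helper24.SfoDefs
import Cfsg.Agent.Lib.helper24.QuadExt2
import Cfsg.Agent.Lib.helper71.QfcPHI
import Cfsg.Agent.Lib.helper53.QfcQK
import Cfsg.Agent.Lib.helper2.QfuNFA
import Cfsg.Agent.Lib.helper27.QfuNFB
import Cfsg.Agent.Lib.helper29.QfuISOSQ
import Cfsg.Agent.Lib.helper3.QfuSUMD
import Cfsg.Agent.Lib.helper7.QfuTRANSL
import Cfsg.Agent.Lib.helper25.QfuCONJ
import Cfsg.Agent.Lib.helper1.QfuEVEN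
import Cfsg.Agent.Lib.helper97.QfuCNTEQ

set_option autoImplicit false

namespace Cfsg.Agent.Lib.helper2

open Cfsg.Geo Matrix Cfsg.Agent.Lib.helper24

/-- ISO: nondegenerate quadratic forms of the same dimension over a finite field of odd
characteristic with the same number of vectors of norm 1 are isometric. -/
theorem qfu_iso {E : Type*} [Field E] [Fintype E] (h2 : (2 : E) ≠ 0) (d : ℕ)
    (Q Q' : (Fin d → E) → E) (hQ : IsNondegenerateQuadraticForm Q)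
    (hQ' : IsNondegenerateQuadraticForm Q') (hcnt : sfoCount Q 1 = sfoCount Q' 1) :
    ∃ T : GL (Fin d) E, ∀ x : Fin d → E,
      Q' ((T : Matrix (Fin d) (Fin d) E) *ᵥ x) = Q x := by
  classical
  rcases Nat.eq_zero_or_pos d with hd | hd
  · subst hd
    refine ⟨1, fun x => ?_⟩
    have hx : x = 0 := Subsingleton.elim _ _
    have h0 : Q 0 = 0 := by
      have := hQ.smul 0 0
      simpa using this
    have h0' : Q' 0 = 0 := by
      have := hQ'.smul 0 0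
      simpa using this
    have e1 : ((1 : GL (Fin 0) E) : Matrix (Fin 0) (Fin 0) E) *ᵥ x = 0 := Subsingleton.elim _ _
    rw [e1, hx, h0, h0']
  · obtain ⟨m, rfl⟩ : ∃ m, d = m + 1 := ⟨d - 1, by omega⟩
    obtain ⟨e, horth, hone, hlast⟩ := helper2_qfu_normal_family h2 Q hQ
    obtain ⟨e', horth', hone', hlast'⟩ := helper2_qfu_normal_family h2 Q' hQ'
    have hne : ∀ j, Q (e j) ≠ 0 := by
      intro j
      by_cases hj : j = Fin.last m
      · rw [hj]; exact hlast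
      · rw [hone j hj]; exact one_ne_zero
    have hne' : ∀ j, Q' (e' j) ≠ 0 := by
      intro j
      by_cases hj : j = Fin.last m
      · rw [hj]; exact hlast'
      · rw [hone' j hj]; exact one_ne_zero
    obtain ⟨P, hP⟩ := qfu_diag_of_family h2 Q hQ e horth hne
    obtain ⟨P', hP'⟩ := qfu_diag_of_family h2 Q' hQ' e' horth' hne'
    have hPc : ∀ x : Fin (m + 1) → E, Q ((P : Matrix (Fin (m + 1)) (Fin (m + 1)) E) *ᵥ x) =
        ∑ j, (if j = Fin.last m then Q (e (Fin.last m)) else 1) * x j ^ 2 := by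
      intro x
      rw [hP x]
      refine Finset.sum_congr rfl (fun j _ => ?_)
      by_cases hj : j = Fin.last m
      · rw [if_pos hj, hj]
      · rw [if_neg hj, hone j hj]
    have hPc' : ∀ x : Fin (m + 1) → E, Q' ((P' : Matrix (Fin (m + 1)) (Fin (m + 1)) E) *ᵥ x) =
        ∑ j, (if j = Fin.last m then Q' (e' (Fin.last m)) else 1) * x j ^ 2 := by
      intro x
      rw [hP' x]
      refine Finset.sum_congr rfl (fun j _ => ?_)
      by_cases hj : j = Fin.last m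
      · rw [if_pos hj, hj]
      · rw [if_neg hj, hone' j hj]
    by_cases hsq : ∃ s : E, Q (e (Fin.last m)) = s ^ 2 * Q' (e' (Fin.last m))
    · obtain ⟨s, hs⟩ := hsq
      exact h29_qfu_iso_of_sq Q Q' P P' _ _ s hlast hs hPc hPc'
    · exfalso
      push_neg at hsq
      have hsum := h3_qfu_diag_count_sum (m := m) h2 _ _ hlast hlast' hsq
      rw [← qfu_count_transl Q _ P hPc 1, ← qfu_count_transl Q' _ P' hPc' 1, ← hcnt] at hsum
      apply qfu_count_ne h2 Q hQ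
      omega

end Cfsg.Agent.Lib.helper2

namespace Cfsg.Agent.Lib.helper59.Sfk

open Cfsg.Geo Matrix Cfsg.Agent.Lib.helper24 Cfsg.Agent.Lib.helper2

/-- KUNIQ: any two self-adjoint square roots of the same nonsquare `δ` are conjugate under the
isometry group. -/
theorem sfk_uniq {F : Type*} [Field F] [Fintype F] {ι : Type} [Fintype ι] [DecidableEq ι]
    (h2 : (2 : F) ≠ 0) (Q : QuadraticForm F (ι → F))
    (hQ : (QuadraticMap.polarBilin Q).Nondegenerate)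
    (hQ' : IsNondegenerateQuadraticForm (⇑Q : (ι → F) → F))
    (δ : F) (hδ : ∀ r : F, r ^ 2 ≠ δ + 0 * r) (κ₁ κ₂ : Matrix ι ι F)
    (h1 : κ₁ * κ₁ = δ • (1 : Matrix ι ι F)) (h2' : κ₂ * κ₂ = δ • (1 : Matrix ι ι F))
    (hs1 : ∀ u v : ι → F, QuadraticMap.polar (⇑Q) (κ₁ *ᵥ u) v = QuadraticMap.polar (⇑Q) u (κ₁ *ᵥ v))
    (hs2 : ∀ u v : ι → F, QuadraticMap.polar (⇑Q) (κ₂ *ᵥ u) v = QuadraticMap.polar (⇑Q) u (κ₂ *ᵥ v)) :
    ∃ h : GL ι F, h ∈ Cfsg.isometryGroup F (⇑Q) ∧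
      (h : Matrix ι ι F) * κ₁ = κ₂ * (h : Matrix ι ι F) := by
  classical
  haveI : Fact (∀ r : F, r ^ 2 ≠ δ + 0 * r) := ⟨hδ⟩
  have hodd : Odd (Fintype.card F) := Cfsg.Agent.Lib.helper24.qe_two_ne_zero_iff_odd.1 h2
  obtain ⟨d, hd⟩ := h1_qfu_even_card δ hδ κ₁ h1
  have hι : Fintype.card ι = 2 * d := by omega
  obtain ⟨Φ₁, hΦ₁⟩ := qfc_phi δ κ₁ h1 d hι
  obtain ⟨Φ₂, hΦ₂⟩ := qfc_phi δ κ₂ h2' d hι
  have hQ1 := h53_qfc_qk_nondeg h2 (⇑Q) hQ' δ κ₁ h1 hs1 d Φ₁ hΦ₁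
  have hQ2 := h53_qfc_qk_nondeg h2 (⇑Q) hQ' δ κ₂ h2' hs2 d Φ₂ hΦ₂
  have hcnt := h97_qfu_count_eq hodd (⇑Q) δ d Φ₁ Φ₂
    (fun v => (⟨Q v, QuadraticMap.polar (⇑Q) (κ₁ *ᵥ v) v / (2 * δ)⟩ : QuadraticAlgebra F δ 0))
    (fun v => (⟨Q v, QuadraticMap.polar (⇑Q) (κ₂ *ᵥ v) v / (2 * δ)⟩ : QuadraticAlgebra F δ 0))
    (fun _ => rfl) (fun _ => rfl) hQ1 hQ2
  letI : Fintype (QuadraticAlgebra F δ 0) :=
    Fintype.ofEquiv _ (QuadraticAlgebra.equivProd δ 0).symm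
  have h2K : (2 : QuadraticAlgebra F δ 0) ≠ 0 := by
    intro h
    apply h2
    have := congrArg QuadraticAlgebra.re h
    rw [QuadraticAlgebra.re_ofNat] at this
    simpa using this
  obtain ⟨T, hT⟩ := qfu_iso h2K d _ _ hQ1 hQ2 hcnt
  exact h25_qfu_conj (⇑Q) δ κ₁ κ₂ d Φ₁ Φ₂ hΦ₁ hΦ₂
    (fun v => (⟨Q v, QuadraticMap.polar (⇑Q) (κ₁ *ᵥ v) v / (2 * δ)⟩ : QuadraticAlgebra F δ 0))
    (fun v => (⟨Q v, QuadraticMap.polar (⇑Q) (κ₂ *ᵥ v) v / (2 * δ)⟩ : QuadraticAlgebra F δ 0))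
    (fun _ => rfl) (fun _ => rfl) T hT

end Cfsg.Agent.Lib.helper59.Sfk
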