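import Cfsg.Agent.S2222
import Mathlib

set_option autoImplicit false

namespace Cfsg.Agent.Lib.helper2.SylAlt

open Equiv Cfsg.Agent.S2222

variable {Ω : Type} [Fintype Ω] [DecidableEq Ω] {T : Finset (Perm Ω)}

/-- `x` centralizes every member of the pairing -/
def Cen (T : Finset (Perm Ω)) (x : Perm Ω) : Prop := ∀ t ∈ T, x * t * x⁻¹ = t

/-- `x` moves the support of `t` -/
def mv (x t : Perm Ω) : Prop := ∃ a, t a ≠ a ∧ x a ≠ a

theorem cen_one : Cen T 1 := by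
  intro t _; simp

theorem cen_mul {x y : Perm Ω} (hx : Cen T x) (hy : Cen T y) : Cen T (x * y) := by
  intro t ht
  have : x * y * t * (x * y)⁻¹ = x * (y * t * y⁻¹) * x⁻¹ := by simp [mul_assoc]
  rw [this, hy t ht, hx t ht]

theorem cen_inv {x : Perm Ω} (hx : Cen T x) : Cen T x⁻¹ := by
  intro t ht
  have h := hx t ht
  have : x⁻¹ * (x * t * x⁻¹) * x⁻¹⁻¹ = t := by simp [mul_assoc]
  rw [h] at this
  exact this

theorem cen_swap (hT : Pairing T) {t : Perm Ω} (ht : t ∈ T) : Cen T t :=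
  fun _ hs => pair_comm hT ht hs

theorem exists_moved (hT : Pairing T) {t : Perm Ω} (ht : t ∈ T) : ∃ a, t a ≠ a := by
  obtain ⟨x, y, hxy, rfl⟩ := hT.sw t ht
  exact ⟨x, by rw [swap_apply_left]; exact Ne.symm hxy⟩

theorem moved_cases (hT : Pairing T) {t : Perm Ω} (ht : t ∈ T) {a b : Ω} (hta : t a ≠ a)
    (htb : t b ≠ b) : b = a ∨ b = t a := by
  have e := swap_of_isSwap (hT.sw t ht) hta
  by_contra h
  push Not at h
  apply htb
  rw [e]
  exact swap_apply_of_ne_of_ne h.1 h.2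

theorem apply_apply_mem (hT : Pairing T) {t : Perm Ω} (ht : t ∈ T) (a : Ω) : t (t a) = a := by
  obtain ⟨x, y, hxy, rfl⟩ := hT.sw t ht
  exact swap_apply_self x y a

theorem mv_iff (hT : Pairing T) {x t : Perm Ω} (hx : Cen T x) (ht : t ∈ T) {a : Ω}
    (hta : t a ≠ a) : mv x t ↔ x a ≠ a := by
  constructor
  · rintro ⟨b, htb, hxb⟩
    rcases moved_cases hT ht hta htb with rfl | rfl
    · exact hxb
    · rcases ker_val hT hx ht hta with ⟨_, h2⟩ | ⟨h1, _⟩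
      · exact absurd h2 hxb
      · rw [h1]; exact hta
  · intro h; exact ⟨a, hta, h⟩

theorem cen_apply (hT : Pairing T) {x t : Perm Ω} (hx : Cen T x) (ht : t ∈ T) {a : Ω}
    (hta : t a ≠ a) [Decidable (mv x t)] : x a = if mv x t then t a else a := by
  rcases ker_val hT hx ht hta with ⟨h1, _⟩ | ⟨h1, _⟩
  · have : ¬ mv x t := by rw [mv_iff hT hx ht hta]; simpa using h1
    rw [if_neg this, h1]
  · have : mv x t := by rw [mv_iff hT hx ht hta, h1]; exact hta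
    rw [if_pos this, h1]

theorem cen_ext (hT : Pairing T) {x y : Perm Ω} (hx : Cen T x) (hy : Cen T y)
    (h : ∀ t ∈ T, mv x t ↔ mv y t) : x = y := by
  classical
  ext a
  by_cases hc : ∀ t ∈ T, t a = a
  · rw [ker_fix hT hx hc, ker_fix hT hy hc]
  · push Not at hc
    obtain ⟨t, ht, hta⟩ := hc
    rw [cen_apply hT hx ht hta, cen_apply hT hy ht hta]
    simp [h t ht]

theorem mv_mul (hT : Pairing T) {x y t : Perm Ω} (hx : Cen T x) (hy : Cen T y) (ht : t ∈ T) :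
    mv (x * y) t ↔ ¬ (mv x t ↔ mv y t) := by
  classical
  obtain ⟨a, hta⟩ := exists_moved hT ht
  have hta' : t (t a) ≠ t a := by rw [apply_apply_mem hT ht]; exact Ne.symm hta
  rw [mv_iff hT (cen_mul hx hy) ht hta, Perm.mul_apply, cen_apply hT hy ht hta]
  by_cases hmy : mv y t
  · rw [if_pos hmy, cen_apply hT hx ht hta', apply_apply_mem hT ht]
    by_cases hmx : mv x t
    · simp [hmx, hmy]
    · simp [hmx, hmy, hta]
  · rw [if_neg hmy, cen_apply hT hx ht hta]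
    by_cases hmx : mv x t
    · simp [hmx, hmy, hta]
    · simp [hmx, hmy]

theorem mv_swap (hT : Pairing T) {t s : Perm Ω} (ht : t ∈ T) (hs : s ∈ T) : mv t s ↔ t = s := by
  constructor
  · rintro ⟨a, hsa, hta⟩
    exact hT.disj t ht s hs a hta hsa
  · rintro rfl
    obtain ⟨a, ha⟩ := exists_moved hT ht
    exact ⟨a, ha, ha⟩

theorem mv_one {t : Perm Ω} : ¬ mv (1 : Perm Ω) t := by
  rintro ⟨a, _, h⟩; exact h rfl

theorem mv_conj (g x t : Perm Ω) : mv (g * x * g⁻¹) (g * t * g⁻¹) ↔ mv x t := by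
  constructor
  · rintro ⟨a, h1, h2⟩
    refine ⟨g⁻¹ a, ?_, ?_⟩
    · intro h; apply h1
      show g (t (g⁻¹ a)) = a
      rw [h]; simp
    · intro h; apply h2
      show g (x (g⁻¹ a)) = a
      rw [h]; simp
  · rintro ⟨a, h1, h2⟩
    refine ⟨g a, ?_, ?_⟩
    · intro h; apply h1; simpa [Perm.mul_apply] using h
    · intro h; apply h2; simpa [Perm.mul_apply] using h

theorem cen_conj {g x : Perm Ω} (hg : g ∈ stabT T) (hx : Cen T x) : Cen T (g * x * g⁻¹) := by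
  intro t ht
  have h0 := hx _ (hg t ht).2
  have : g * x * g⁻¹ * t * (g * x * g⁻¹)⁻¹ = g * (x * (g⁻¹ * t * g) * x⁻¹) * g⁻¹ := by
    simp [mul_assoc]
  rw [this, h0]; simp [mul_assoc]

theorem mv_mul_swaps (hT : Pairing T) {t₁ t₂ s : Perm Ω} (h1 : t₁ ∈ T) (h2 : t₂ ∈ T) (hs : s ∈ T)
    (hne : t₁ ≠ t₂) : mv (t₁ * t₂) s ↔ (s = t₁ ∨ s = t₂) := by
  rw [mv_mul hT (cen_swap hT h1) (cen_swap hT h2) hs, mv_swap hT h1 hs, mv_swap hT h2 hs]
  constructor
  · intro h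
    by_contra hc
    push Not at hc
    exact h ⟨fun e => absurd e.symm hc.1, fun e => absurd e.symm hc.2⟩
  · rintro (rfl | rfl) h
    · exact hne (h.1 rfl).symm
    · exact hne (h.2 rfl)

theorem swap_mul_eq (hT : Pairing T) {t₁ t₂ t₃ t₄ : Perm Ω} (h1 : t₁ ∈ T) (h2 : t₂ ∈ T)
    (h3 : t₃ ∈ T) (h4 : t₄ ∈ T) (hne : t₁ ≠ t₂) (h : t₁ * t₂ = t₃ * t₄) :
    (t₁ = t₃ ∧ t₂ = t₄) ∨ (t₁ = t₄ ∧ t₂ = t₃) := by
  have hne' : t₃ ≠ t₄ := by
    rintro rfl
    have e : t₃ * t₃ = 1 := by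
      ext a; simp [apply_apply_mem hT h3]
    rw [e] at h
    have := (mv_mul_swaps hT h1 h2 h1 hne).2 (Or.inl rfl)
    rw [h] at this
    exact mv_one this
  have m1 : t₁ = t₃ ∨ t₁ = t₄ := by
    rw [← mv_mul_swaps hT h3 h4 h1 hne', ← h]
    exact (mv_mul_swaps hT h1 h2 h1 hne).2 (Or.inl rfl)
  have m2 : t₂ = t₃ ∨ t₂ = t₄ := by
    rw [← mv_mul_swaps hT h3 h4 h2 hne', ← h]
    exact (mv_mul_swaps hT h1 h2 h2 hne).2 (Or.inr rfl)
  rcases m1 with e1 | e1 <;> rcases m2 with e2 | e2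
  · exact absurd (e1.trans e2.symm) hne
  · exact Or.inl ⟨e1, e2⟩
  · exact Or.inr ⟨e1, e2⟩
  · exact absurd (e1.trans e2.symm) hne

theorem cen_of_comm (hT : Pairing T) (h3 : 3 ≤ T.card) {g : Perm Ω} (hg : g ∈ stabT T)
    (hc : ∀ t ∈ T, ∀ s ∈ T, t ≠ s → g * (t * s) * g⁻¹ = t * s) : Cen T g := by
  intro t ht
  have hcard : 1 < (T.erase t).card := by
    rw [Finset.card_erase_of_mem ht]; omega
  obtain ⟨s₁, hs₁, s₂, hs₂, h12⟩ := Finset.one_lt_card.1 hcard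
  have hs₁T := Finset.mem_of_mem_erase hs₁
  have hs₂T := Finset.mem_of_mem_erase hs₂
  have hs₁t : s₁ ≠ t := Finset.ne_of_mem_erase hs₁
  have hs₂t : s₂ ≠ t := Finset.ne_of_mem_erase hs₂
  have key : ∀ s ∈ T, s ≠ t → g * t * g⁻¹ = t ∨ g * t * g⁻¹ = s := by
    intro s hs hst
    have e : (g * t * g⁻¹) * (g * s * g⁻¹) = t * s := by
      rw [← hc t ht s hs (Ne.symm hst)]; simp [mul_assoc]
    have hne : g * t * g⁻¹ ≠ g * s * g⁻¹ := by
      intro h
      apply hst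
      have := congrArg (fun z => g⁻¹ * z * g) h
      simpa [mul_assoc] using this.symm
    rcases swap_mul_eq hT (hg t ht).1 (hg s hs).1 ht hs hne e with ⟨e1, _⟩ | ⟨e1, _⟩
    · exact Or.inl e1
    · exact Or.inr e1
  rcases key s₁ hs₁T hs₁t with h | h
  · exact h
  · rcases key s₂ hs₂T hs₂t with h' | h'
    · exact h'
    · exact absurd (h.symm.trans h') h12

theorem sign_mem (hT : Pairing T) {t : Perm Ω} (ht : t ∈ T) : Perm.sign t = -1 :=
  (hT.sw t ht).sign_eq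

/-- commuting of elements centralizing the pairing -/
theorem cen_comm (hT : Pairing T) {x y : Perm Ω} (hx : Cen T x) (hy : Cen T y) :
    x * y = y * x := by
  apply cen_ext hT (cen_mul hx hy) (cen_mul hy hx)
  intro t ht
  rw [mv_mul hT hx hy ht, mv_mul hT hy hx ht]
  constructor <;> intro h h' <;> exact h h'.symm

theorem cen_mul_self (hT : Pairing T) {x : Perm Ω} (hx : Cen T x) : x * x = 1 := by
  ext a; simp [ker_sq hT hx a]

/-- a link: `c ∈ P` acts on `T` (by conjugation) as the transposition `(t t')` -/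
def Link (T : Finset (Perm Ω)) (P : Subgroup (Perm Ω)) (t t' : Perm Ω) : Prop :=
  t ∈ T ∧ t' ∈ T ∧ t ≠ t' ∧ ∃ c ∈ P, c * t * c⁻¹ = t' ∧ c * t' * c⁻¹ = t ∧
    ∀ s ∈ T, s ≠ t → s ≠ t' → c * s * c⁻¹ = s

theorem link_conj (hT : Pairing T) {c t t' x : Perm Ω} (hcT : c ∈ stabT T) (ht : t ∈ T)
    (ht' : t' ∈ T) (hne : t ≠ t') (h1 : c * t * c⁻¹ = t') (h2 : c * t' * c⁻¹ = t)
    (h3 : ∀ s ∈ T, s ≠ t → s ≠ t' → c * s * c⁻¹ = s) (hx : Cen T x) :
    ((mv x t ↔ mv x t') → c * x * c⁻¹ = x) ∧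
    (¬ (mv x t ↔ mv x t') → c * x * c⁻¹ = x * (t * t')) := by
  have hmv : ∀ s ∈ T, mv (c * x * c⁻¹) s ↔
      if s = t then mv x t' else if s = t' then mv x t else mv x s := by
    intro s hs
    by_cases e1 : s = t
    · rw [if_pos e1, e1]
      conv_lhs => rw [← h2]
      exact mv_conj c x t'
    · rw [if_neg e1]
      by_cases e2 : s = t'
      · rw [if_pos e2, e2]
        conv_lhs => rw [← h1]
        exact mv_conj c x t
      · rw [if_neg e2]
        conv_lhs => rw [← h3 s hs e1 e2]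
        exact mv_conj c x s
  constructor
  · intro h
    apply cen_ext hT (cen_conj hcT hx) hx
    intro s hs
    rw [hmv s hs]
    by_cases e1 : s = t
    · rw [if_pos e1, e1]; exact h.symm
    · rw [if_neg e1]
      by_cases e2 : s = t'
      · rw [if_pos e2, e2]; exact h
      · rw [if_neg e2]
  · intro h
    apply cen_ext hT (cen_conj hcT hx)
      (cen_mul hx (cen_mul (cen_swap hT ht) (cen_swap hT ht')))
    intro s hs
    rw [hmv s hs, mv_mul hT hx (cen_mul (cen_swap hT ht) (cen_swap hT ht')) hs,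
      mv_mul_swaps hT ht ht' hs hne]
    by_cases e1 : s = t
    · rw [if_pos e1, e1]
      have : (t = t ∨ t = t') := Or.inl rfl
      simp only [this, iff_true]
      tauto
    · rw [if_neg e1]
      by_cases e2 : s = t'
      · rw [if_pos e2, e2]
        have : (t' = t ∨ t' = t') := Or.inr rfl
        simp only [this, iff_true]
        tauto
      · rw [if_neg e2]
        have : ¬ (s = t ∨ s = t') := by tauto
        simp only [this, iff_false, not_not]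

theorem card_biUnion_support (hT : Pairing T) :
    (T.biUnion (fun t => t.support)).card = 2 * T.card := by
  classical
  have h1 : (T.biUnion (fun t => t.support)).card = ∑ t ∈ T, t.support.card := by
    apply Finset.card_biUnion
    intro t ht s hs hts
    rw [Function.onFun, Finset.disjoint_left]
    intro a hat has
    exact hts (hT.disj t ht s hs a (Perm.mem_support.1 hat) (Perm.mem_support.1 has))
  have h2 : ∑ t ∈ T, t.support.card = ∑ t ∈ T, 2 :=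
    Finset.sum_congr rfl (fun t ht => Perm.card_support_eq_two.2 (hT.sw t ht))
  rw [h1, h2, Finset.sum_const, smul_eq_mul, mul_comm]

theorem covered_of_even (hT : Pairing T) (he : Even (Fintype.card Ω)) (a : Ω) :
    ∃ t ∈ T, t a ≠ a := by
  classical
  have h1 := card_biUnion_support hT
  have h2 := hT.card
  have h3 : (T.biUnion (fun t => t.support)).card = Fintype.card Ω := by
    rw [h1, h2]
    obtain ⟨k, hk⟩ := he
    omega
  have h4 : T.biUnion (fun t => t.support) = Finset.univ := Finset.eq_univ_of_card _ h3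
  have h5 : a ∈ T.biUnion (fun t => t.support) := by rw [h4]; exact Finset.mem_univ a
  obtain ⟨t, ht, hat⟩ := Finset.mem_biUnion.1 h5
  exact ⟨t, ht, Perm.mem_support.1 hat⟩

theorem exists_partner (P : Subgroup (Perm Ω)) (hP2 : IsPGroup 2 P)
    (hcard : Nat.card P = 2 ^ ((Fintype.card Ω).factorial.factorization 2))
    (hT : Pairing T) (hPT : P ≤ stabT T) :
    ∃ pr : Perm Ω → Perm Ω, (∀ t ∈ T, pr t ∈ T) ∧ (∀ t ∈ T, pr (pr t) = t) ∧
      (∀ t ∈ T, pr t ≠ t → Link T P t (pr t)) ∧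
      (∀ t ∈ T, ∀ s ∈ T, pr t = t → pr s = s → t = s) ∧
      (∀ t ∈ T, pr t = t → ∀ g ∈ P, g * t * g⁻¹ = t) ∧
      (Even T.card → ∀ t ∈ T, pr t ≠ t) := by
  classical
  obtain ⟨hQ2, hQc⟩ := image_sylow hT P hPT hP2 hcard
  obtain ⟨ψ, hψ⟩ : ∃ ψ, ψ = (phiT T).comp (Subgroup.inclusion hPT) := ⟨_, rfl⟩
  rw [← hψ] at hQ2 hQc
  have hQc' : Nat.card ψ.range =
      2 ^ ((Fintype.card {t // t ∈ T}).factorial.factorization 2) := by
    rw [hQc, Fintype.card_coe]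
  obtain ⟨T', hmemT', hT', hQT'⟩ := exists_swap_pairing ψ.range hQ2 hQc'
  -- the partner function
  let pr : Perm Ω → Perm Ω := fun t =>
    if h : t ∈ T then
      (if h' : ∃ τ ∈ T', τ ⟨t, h⟩ ≠ ⟨t, h⟩ then ((Classical.choose h') ⟨t, h⟩).1 else t)
    else t
  have hpr_cov : ∀ (t : Perm Ω) (h : t ∈ T) (τ : Perm {t // t ∈ T}), τ ∈ T' →
      τ ⟨t, h⟩ ≠ ⟨t, h⟩ → pr t = (τ ⟨t, h⟩).1 := by
    intro t h τ hτ hmove
    have h' : ∃ τ ∈ T', τ ⟨t, h⟩ ≠ ⟨t, h⟩ := ⟨τ, hτ, hmove⟩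
    have e : pr t = ((Classical.choose h') ⟨t, h⟩).1 := by
      simp only [pr, dif_pos h, dif_pos h']
    rw [e]
    have hc := Classical.choose_spec h'
    rw [hT'.disj _ hc.1 τ hτ ⟨t, h⟩ hc.2 hmove]
  have hpr_unc : ∀ (t : Perm Ω) (h : t ∈ T), (∀ τ ∈ T', τ ⟨t, h⟩ = ⟨t, h⟩) → pr t = t := by
    intro t h hall
    have h' : ¬ ∃ τ ∈ T', τ ⟨t, h⟩ ≠ ⟨t, h⟩ := by
      push Not; exact hall
    simp only [pr, dif_pos h, dif_neg h']
  have hsq : ∀ (τ : Perm {t // t ∈ T}), τ ∈ T' → ∀ x, τ (τ x) = x := by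
    intro τ hτ x
    obtain ⟨u, v, _, rfl⟩ := hT'.sw τ hτ
    exact swap_apply_self u v x
  have hfix_of : ∀ (t : Perm Ω) (h : t ∈ T), pr t = t → ∀ τ ∈ T', τ ⟨t, h⟩ = ⟨t, h⟩ := by
    intro t h hpt τ hτ
    by_contra hmove
    have e := hpr_cov t h τ hτ hmove
    rw [hpt] at e
    exact hmove (Subtype.ext e.symm)
  refine ⟨pr, ?_, ?_, ?_, ?_, ?_, ?_⟩
  · intro t ht
    by_cases h' : ∃ τ ∈ T', τ ⟨t, ht⟩ ≠ ⟨t, ht⟩
    · obtain ⟨τ, hτ, hmove⟩ := h'
      rw [hpr_cov t ht τ hτ hmove]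
      exact (τ ⟨t, ht⟩).2
    · push Not at h'
      rw [hpr_unc t ht h']; exact ht
  · intro t ht
    by_cases h' : ∃ τ ∈ T', τ ⟨t, ht⟩ ≠ ⟨t, ht⟩
    · obtain ⟨τ, hτ, hmove⟩ := h'
      rw [hpr_cov t ht τ hτ hmove]
      have hmove2 : τ (τ ⟨t, ht⟩) ≠ τ ⟨t, ht⟩ := by
        rw [hsq τ hτ]; exact Ne.symm hmove
      have := hpr_cov (τ ⟨t, ht⟩).1 (τ ⟨t, ht⟩).2 τ hτ hmove2
      rw [this, hsq τ hτ]
    · push Not at h'
      rw [hpr_unc t ht h', hpr_unc t ht h']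
  · intro t ht hne
    have h' : ∃ τ ∈ T', τ ⟨t, ht⟩ ≠ ⟨t, ht⟩ := by
      by_contra hcon
      push Not at hcon
      exact hne (hpr_unc t ht hcon)
    obtain ⟨τ, hτ, hmove⟩ := h'
    have e := hpr_cov t ht τ hτ hmove
    have hτQ : τ ∈ ψ.range := ((hmemT' τ).1 hτ).1
    obtain ⟨c, hc⟩ := hτQ
    have eτ : τ = swap ⟨t, ht⟩ (τ ⟨t, ht⟩) := swap_of_isSwap (hT'.sw τ hτ) hmove
    have hact : ∀ s : {t // t ∈ T}, ((τ s : {t // t ∈ T}) : Perm Ω) =
        (c : Perm Ω) * s * (c : Perm Ω)⁻¹ := by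
      intro s
      rw [← hc, hψ]
      rfl
    refine ⟨ht, by rw [e]; exact (τ ⟨t, ht⟩).2, Ne.symm hne, (c : Perm Ω), c.2, ?_, ?_, ?_⟩
    · rw [e, hact]
    · have := hact (τ ⟨t, ht⟩)
      rw [hsq τ hτ] at this
      rw [e]; exact this.symm
    · intro s hs hst hsp
      have h1 : (⟨s, hs⟩ : {t // t ∈ T}) ≠ ⟨t, ht⟩ := fun h => hst (congrArg Subtype.val h)
      have h2 : (⟨s, hs⟩ : {t // t ∈ T}) ≠ τ ⟨t, ht⟩ := by
        intro h; apply hsp; rw [e]; exact congrArg Subtype.val h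
      have h3 : τ ⟨s, hs⟩ = ⟨s, hs⟩ := by
        rw [eτ]; exact swap_apply_of_ne_of_ne h1 h2
      have := hact ⟨s, hs⟩
      rw [h3] at this
      exact this.symm
  · intro t ht s hs hpt hps
    have := hT'.cover ⟨t, ht⟩ ⟨s, hs⟩ (hfix_of t ht hpt) (hfix_of s hs hps)
    exact congrArg Subtype.val this
  · intro t ht hpt g hg
    have hq : ψ ⟨g, hg⟩ ∈ ψ.range := ⟨⟨g, hg⟩, rfl⟩
    have hqT' := hQT' hq
    have hfix := hfix_of t ht hpt
    have hunc : ∀ τ ∈ T', τ (ψ ⟨g, hg⟩ ⟨t, ht⟩) = ψ ⟨g, hg⟩ ⟨t, ht⟩ := by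
      intro τ hτ
      have h1 := (hqT' τ hτ).2
      have h2 := hfix _ h1
      have h3 : (ψ ⟨g, hg⟩)⁻¹ (τ (ψ ⟨g, hg⟩ ⟨t, ht⟩)) = ⟨t, ht⟩ := by
        simpa [Perm.mul_apply] using h2
      have h4 := congrArg (ψ ⟨g, hg⟩) h3
      simpa using h4
    have h5 := hT'.cover _ _ hunc hfix
    have h6 := congrArg Subtype.val h5
    rw [hψ] at h6
    exact h6
  · intro hev t ht hpt
    have hev' : Even (Fintype.card {t // t ∈ T}) := by rw [Fintype.card_coe]; exact hev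
    obtain ⟨τ, hτ, hmove⟩ := covered_of_even hT' hev' ⟨t, ht⟩
    exact hmove (hfix_of t ht hpt τ hτ)

end Cfsg.Agent.Lib.helper2.SylAlt
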