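import Cfsg.Agent.Lib.helper2.SylAltBase
import Cfsg.Prelude.Def_TwoFusion

set_option autoImplicit false

namespace Cfsg.Agent.Lib.helper2.SylAlt

open Equiv Cfsg.Agent.S2222

section dp
variable {G : Type*} [Group G] {R₁ R₂ S : Subgroup G}

theorem dp_symm (h : Cfsg.IsInternalDirectProduct R₁ R₂ S) :
    Cfsg.IsInternalDirectProduct R₂ R₁ S := by
  obtain ⟨h1, h2, h3, h4, h5⟩ := h
  exact ⟨h2, h1, fun a ha b hb => (h3 b hb a ha).symm, by rw [inf_comm]; exact h4,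
    by rw [sup_comm]; exact h5⟩

theorem dp_exists (h : Cfsg.IsInternalDirectProduct R₁ R₂ S) {g : G} (hg : g ∈ S) :
    ∃ r₁ ∈ R₁, ∃ r₂ ∈ R₂, g = r₁ * r₂ := by
  obtain ⟨h1, h2, h3, h4, h5⟩ := h
  rw [← h5] at hg
  let H : Subgroup G :=
    { carrier := {g | ∃ r₁ ∈ R₁, ∃ r₂ ∈ R₂, g = r₁ * r₂}
      one_mem' := ⟨1, R₁.one_mem, 1, R₂.one_mem, by simp⟩
      mul_mem' := by
        rintro _ _ ⟨a, ha, b, hb, rfl⟩ ⟨c, hc, d, hd, rfl⟩
        refine ⟨a * c, R₁.mul_mem ha hc, b * d, R₂.mul_mem hb hd, ?_⟩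
        have := h3 c hc b hb
        calc a * b * (c * d) = a * (b * c) * d := by group
          _ = a * (c * b) * d := by rw [this]
          _ = a * c * (b * d) := by group
      inv_mem' := by
        rintro _ ⟨a, ha, b, hb, rfl⟩
        refine ⟨a⁻¹, R₁.inv_mem ha, b⁻¹, R₂.inv_mem hb, ?_⟩
        have := h3 a⁻¹ (R₁.inv_mem ha) b⁻¹ (R₂.inv_mem hb)
        rw [mul_inv_rev, this] }
  have hle : R₁ ⊔ R₂ ≤ H :=
    sup_le (fun a ha => ⟨a, ha, 1, R₂.one_mem, by simp⟩)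
      (fun b hb => ⟨1, R₁.one_mem, b, hb, by simp⟩)
  exact hle hg

theorem dp_unique (h : Cfsg.IsInternalDirectProduct R₁ R₂ S) {a a' b b' : G} (ha : a ∈ R₁)
    (ha' : a' ∈ R₁) (hb : b ∈ R₂) (hb' : b' ∈ R₂) (e : a * b = a' * b') : a = a' ∧ b = b' := by
  obtain ⟨h1, h2, h3, h4, h5⟩ := h
  have hx : a'⁻¹ * a = b' * b⁻¹ := by
    have : a'⁻¹ * (a * b) * b⁻¹ = a'⁻¹ * (a' * b') * b⁻¹ := by rw [e]
    simpa [mul_assoc] using this
  have hmem : a'⁻¹ * a ∈ R₁ ⊓ R₂ :=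
    ⟨R₁.mul_mem (R₁.inv_mem ha') ha, by rw [hx]; exact R₂.mul_mem hb' (R₂.inv_mem hb)⟩
  rw [h4, Subgroup.mem_bot] at hmem
  have e1 : a = a' := by
    have := congrArg (fun z => a' * z) hmem
    simpa using this
  refine ⟨e1, ?_⟩
  subst e1
  exact mul_left_cancel e

theorem dp_conj (h : Cfsg.IsInternalDirectProduct R₁ R₂ S) {c a : G} (hc : c ∈ S) (ha : a ∈ R₁) :
    c * a * c⁻¹ ∈ R₁ := by
  obtain ⟨g, hg, k, hk, rfl⟩ := dp_exists h hc
  have cm := h.2.2.1 a ha k hk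
  have : g * k * a * (g * k)⁻¹ = g * a * g⁻¹ := by
    calc g * k * a * (g * k)⁻¹ = g * (k * a) * k⁻¹ * g⁻¹ := by group
      _ = g * (a * k) * k⁻¹ * g⁻¹ := by rw [cm]
      _ = g * a * g⁻¹ := by group
  rw [this]
  exact R₁.mul_mem (R₁.mul_mem hg ha) (R₁.inv_mem hg)

end dp

variable {Ω : Type} [Fintype Ω] [DecidableEq Ω]

open Classical in
theorem mem_of_link_inv {T : Finset (Perm Ω)} (hT : Pairing T) (pr : Perm Ω → Perm Ω)
    (hpr1 : ∀ t ∈ T, pr t ∈ T) (hpr2 : ∀ t ∈ T, pr (pr t) = t) (hpr6 : ∀ t ∈ T, pr t ≠ t)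
    (H : Subgroup (Perm Ω)) (hH : ∀ t ∈ T, t * pr t ∈ H) :
    ∀ (n : ℕ) (x : Perm Ω), (T.filter (fun t => mv x t)).card = n → Cen T x →
      (∀ t ∈ T, mv x t ↔ mv x (pr t)) → x ∈ H := by
  classical
  intro n
  induction n using Nat.strong_induction_on with
  | _ n ih =>
  intro x hn hx hinv
  by_cases hex : ∃ t ∈ T, mv x t
  · obtain ⟨t, ht, hmt⟩ := hex
    have hpt := hpr1 t ht
    have hne := hpr6 t ht
    have hcp : Cen T (t * pr t) := cen_mul (cen_swap hT ht) (cen_swap hT hpt)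
    obtain ⟨x', hx'⟩ : ∃ x', x' = x * (t * pr t) := ⟨_, rfl⟩
    have hx'c : Cen T x' := by rw [hx']; exact cen_mul hx hcp
    have hmv' : ∀ s ∈ T, mv x' s ↔ ¬ (mv x s ↔ (s = t ∨ s = pr t)) := by
      intro s hs
      rw [hx', mv_mul hT hx hcp hs, mv_mul_swaps hT ht hpt hs (Ne.symm hne)]
    have hinv' : ∀ s ∈ T, mv x' s ↔ mv x' (pr s) := by
      intro s hs
      rw [hmv' s hs, hmv' (pr s) (hpr1 s hs)]
      have e1 : (pr s = t ∨ pr s = pr t) ↔ (s = t ∨ s = pr t) := by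
        constructor
        · rintro (h | h)
          · right; rw [← h, hpr2 s hs]
          · left
            have := congrArg pr h
            rwa [hpr2 s hs, hpr2 t ht] at this
        · rintro (h | h)
          · right; rw [h]
          · left; rw [h, hpr2 t ht]
      rw [e1, hinv s hs]
    have hlt : (T.filter (fun s => mv x' s)).card < n := by
      rw [← hn]
      apply Finset.card_lt_card
      rw [Finset.ssubset_iff_of_subset]
      · refine ⟨t, ?_, ?_⟩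
        · simp [ht, hmt]
        · simp only [Finset.mem_filter, not_and]
          intro _
          rw [hmv' t ht]
          simp [hmt]
      · intro s hs
        simp only [Finset.mem_filter] at hs ⊢
        refine ⟨hs.1, ?_⟩
        have := (hmv' s hs.1).1 hs.2
        by_contra hns
        apply this
        constructor
        · intro h; exact absurd h hns
        · rintro (rfl | rfl)
          · exact absurd hmt hns
          · exact absurd ((hinv t ht).1 hmt) hns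
    have hmem := ih _ hlt x' rfl hx'c hinv'
    have e : x = x' * (t * pr t) := by
      rw [hx', mul_assoc, cen_mul_self hT hcp, mul_one]
    rw [e]; exact H.mul_mem hmem (hH t ht)
  · push Not at hex
    have : x = 1 := cen_ext hT hx cen_one
      (fun t ht => ⟨fun h => absurd h (hex t ht), fun h => absurd h mv_one⟩)
    rw [this]; exact H.one_mem

theorem indecomp_even (P : Subgroup (Perm Ω))
    (hP2 : IsPGroup 2 P)
    (hcard : Nat.card P = 2 ^ ((Fintype.card Ω).factorial.factorization 2))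
    (h8 : 8 ≤ Fintype.card Ω)
    (hmod : Fintype.card Ω % 4 = 0 ∨ Fintype.card Ω % 4 = 1)
    (R₁ R₂ : Subgroup (Perm Ω)) (h1 : R₁ ≠ ⊥) (h2 : R₂ ≠ ⊥)
    (h : Cfsg.IsInternalDirectProduct R₁ R₂ (P ⊓ alternatingGroup Ω)) : False := by
  classical
  obtain ⟨T, hmemT, hT, hPT⟩ := exists_swap_pairing P hP2 hcard
  have hTc := hT.card
  have hTev : Even T.card := by rw [hTc]; exact ⟨Fintype.card Ω / 4, by omega⟩
  have hT4 : 4 ≤ T.card := by omega
  obtain ⟨pr, hpr1, hpr2, hpr3, hpr4, hpr5, hpr6⟩ := exists_partner P hP2 hcard hT hPT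
  have hpr6' := hpr6 hTev
  obtain ⟨PA, hPA⟩ : ∃ PA, PA = P ⊓ alternatingGroup Ω := ⟨_, rfl⟩
  rw [← hPA] at h
  have hPAP : PA ≤ P := by rw [hPA]; exact inf_le_left
  have hPAT : PA ≤ stabT T := hPAP.trans hPT
  have hsign : ∀ g ∈ PA, Perm.sign g = 1 := by
    intro g hg; rw [hPA] at hg; exact Perm.mem_alternatingGroup.1 hg.2
  have hmemPA : ∀ g ∈ P, Perm.sign g = 1 → g ∈ PA := by
    intro g hg hs; rw [hPA]; exact ⟨hg, Perm.mem_alternatingGroup.2 hs⟩
  have hTP : ∀ t ∈ T, t ∈ P := fun t ht => ((hmemT t).1 ht).1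
  have hts : ∀ t ∈ T, ∀ s ∈ T, t * s ∈ PA := by
    intro t ht s hs
    apply hmemPA _ (P.mul_mem (hTP t ht) (hTP s hs))
    rw [map_mul, sign_mem hT ht, sign_mem hT hs]; rfl
  have f3 : ∀ g ∈ PA, (∀ x ∈ PA, Cen T x → g * x = x * g) → Cen T g := by
    intro g hg hc
    apply cen_of_comm hT (by omega) (hPAT hg)
    intro t ht s hs hne
    have := hc (t * s) (hts t ht s hs) (cen_mul (cen_swap hT ht) (cen_swap hT hs))
    rw [this, mul_assoc, mul_inv_cancel, mul_one]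
  have hA : ∀ (A B : Subgroup (Perm Ω)), Cfsg.IsInternalDirectProduct A B PA →
      ∀ a ∈ PA, Cen T a → ∀ a₁ ∈ A, ∀ a₂ ∈ B, a = a₁ * a₂ → Cen T a₁ := by
    intro A B hAB a ha hac a₁ ha₁ a₂ ha₂ e
    apply f3 a₁ (hAB.1 ha₁)
    intro x hx hxc
    obtain ⟨x₁, hx₁, x₂, hx₂, ex⟩ := dp_exists hAB hx
    have hcomm := cen_comm hT hac hxc
    rw [e, ex] at hcomm
    have c1 := hAB.2.2.1 x₁ hx₁ a₂ ha₂
    have c2 := hAB.2.2.1 a₁ ha₁ x₂ hx₂
    have e' : (a₁ * x₁) * (a₂ * x₂) = (x₁ * a₁) * (x₂ * a₂) := by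
      calc (a₁ * x₁) * (a₂ * x₂) = a₁ * (x₁ * a₂) * x₂ := by group
        _ = a₁ * (a₂ * x₁) * x₂ := by rw [c1]
        _ = a₁ * a₂ * (x₁ * x₂) := by group
        _ = x₁ * x₂ * (a₁ * a₂) := hcomm
        _ = x₁ * (x₂ * a₁) * a₂ := by group
        _ = x₁ * (a₁ * x₂) * a₂ := by rw [c2]
        _ = (x₁ * a₁) * (x₂ * a₂) := by group
    obtain ⟨e1, _⟩ := dp_unique hAB (A.mul_mem ha₁ hx₁) (A.mul_mem hx₁ ha₁)
      (B.mul_mem ha₂ hx₂) (B.mul_mem hx₂ ha₂) e'
    rw [ex]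
    calc a₁ * (x₁ * x₂) = (a₁ * x₁) * x₂ := by group
      _ = (x₁ * a₁) * x₂ := by rw [e1]
      _ = x₁ * (a₁ * x₂) := by group
      _ = x₁ * (x₂ * a₁) := by rw [c2]
      _ = x₁ * x₂ * a₁ := by group
  have hlink : ∀ t ∈ T, ∃ c ∈ PA, c * t * c⁻¹ = pr t ∧ c * pr t * c⁻¹ = t ∧
      ∀ s ∈ T, s ≠ t → s ≠ pr t → c * s * c⁻¹ = s := by
    intro t ht
    obtain ⟨_, _, _, c, hc, e1, e2, e3⟩ := hpr3 t ht (hpr6' t ht)
    rcases Int.units_eq_one_or (Perm.sign c) with hs | hs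
    · exact ⟨c, hmemPA c hc hs, e1, e2, e3⟩
    · refine ⟨c * t, hmemPA _ (P.mul_mem hc (hTP t ht)) ?_, ?_, ?_, ?_⟩
      · rw [map_mul, hs, sign_mem hT ht]; rfl
      · have : c * t * t * (c * t)⁻¹ = c * t * c⁻¹ := by group
        rw [this, e1]
      · have hp := pair_comm hT ht (hpr1 t ht)
        have : c * t * pr t * (c * t)⁻¹ = c * (t * pr t * t⁻¹) * c⁻¹ := by group
        rw [this, hp, e2]
      · intro s hs h1 h2
        have hp := pair_comm hT ht hs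
        have : c * t * s * (c * t)⁻¹ = c * (t * s * t⁻¹) * c⁻¹ := by group
        rw [this, hp, e3 s hs h1 h2]
  have hne1 : ∀ t ∈ T, t * pr t ≠ 1 := by
    intro t ht h
    have := (mv_mul_swaps hT ht (hpr1 t ht) ht (Ne.symm (hpr6' t ht))).2 (Or.inl rfl)
    rw [h] at this
    exact mv_one this
  have key_type : ∀ (A B : Subgroup (Perm Ω)), Cfsg.IsInternalDirectProduct A B PA →
      ∀ t ∈ T, t * pr t ∈ A ∨ t * pr t ∈ B := by
    intro A B hAB t ht
    have hpt := hpr1 t ht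
    have hne := hpr6' t ht
    obtain ⟨c, hc, e1, e2, e3⟩ := hlink t ht
    have hcard2 : 0 < ((T.erase t).erase (pr t)).card := by
      have h1 := Finset.card_erase_of_mem ht
      have h2 : pr t ∈ T.erase t := Finset.mem_erase.2 ⟨hne, hpt⟩
      have h3 := Finset.card_erase_of_mem h2
      omega
    obtain ⟨s, hs⟩ := Finset.card_pos.1 hcard2
    have hs1 : s ≠ pr t := Finset.ne_of_mem_erase hs
    have hs2 : s ≠ t := Finset.ne_of_mem_erase (Finset.mem_of_mem_erase hs)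
    have hsT : s ∈ T := Finset.mem_of_mem_erase (Finset.mem_of_mem_erase hs)
    obtain ⟨b₁, hb₁, b₂, hb₂, eb⟩ := dp_exists hAB (hts t ht (pr t) hpt)
    obtain ⟨a₁, ha₁, a₂, ha₂, ea⟩ := dp_exists hAB (hts t ht s hsT)
    have hcb : Cen T (t * pr t) := cen_mul (cen_swap hT ht) (cen_swap hT hpt)
    have hca : Cen T (t * s) := cen_mul (cen_swap hT ht) (cen_swap hT hsT)
    have ha₁c := hA A B hAB _ (hts t ht s hsT) hca a₁ ha₁ a₂ ha₂ ea
    have hconj : c * (t * s) * c⁻¹ = (t * pr t) * (t * s) := by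
      have : c * (t * s) * c⁻¹ = (c * t * c⁻¹) * (c * s * c⁻¹) := by group
      rw [this, e1, e3 s hsT hs2 hs1]
      have hcm := cen_comm hT (cen_swap hT ht) (cen_swap hT hpt)
      have htt := cen_mul_self hT (cen_swap hT ht)
      calc pr t * s = pr t * (t * t) * s := by rw [htt, mul_one]
        _ = (pr t * t) * (t * s) := by group
        _ = (t * pr t) * (t * s) := by rw [hcm]
    have hn1 : c * a₁ * c⁻¹ ∈ A := dp_conj hAB hc ha₁
    have hn2 : c * a₂ * c⁻¹ ∈ B := dp_conj (dp_symm hAB) hc ha₂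
    have e' : (c * a₁ * c⁻¹) * (c * a₂ * c⁻¹) = (b₁ * a₁) * (b₂ * a₂) := by
      have c1 := hAB.2.2.1 a₁ ha₁ b₂ hb₂
      calc (c * a₁ * c⁻¹) * (c * a₂ * c⁻¹) = c * (a₁ * a₂) * c⁻¹ := by group
        _ = (t * pr t) * (t * s) := by rw [← ea, hconj]
        _ = (b₁ * b₂) * (a₁ * a₂) := by rw [eb, ea]
        _ = b₁ * (b₂ * a₁) * a₂ := by group
        _ = b₁ * (a₁ * b₂) * a₂ := by rw [c1]
        _ = (b₁ * a₁) * (b₂ * a₂) := by group
    obtain ⟨q1, _⟩ := dp_unique hAB hn1 (A.mul_mem hb₁ ha₁) hn2 (B.mul_mem hb₂ ha₂) e'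
    obtain ⟨l1, l2⟩ := link_conj hT (hPAT hc) ht hpt (Ne.symm hne) e1 e2 e3 ha₁c
    by_cases hm : (mv a₁ t ↔ mv a₁ (pr t))
    · have h5 : b₁ * a₁ = a₁ := by rw [← q1]; exact l1 hm
      have hb1 : b₁ = 1 := by simpa using h5
      right
      rw [eb, hb1, one_mul]; exact hb₂
    · have h5 : b₁ * a₁ = a₁ * (t * pr t) := by rw [← q1]; exact l2 hm
      have hcm := cen_comm hT ha₁c hcb
      rw [hcm] at h5
      have hb1 : b₁ = t * pr t := mul_right_cancel h5
      left; rw [← hb1]; exact hb₁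
  have key_fixed : ∀ (A B : Subgroup (Perm Ω)), Cfsg.IsInternalDirectProduct A B PA →
      ∀ t ∈ T, t * pr t ∈ A → ∀ k ∈ B, k * t * k⁻¹ = t := by
    intro A B hAB t ht htA h₀ hh₀
    by_contra hmove
    have hpt := hpr1 t ht
    have hne := hpr6' t ht
    have hh₀P : h₀ ∈ PA := hAB.2.1 hh₀
    have e0 : h₀ * t * h₀⁻¹ = pr t := by
      have hcomm := hAB.2.2.1 (t * pr t) htA h₀ hh₀
      have h5 : (h₀ * t * h₀⁻¹) * (h₀ * pr t * h₀⁻¹) = t * pr t := by
        calc (h₀ * t * h₀⁻¹) * (h₀ * pr t * h₀⁻¹) = h₀ * (t * pr t) * h₀⁻¹ := by group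
          _ = (t * pr t) * h₀ * h₀⁻¹ := by rw [hcomm]
          _ = t * pr t := by group
      have hne' : h₀ * t * h₀⁻¹ ≠ h₀ * pr t * h₀⁻¹ := by
        intro hh
        apply hne
        have := congrArg (fun z => h₀⁻¹ * z * h₀) hh
        simpa [mul_assoc] using this.symm
      rcases swap_mul_eq hT ((hPAT hh₀P) t ht).1 ((hPAT hh₀P) (pr t) hpt).1 ht hpt hne' h5
        with ⟨q, _⟩ | ⟨q, _⟩
      · exact absurd q hmove
      · exact q
    obtain ⟨c, hc, e1, e2, e3⟩ := hlink t ht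
    obtain ⟨g, hg, k, hk, ec⟩ := dp_exists hAB hc
    have hkc : Cen T k := by
      apply f3 k (hAB.2.1 hk)
      intro x hx hxc
      obtain ⟨x₁, hx₁, x₂, hx₂, ex⟩ := dp_exists hAB hx
      have hx₂c : Cen T x₂ := hA B A (dp_symm hAB) x hx hxc x₂ hx₂ x₁ hx₁
        (by rw [ex]; exact hAB.2.2.1 x₁ hx₁ x₂ hx₂)
      have hconj : c * x₂ * c⁻¹ = k * x₂ * k⁻¹ := by
        have hB : k * x₂ * k⁻¹ ∈ B := B.mul_mem (B.mul_mem hk hx₂) (B.inv_mem hk)
        have cm := hAB.2.2.1 g hg _ hB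
        calc c * x₂ * c⁻¹ = g * (k * x₂ * k⁻¹) * g⁻¹ := by rw [ec]; group
          _ = (k * x₂ * k⁻¹) * g * g⁻¹ := by rw [cm]
          _ = k * x₂ * k⁻¹ := by group
      obtain ⟨l1, l2⟩ := link_conj hT (hPAT hc) ht hpt (Ne.symm hne) e1 e2 e3 hx₂c
      have hfix : k * x₂ * k⁻¹ = x₂ := by
        by_cases hm : (mv x₂ t ↔ mv x₂ (pr t))
        · rw [← hconj]; exact l1 hm
        · exfalso
          have e5 : k * x₂ * k⁻¹ = x₂ * (t * pr t) := by rw [← hconj]; exact l2 hm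
          have h6 : t * pr t ∈ B := by
            have : t * pr t = x₂⁻¹ * (k * x₂ * k⁻¹) := by rw [e5]; group
            rw [this]
            exact B.mul_mem (B.inv_mem hx₂) (B.mul_mem (B.mul_mem hk hx₂) (B.inv_mem hk))
          have hbot : t * pr t ∈ A ⊓ B := ⟨htA, h6⟩
          rw [hAB.2.2.2.1, Subgroup.mem_bot] at hbot
          exact hne1 t ht hbot
      have cm1 := hAB.2.2.1 x₁ hx₁ k hk
      rw [ex]
      calc k * (x₁ * x₂) = (k * x₁) * x₂ := by group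
        _ = (x₁ * k) * x₂ := by rw [cm1]
        _ = x₁ * (k * x₂ * k⁻¹) * k := by group
        _ = x₁ * x₂ * k := by rw [hfix]
    have eg : g = c * k⁻¹ := by rw [ec]; group
    have hgact : ∀ r ∈ T, g * r * g⁻¹ = c * r * c⁻¹ := by
      intro r hr
      have h5 := cen_inv hkc r hr
      rw [eg]
      calc c * k⁻¹ * r * (c * k⁻¹)⁻¹ = c * (k⁻¹ * r * k⁻¹⁻¹) * c⁻¹ := by group
        _ = c * r * c⁻¹ := by rw [h5]
    have hgP : g ∈ PA := hAB.1 hg
    have hgc : Cen T g := by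
      apply f3 g hgP
      intro x hx hxc
      obtain ⟨x₁, hx₁, x₂, hx₂, ex⟩ := dp_exists hAB hx
      have hx₁c : Cen T x₁ := hA A B hAB x hx hxc x₁ hx₁ x₂ hx₂ ex
      have hm : (mv x₁ t ↔ mv x₁ (pr t)) := by
        have cm := hAB.2.2.1 x₁ hx₁ h₀ hh₀
        have e6 : h₀ * x₁ * h₀⁻¹ = x₁ := by rw [← cm]; group
        have h7 := mv_conj h₀ x₁ t
        rw [e6, e0] at h7
        exact h7.symm
      obtain ⟨l1, _⟩ := link_conj hT (hPAT hgP) ht hpt (Ne.symm hne)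
        (by rw [hgact t ht, e1]) (by rw [hgact _ hpt, e2])
        (fun s hs h1 h2 => by rw [hgact s hs, e3 s hs h1 h2]) hx₁c
      have e7 := l1 hm
      have cm2 := hAB.2.2.1 g hg x₂ hx₂
      rw [ex]
      calc g * (x₁ * x₂) = (g * x₁ * g⁻¹) * (g * x₂) := by group
        _ = x₁ * (x₂ * g) := by rw [e7, cm2]
        _ = x₁ * x₂ * g := by group
    have h8' := hgc t ht
    rw [hgact t ht, e1] at h8'
    exact hne h8'
  have key_all : ∀ (A B : Subgroup (Perm Ω)), Cfsg.IsInternalDirectProduct A B PA → B ≠ ⊥ →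
      (∀ t ∈ T, t * pr t ∈ A) → False := by
    intro A B hAB hB hall
    have hBc : ∀ k ∈ B, Cen T k := fun k hk t ht => key_fixed A B hAB t ht (hall t ht) k hk
    obtain ⟨z, hz, hz1⟩ : ∃ z ∈ B, z ≠ 1 := by
      by_contra hcon
      push Not at hcon
      exact hB ((Subgroup.eq_bot_iff_forall B).2 hcon)
    have hzc : Cen T z := hBc z hz
    have hzcomm : ∀ x ∈ PA, x * z = z * x := by
      intro x hx
      obtain ⟨x₁, hx₁, x₂, hx₂, ex⟩ := dp_exists hAB hx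
      have c1 := hAB.2.2.1 x₁ hx₁ z hz
      have c2 := cen_comm hT (hBc x₂ hx₂) hzc
      rw [ex]
      calc x₁ * x₂ * z = x₁ * (x₂ * z) := by group
        _ = x₁ * (z * x₂) := by rw [c2]
        _ = (x₁ * z) * x₂ := by group
        _ = (z * x₁) * x₂ := by rw [c1]
        _ = z * (x₁ * x₂) := by group
    have hinv : ∀ t ∈ T, mv z t ↔ mv z (pr t) := by
      intro t ht
      obtain ⟨c, hc, e1, e2, e3⟩ := hlink t ht
      obtain ⟨_, l2⟩ := link_conj hT (hPAT hc) ht (hpr1 t ht) (Ne.symm (hpr6' t ht)) e1 e2 e3 hzc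
      by_contra hm
      have e5 := l2 hm
      have e6 : c * z * c⁻¹ = z := by rw [hzcomm c hc]; group
      rw [e6] at e5
      exact hne1 t ht (by simpa using e5.symm)
    have hzA : z ∈ A := mem_of_link_inv hT pr hpr1 hpr2 hpr6' A hall _ z rfl hzc hinv
    have hbot : z ∈ A ⊓ B := ⟨hzA, hz⟩
    rw [hAB.2.2.2.1, Subgroup.mem_bot] at hbot
    exact hz1 hbot
  by_cases hex1 : ∃ t ∈ T, t * pr t ∈ R₁
  · by_cases hex2 : ∃ s ∈ T, s * pr s ∈ R₂
    · obtain ⟨t, ht, htA⟩ := hex1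
      obtain ⟨s, hs, hsB⟩ := hex2
      have hfix2 := key_fixed R₁ R₂ h t ht htA
      have hfix1 := key_fixed R₂ R₁ (dp_symm h) s hs hsB
      obtain ⟨a₁, ha₁, a₂, ha₂, ea⟩ := dp_exists h (hts t ht s hs)
      have hca : Cen T (t * s) := cen_mul (cen_swap hT ht) (cen_swap hT hs)
      have ha₁c := hA R₁ R₂ h _ (hts t ht s hs) hca a₁ ha₁ a₂ ha₂ ea
      have ha₂c : Cen T a₂ := hA R₂ R₁ (dp_symm h) _ (hts t ht s hs) hca a₂ ha₂ a₁ ha₁
        (by rw [ea]; exact h.2.2.1 a₁ ha₁ a₂ ha₂)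
      obtain ⟨u, hu⟩ : ∃ u, u = a₁ * t := ⟨_, rfl⟩
      have huc : Cen T u := by rw [hu]; exact cen_mul ha₁c (cen_swap hT ht)
      have husign : Perm.sign u = -1 := by
        rw [hu, map_mul, hsign a₁ (h.1 ha₁), sign_mem hT ht, one_mul]
      have hu1 : ∀ g ∈ R₁, g * u * g⁻¹ = u := by
        intro g hg
        have hgT := hPAT (h.1 hg)
        obtain ⟨τ, hτ⟩ : ∃ τ, τ = g * t * g⁻¹ := ⟨_, rfl⟩
        have hτT : τ ∈ T := by rw [hτ]; exact (hgT t ht).1
        have E1 : g * (t * s) * g⁻¹ = τ * s := by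
          have : g * (t * s) * g⁻¹ = (g * t * g⁻¹) * (g * s * g⁻¹) := by group
          rw [this, hfix1 g hg, hτ]
        have cm := h.2.2.1 g hg a₂ ha₂
        have E2 : g * (t * s) * g⁻¹ = (g * a₁ * g⁻¹) * a₂ := by
          rw [ea]
          calc g * (a₁ * a₂) * g⁻¹ = (g * a₁ * g⁻¹) * (g * a₂) * g⁻¹ := by group
            _ = (g * a₁ * g⁻¹) * (a₂ * g) * g⁻¹ := by rw [cm]
            _ = (g * a₁ * g⁻¹) * a₂ := by group
        have E3 : g * a₁ * g⁻¹ = τ * s * a₂⁻¹ := by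
          have := E2.symm.trans E1
          rw [← this]; group
        have E4 : a₁ = t * s * a₂⁻¹ := by rw [ea]; group
        have key : g * u * g⁻¹ = (g * a₁ * g⁻¹) * τ := by rw [hu, hτ]; group
        rw [key, E3]
        have hsa : Cen T (s * a₂⁻¹) := cen_mul (cen_swap hT hs) (cen_inv ha₂c)
        have c1 := cen_comm hT (cen_swap hT hτT) hsa
        have c2 := cen_comm hT (cen_swap hT ht) hsa
        have s1 := cen_mul_self hT (cen_swap hT hτT)
        have s2 := cen_mul_self hT (cen_swap hT ht)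
        calc τ * s * a₂⁻¹ * τ = (τ * (s * a₂⁻¹)) * τ := by group
          _ = (s * a₂⁻¹) * τ * τ := by rw [c1]
          _ = (s * a₂⁻¹) * (τ * τ) := by group
          _ = (s * a₂⁻¹) * (t * t) := by rw [s1, s2]
          _ = ((s * a₂⁻¹) * t) * t := by group
          _ = (t * (s * a₂⁻¹)) * t := by rw [c2]
          _ = (t * s * a₂⁻¹) * t := by group
          _ = u := by rw [hu, ← E4]
      have hu2 : ∀ k ∈ R₂, k * u * k⁻¹ = u := by
        intro k hk
        have cm := h.2.2.1 a₁ ha₁ k hk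
        have h5 := hfix2 k hk
        rw [hu]
        calc k * (a₁ * t) * k⁻¹ = (k * a₁) * (t * k⁻¹) := by group
          _ = (a₁ * k) * (t * k⁻¹) := by rw [cm]
          _ = a₁ * (k * t * k⁻¹) := by group
          _ = a₁ * t := by rw [h5]
      have hinv : ∀ r ∈ T, mv u r ↔ mv u (pr r) := by
        intro r hr
        obtain ⟨c, hc, e1, e2, e3⟩ := hlink r hr
        obtain ⟨_, l2⟩ := link_conj hT (hPAT hc) hr (hpr1 r hr) (Ne.symm (hpr6' r hr)) e1 e2 e3 huc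
        by_contra hm
        have e5 := l2 hm
        obtain ⟨g, hg, k, hk, ec⟩ := dp_exists h hc
        have e6 : c * u * c⁻¹ = u := by
          rw [ec]
          calc g * k * u * (g * k)⁻¹ = g * (k * u * k⁻¹) * g⁻¹ := by group
            _ = g * u * g⁻¹ := by rw [hu2 k hk]
            _ = u := hu1 g hg
        rw [e6] at e5
        exact hne1 r hr (by simpa using e5.symm)
      have hmemAlt : u ∈ alternatingGroup Ω :=
        mem_of_link_inv hT pr hpr1 hpr2 hpr6' (alternatingGroup Ω)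
          (fun r hr => by
            rw [Perm.mem_alternatingGroup, map_mul, sign_mem hT hr, sign_mem hT (hpr1 r hr)]; rfl)
          _ u rfl huc hinv
      rw [Perm.mem_alternatingGroup, husign] at hmemAlt
      exact absurd hmemAlt (by decide)
    · push Not at hex2
      exact key_all R₁ R₂ h h2 (fun t ht => (key_type R₁ R₂ h t ht).resolve_right (hex2 t ht))
  · push Not at hex1
    exact key_all R₂ R₁ (dp_symm h) h1
      (fun t ht => (key_type R₁ R₂ h t ht).resolve_left (hex1 t ht))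

end Cfsg.Agent.Lib.helper2.SylAlt
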